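import Cfsg.Agent.H988.CPi
import Cfsg.Agent.Solvable.Hall
import Cfsg.Agent.S4309
import Cfsg.Prelude.Def_HallClasses

/-!
# Hall subgroups of odd order: reductions for S4350 (helper553)

* `OddC G` : for every set `π` of odd primes any two Hall `π`-subgroups of `G` are conjugate;
* `NS t X` : `X` has a normal Sylow `t`-subgroup; `PairN t s G` : every Hall `{s, t}`-subgroup of `G` has a
  normal Sylow `t`-subgroup;
* `conj_of_pairs` : if `2 ∉ π` and `PairN t s G` for all `s < t` in `π` dividing `|G|` then all Hall `π`-subgroups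
  are conjugate (they have a Sylow tower, the largest prime first);
* `conj_of_simple` : S4350 follows from `OddC S` for the non-abelian simple groups `S`.
-/

set_option autoImplicit false

namespace Cfsg.Agent.H553.OddHall

open Subgroup Cfsg Cfsg.Agent.H988.CPi
open scoped Pointwise

universe u

/-- For every set `π` of odd primes any two Hall `π`-subgroups are conjugate. -/
def OddC (G : Type*) [Group G] : Prop :=
  ∀ π : Set ℕ, 2 ∉ π → ∀ H K : Subgroup G, IsPiHall π H → IsPiHall π K → ∃ g : G, K = MulAut.conj g • H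

/-- `X` has a normal Sylow `t`-subgroup. -/
def NS (t : ℕ) (X : Type*) [Group X] : Prop :=
  ∃ T : Subgroup X, T.Normal ∧ IsPGroup t T ∧ ¬ t ∣ T.index

/-- Every Hall `{s, t}`-subgroup of `G` has a normal Sylow `t`-subgroup. -/
def PairN (t s : ℕ) (G : Type*) [Group G] : Prop :=
  ∀ X : Subgroup G, IsPiHall ({s, t} : Set ℕ) X → NS t X

theorem NS.of_surjective {t : ℕ} {X Z : Type*} [Group X] [Group Z] (f : X →* Z) (hf : Function.Surjective f)
    (h : NS t X) : NS t Z := by
  obtain ⟨T, hT, hp, hi⟩ := h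
  exact ⟨T.map f, hT.map f hf, hp.map f, fun hd => hi (hd.trans (index_map_dvd T hf))⟩

theorem NS.of_equiv {t : ℕ} {X Z : Type*} [Group X] [Group Z] (e : X ≃* Z) (h : NS t X) : NS t Z :=
  h.of_surjective e.toMonoidHom e.surjective

theorem ns_of_sylow {t : ℕ} {X : Type*} [Group X] [Finite X] [Fact t.Prime] (T : Sylow t X)
    (h : (T : Subgroup X).Normal) : NS t X :=
  ⟨T, h, T.2, T.not_dvd_index⟩

theorem NS.sylow_normal {t : ℕ} {X : Type*} [Group X] [Finite X] [Fact t.Prime] (h : NS t X) (T : Sylow t X) :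
    (T : Subgroup X).Normal := by
  obtain ⟨S, hS, hp, hi⟩ := h
  have h1 : (hp.toSylow hi : Subgroup X).Normal := hS
  have := Sylow.unique_of_normal _ h1
  have h2 : T = hp.toSylow hi := Subsingleton.elim _ _
  rw [h2]; exact h1

theorem PairN.of_sylow {t s : ℕ} {G : Type*} [Group G] [Finite G] (ht : t.Prime)
    (h : ∀ X : Subgroup G, IsPiHall ({s, t} : Set ℕ) X → ∃ T : Sylow t X, (T : Subgroup X).Normal) : PairN t s G := by
  intro X hX
  obtain ⟨T, hT⟩ := h X hX
  have := Fact.mk ht
  exact ns_of_sylow T hT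

theorem solvable_of_pi {X : Type*} [Group X] [Finite X] {π : Set ℕ} (h2 : 2 ∉ π) (h : PiN π (Nat.card X)) :
    Group.IsSolvable X := by
  apply Cfsg.Agent.S0205.result
  rw [← Nat.not_even_iff_odd, even_iff_two_dvd]
  exact fun hd => h2 (h 2 Nat.prime_two hd)

/-- Hall subgroups of a solvable group, in the `IsPiHall` form. -/
theorem exists_isPiHall {X : Type*} [Group X] [Finite X] (hX : Group.IsSolvable X) (π : Set ℕ) :
    ∃ Y : Subgroup X, IsPiHall π Y := by
  have := hX
  classical
  have hX0 : Nat.card X ≠ 0 := Nat.card_pos.ne'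
  -- the `π`-part of the order
  set m := (Nat.card X).factorization.prod fun p k => if p ∈ π then p ^ k else 1 with hm
  set n := (Nat.card X).factorization.prod fun p k => if p ∈ π then 1 else p ^ k with hn
  have hmn : Nat.card X = m * n := by
    conv_lhs => rw [← Nat.prod_factorization_pow_eq_self hX0]
    rw [hm, hn, ← Finsupp.prod_mul]
    refine Finsupp.prod_congr fun p _ => ?_
    by_cases h : p ∈ π <;> simp [h]
  have hmp : PiN π m := by
    intro p hp hd
    rw [hm, Finsupp.prod, hp.prime.dvd_finsetProd_iff] at hd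
    obtain ⟨q, hq, hd⟩ := hd
    split_ifs at hd with h
    · have hq' : q.Prime := Nat.prime_of_mem_primeFactors (by simpa using hq)
      rwa [(Nat.prime_dvd_prime_iff_eq hp hq').mp (hp.dvd_of_dvd_pow hd)]
    · exact absurd (Nat.dvd_one.mp hd) hp.one_lt.ne'
  have hnp : PiN' π n := by
    intro p hp hpπ hd
    rw [hn, Finsupp.prod, hp.prime.dvd_finsetProd_iff] at hd
    obtain ⟨q, hq, hd⟩ := hd
    split_ifs at hd with h
    · exact hp.one_lt.ne' (Nat.dvd_one.mp hd)
    · have hq' : q.Prime := Nat.prime_of_mem_primeFactors (by simpa using hq)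
      rw [← (Nat.prime_dvd_prime_iff_eq hp hq').mp (hp.dvd_of_dvd_pow hd)] at h
      exact h hpπ
  obtain ⟨Y, hY⟩ := Cfsg.Agent.Solvable.Hall.hall_exists m n hmn (hmp.coprime hnp)
  refine ⟨Y, ?_⟩
  rw [isPiHall_iff, hY]
  refine ⟨hmp, ?_⟩
  have h1 := Y.card_mul_index
  rw [hY, hmn] at h1
  have h2 : m ≠ 0 := by rintro h; rw [h, zero_mul] at hmn; exact hX0 hmn
  rwa [Nat.eq_of_mul_eq_mul_left (Nat.pos_of_ne_zero h2) h1]

/-- Hall subgroups of a Hall subgroup. -/
theorem isPiHall_trans {G : Type*} [Group G] [Finite G] {π σ : Set ℕ} (hσ : σ ⊆ π) {K : Subgroup G}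
    (hK : IsPiHall π K) {Y : Subgroup K} (hY : IsPiHall σ Y) : IsPiHall σ (Y.map K.subtype) := by
  rw [isPiHall_iff] at *
  refine ⟨?_, ?_⟩
  · rw [card_map_of_injective K.subtype_injective]; exact hY.1
  · have h1 : (Y.map K.subtype).index = Y.index * K.index := by
      have := index_map Y K.subtype
      rwa [K.ker_subtype, sup_bot_eq, range_subtype] at this
    rw [h1]
    exact PiN'.mul hY.2 fun p hp h => hK.2 p hp (hσ h)

theorem ns_map_subtype {t : ℕ} {G : Type*} [Group G] {K : Subgroup G} {Y : Subgroup K}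
    (h : NS t (Y.map K.subtype)) : NS t Y :=
  h.of_equiv (Y.equivMapOfInjective K.subtype K.subtype_injective).symm

/-- The Sylow subgroup for the prime of largest rank is normal in each Hall subgroup. -/
theorem ns_of_pairs {G : Type*} [Group G] [Finite G] {π : Set ℕ} (h2 : 2 ∉ π) {t : ℕ} (ht : t.Prime)
    (htπ : t ∈ π) (hpair : ∀ s, s.Prime → s ∈ π → s ≠ t → s ∣ Nat.card G → PairN t s G) {K : Subgroup G}
    (hK : IsPiHall π K) : NS t K := by
  have := Fact.mk ht
  have hsol := solvable_of_pi h2 hK.1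
  obtain ⟨T⟩ : Nonempty (Sylow t K) := inferInstance
  apply ns_of_sylow T
  rw [← normalizer_eq_top_iff, ← index_eq_one]
  by_contra hne
  obtain ⟨s, hs, hsd⟩ := Nat.exists_prime_and_dvd hne
  have hsK : s ∣ Nat.card K := hsd.trans (index_dvd_card _)
  have hsπ : s ∈ π := hK.1 s hs hsK
  rcases eq_or_ne s t with rfl | hst
  · exact T.not_dvd_index (hsd.trans (index_dvd_of_le le_normalizer))
  · obtain ⟨X, hX⟩ := exists_isPiHall hsol ({s, t} : Set ℕ)
    have hX1 := isPiHall_trans (σ := ({s, t} : Set ℕ)) (by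
      rintro x (rfl | rfl) <;> assumption) hK hX
    have h1 : NS t X := ns_map_subtype (hpair s hs hsπ hst (hsK.trans (card_subgroup_dvd_card K)) _ hX1)
    obtain ⟨S, hS, hSp, hSi⟩ := h1
    have hSp' : IsPGroup t (S.map X.subtype) := hSp.map _
    have hSi' : ¬ t ∣ (S.map X.subtype).index := by
      have h3 : (S.map X.subtype).index = S.index * X.index := by
        have := index_map S X.subtype
        rwa [X.ker_subtype, sup_bot_eq, range_subtype] at this
      rw [h3, ht.dvd_mul, not_or]
      exact ⟨hSi, hX.2 t ht (by simp)⟩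
    have hle : X ≤ normalizer (S.map X.subtype : Set K) := by
      have h4 : (S.map X.subtype).subgroupOf X = S := by
        rw [subgroupOf, comap_map_eq_self_of_injective X.subtype_injective]
      have h5 : ((S.map X.subtype).subgroupOf X).Normal := by rw [h4]; exact hS
      exact normal_subgroupOf_iff_le_normalizer (map_subtype_le S) |>.mp h5
    have h6 : (normalizer (S.map X.subtype : Set K)).index = (normalizer ((T : Subgroup K) : Set K)).index := by
      have e1 : Nat.card (Sylow t K) = (normalizer (S.map X.subtype : Set K)).index :=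
        Sylow.card_eq_index_normalizer (hSp'.toSylow hSi')
      have e2 : Nat.card (Sylow t K) = (normalizer ((T : Subgroup K) : Set K)).index :=
        Sylow.card_eq_index_normalizer T
      rw [← e2, e1]
    rw [← h6] at hsd
    exact hX.2 s hs (by simp) (hsd.trans (index_dvd_of_le hle))

/-- Passage to `N_G(T) / T`. -/
theorem pair_quot {G : Type*} [Group G] [Finite G] {t s r : ℕ} (hr : r.Prime)
    (hsr : s ≠ r) (htr : t ≠ r) {N : Subgroup G} (hNs : ¬ s ∣ N.index) (hNt : ¬ t ∣ N.index) (hs : s.Prime)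
    (ht : t.Prime) (R : Subgroup N) [R.Normal] (hR : IsPGroup r R) (h : PairN t s G) : PairN t s (N ⧸ R) := by
  have := Fact.mk hr
  intro X hX
  obtain ⟨k, hk⟩ := IsPGroup.iff_card.mp hR
  let Y : Subgroup N := X.comap (QuotientGroup.mk' R)
  have hRY : R ≤ Y := by
    intro x hx
    rw [mem_comap, QuotientGroup.mk'_apply, (QuotientGroup.eq_one_iff x).mpr hx]
    exact one_mem _
  have hYi : Y.index = X.index := index_comap_of_surjective X (QuotientGroup.mk'_surjective R)
  have hcX : Nat.card Y = r ^ k * Nat.card X := by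
    have h1 := Y.card_mul_index
    have h2 := X.card_mul_index
    have h3 := R.card_mul_index
    have h4 : Nat.card (N ⧸ R) = R.index := rfl
    rw [hYi] at h1
    rw [h4] at h2
    have h5 : X.index ≠ 0 := index_ne_zero_of_finite
    apply Nat.eq_of_mul_eq_mul_right (Nat.pos_of_ne_zero h5)
    rw [h1, ← h3, hk, mul_assoc, h2]
  have hR' : Nat.card (R.subgroupOf Y) = r ^ k := by
    rw [Nat.card_congr (subgroupOfEquivOfLe hRY).toEquiv, hk]
  have hidx : (R.subgroupOf Y).index = Nat.card X := by
    have h1 := (R.subgroupOf Y).card_mul_index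
    rw [hR', hcX] at h1
    exact Nat.eq_of_mul_eq_mul_left (pow_pos hr.pos k) h1
  have hrX : ¬ r ∣ Nat.card X := by
    intro hd
    have := hX.1 r hr hd
    rcases this with h1 | h1
    · exact hsr h1.symm
    · exact htr h1.symm
  have hcop : (Nat.card (R.subgroupOf Y)).Coprime (R.subgroupOf Y).index := by
    rw [hR', hidx]
    exact ((Nat.Prime.coprime_iff_not_dvd hr).mpr hrX).pow_left k
  obtain ⟨C, hC⟩ := exists_right_complement'_of_coprime hcop
  have hCc : Nat.card C = Nat.card X := by rw [← hidx, hC.symm.index_eq_card]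
  have hCi : C.index = r ^ k := by rw [hC.index_eq_card, hR']
  -- the image of `C` in `G`
  let C1 : Subgroup N := C.map Y.subtype
  let C2 : Subgroup G := C1.map N.subtype
  have hC1i : C1.index = C.index * Y.index := by
    have := index_map C Y.subtype
    rwa [Y.ker_subtype, sup_bot_eq, range_subtype] at this
  have hC2i : C2.index = C1.index * N.index := by
    have := index_map C1 N.subtype
    rwa [N.ker_subtype, sup_bot_eq, range_subtype] at this
  have hC2 : IsPiHall ({s, t} : Set ℕ) C2 := by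
    rw [isPiHall_iff]
    refine ⟨?_, ?_⟩
    · rw [card_map_of_injective N.subtype_injective, card_map_of_injective Y.subtype_injective, hCc]
      exact hX.1
    · rw [hC2i, hC1i, hCi, hYi]
      refine PiN'.mul (PiN'.mul ?_ hX.2) ?_
      · rintro x hx (rfl | rfl) hd
        · exact hsr ((Nat.prime_dvd_prime_iff_eq hx hr).mp (hx.dvd_of_dvd_pow hd))
        · exact htr ((Nat.prime_dvd_prime_iff_eq hx hr).mp (hx.dvd_of_dvd_pow hd))
      · rintro x hx (rfl | rfl)
        · exact hNs
        · exact hNt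
  have h1 : NS t C := ns_map_subtype (ns_map_subtype (h C2 hC2))
  -- `C` maps onto `X`
  let f : C →* X := ((QuotientGroup.mk' R).comp (Y.subtype.comp C.subtype)).codRestrict X fun c => (c : Y).2
  refine h1.of_surjective f ?_
  rintro ⟨x, hx⟩
  obtain ⟨n, rfl⟩ := QuotientGroup.mk'_surjective R x
  have hn : n ∈ Y := hx
  obtain ⟨⟨a, c⟩, hac⟩ := hC.surjective ⟨n, hn⟩
  refine ⟨c, ?_⟩
  apply Subtype.ext
  have h2 : ((a : Y) : N) * ((c : Y) : N) = n := congrArg (fun y : Y => (y : N)) hac
  have h3 : ((a : Y) : N) ∈ R := a.2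
  change (QuotientGroup.mk' R) ((c : Y) : N) = QuotientGroup.mk' R n
  rw [← h2, map_mul]
  have h4 : QuotientGroup.mk' R ((a : Y) : N) = 1 := (QuotientGroup.eq_one_iff _).mpr h3
  rw [h4, one_mul]

/-- Sylow towers: `C_π` from the pairs. -/
theorem cpi_of_pairs (rk : ℕ → ℕ) (hrk : Function.Injective rk) (n : ℕ) : ∀ (G : Type u) [Group G] [Finite G],
    Nat.card G = n → ∀ π : Set ℕ, 2 ∉ π → IsEPiGroup π G →
    (∀ s t : ℕ, s.Prime → t.Prime → s ∈ π → t ∈ π → rk s < rk t → s ∣ Nat.card G → t ∣ Nat.card G → PairN t s G) →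
    IsCPiGroup π G := by
  induction n using Nat.strong_induction_on with
  | _ n ih =>
    intro G _ _ hn π h2 hE hpair
    by_cases hex : ∃ t : ℕ, t.Prime ∧ t ∈ π ∧ t ∣ Nat.card G
    swap
    · refine ⟨hE, fun H K hH hK => ?_⟩
      have key : ∀ L : Subgroup G, IsPiHall π L → L = ⊥ := by
        intro L hL
        rw [← card_eq_one]
        by_contra hne
        obtain ⟨p, hp, hd⟩ := Nat.exists_prime_and_dvd hne
        exact hex ⟨p, hp, hL.1 p hp hd, hd.trans (card_subgroup_dvd_card L)⟩
      refine ⟨1, ?_⟩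
      rw [key H hH, key K hK, Subgroup.map_bot]
    -- the prime of largest rank
    classical
    have hfin : ((Nat.card G).primeFactors.filter fun t => t ∈ π).Nonempty := by
      obtain ⟨t, ht, htπ, hd⟩ := hex
      exact ⟨t, by simp [ht, hd, htπ, Nat.card_pos.ne']⟩
    obtain ⟨t, htm, hmax⟩ := Finset.exists_max_image _ rk hfin
    rw [Finset.mem_filter, Nat.mem_primeFactors] at htm
    obtain ⟨⟨ht, htd, -⟩, htπ⟩ := htm
    have hmax' : ∀ s : ℕ, s.Prime → s ∈ π → s ∣ Nat.card G → s ≠ t → rk s < rk t := by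
      intro s hs hsπ hsd hst
      refine lt_of_le_of_ne (hmax s ?_) fun h => hst (hrk h)
      simp [hs, hsd, hsπ, Nat.card_pos.ne']
    have := Fact.mk ht
    have hNS : ∀ K : Subgroup G, IsPiHall π K → NS t K := fun K hK =>
      ns_of_pairs h2 ht htπ (fun s hs hsπ hst hsd => hpair s t hs ht hsπ htπ (hmax' s hs hsπ hsd hst) hsd htd) hK
    refine ⟨hE, fun H K hH hK => ?_⟩
    -- the normal Sylow subgroups
    have key : ∀ L : Subgroup G, IsPiHall π L → ∃ T : Sylow t G, L ≤ normalizer ((T : Subgroup G) : Set G) := by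
      intro L hL
      obtain ⟨T, hT, hTp, hTi⟩ := hNS L hL
      have h1 : IsPGroup t (T.map L.subtype) := hTp.map _
      have h3 : (T.map L.subtype).index = T.index * L.index := by
        have := index_map T L.subtype
        rwa [L.ker_subtype, sup_bot_eq, range_subtype] at this
      have h4 : ¬ t ∣ (T.map L.subtype).index := by
        rw [h3, ht.dvd_mul, not_or]
        exact ⟨hTi, hL.2 t ht htπ⟩
      refine ⟨h1.toSylow h4, ?_⟩
      have h5 : (T.map L.subtype).subgroupOf L = T := by
        rw [subgroupOf, comap_map_eq_self_of_injective L.subtype_injective]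
      have h6 : ((T.map L.subtype).subgroupOf L).Normal := by rw [h5]; exact hT
      exact normal_subgroupOf_iff_le_normalizer (map_subtype_le T) |>.mp h6
    obtain ⟨T1, hT1⟩ := key H hH
    obtain ⟨T2, hT2⟩ := key K hK
    obtain ⟨g, hg⟩ := MulAction.exists_smul_eq G T1 T2
    have hgN : MulAut.conj g • H ≤ normalizer ((T2 : Subgroup G) : Set G) := by
      rw [← hg]
      have h1 : ((g • T1 : Sylow t G) : Subgroup G) = MulAut.conj g • (T1 : Subgroup G) := rfl
      rw [h1]
      intro x hx
      rw [mem_smul_pointwise_iff_exists] at hx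
      obtain ⟨y, hy, rfl⟩ := hx
      have h2 := hT1 hy
      rw [mem_normalizer_iff] at h2 ⊢
      intro z
      rw [mem_pointwise_smul_iff_inv_smul_mem, mem_pointwise_smul_iff_inv_smul_mem, h2]
      have : y * ((MulAut.conj g)⁻¹ • z) * y⁻¹ = (MulAut.conj g)⁻¹ • (MulAut.conj g • y * z * (MulAut.conj g • y)⁻¹) := by
        simp only [smul_mul', smul_inv', inv_smul_smul]
      rw [this]
    set N := normalizer ((T2 : Subgroup G) : Set G) with hN
    have hNi : PiN' π N.index := PiN'.of_dvd hK.2 (index_dvd_of_le hT2)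
    -- the quotient
    have hTN : ((T2 : Subgroup G).subgroupOf N).Normal := normal_in_normalizer
    have hTp : IsPGroup t ((T2 : Subgroup G).subgroupOf N) := T2.2.comap_subtype
    have hHN : ∀ L : Subgroup G, IsPiHall π L → L ≤ N → IsPiHall π (L.subgroupOf N) := by
      intro L hL hLN
      rw [isPiHall_iff] at *
      refine ⟨?_, ?_⟩
      · rw [Nat.card_congr (subgroupOfEquivOfLe hLN).toEquiv]; exact hL.1
      · exact PiN'.of_dvd hL.2 (relIndex_dvd_index_of_le hLN)
    have hcardlt : Nat.card (N ⧸ (T2 : Subgroup G).subgroupOf N) < n := by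
      have h1 := ((T2 : Subgroup G).subgroupOf N).card_mul_index
      have h2 : Nat.card (N ⧸ (T2 : Subgroup G).subgroupOf N) = ((T2 : Subgroup G).subgroupOf N).index := rfl
      rw [h2]
      have h3 : 1 < Nat.card ((T2 : Subgroup G).subgroupOf N) := by
        rw [Nat.card_congr (subgroupOfEquivOfLe (le_normalizer : (T2 : Subgroup G) ≤ _)).toEquiv]
        have := T2.dvd_card_of_dvd_card htd
        rcases Nat.lt_or_ge 1 (Nat.card T2) with h | h
        · exact h
        · have h5 : Nat.card T2 = 1 := le_antisymm h Nat.card_pos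
          rw [h5] at this
          exact absurd (Nat.dvd_one.mp this) ht.one_lt.ne'
      have h4 : Nat.card N ≤ n := hn ▸ Nat.le_of_dvd Nat.card_pos (card_subgroup_dvd_card N)
      have h5 : 0 < ((T2 : Subgroup G).subgroupOf N).index := Nat.pos_of_ne_zero index_ne_zero_of_finite
      nlinarith
    have hQ : IsCPiGroup π (N ⧸ (T2 : Subgroup G).subgroupOf N) := by
      refine ih _ hcardlt _ rfl π h2 ?_ ?_
      · exact ⟨_, isPiHall_map_mk (hHN K hK hT2) _⟩
      · intro s r hs hr hsπ hrπ hsr hsd hrd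
        -- the primes differ from `t`
        have hti : ¬ t ∣ Nat.card (N ⧸ (T2 : Subgroup G).subgroupOf N) := by
          intro hd
          have h3 : ((T2 : Subgroup G).subgroupOf N).index ∣ (T2 : Subgroup G).index :=
            relIndex_dvd_index_of_le le_normalizer
          exact T2.not_dvd_index (hd.trans h3)
        have hst : s ≠ t := by rintro rfl; exact hti hsd
        have hrt : r ≠ t := by rintro rfl; exact hti hrd
        have hcd : Nat.card (N ⧸ (T2 : Subgroup G).subgroupOf N) ∣ Nat.card G :=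
          (card_quotient_dvd_card _).trans (card_subgroup_dvd_card N)
        exact pair_quot ht hst hrt (hNi s hs hsπ) (hNi r hr hrπ) hs hr _ hTp
          (hpair s r hs hr hsπ hrπ hsr (hsd.trans hcd) (hrd.trans hcd))
    have hCN : IsCPiGroup π N := cpi_of_normal_pi ((T2 : Subgroup G).subgroupOf N) (by
      intro p hp hd
      obtain ⟨k, hk⟩ := IsPGroup.iff_card.mp hTp
      rw [hk] at hd
      rw [(Nat.prime_dvd_prime_iff_eq hp ht).mp (hp.dvd_of_dvd_pow hd)]
      exact htπ) hQ
    obtain ⟨m, hm⟩ := hCN.2 _ _ (hHN _ (isPiHall_smul hH g) hgN) (hHN _ hK hT2)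
    refine ⟨m * g, ?_⟩
    rw [conj_eq] at hm ⊢
    have h1 := congrArg (Subgroup.map N.subtype) hm
    rw [subgroupOf_map_subtype, inf_eq_left.mpr hT2] at h1
    rw [h1, map_mul, mul_smul]
    ext x
    simp only [mem_map, mem_smul_pointwise_iff_exists]
    constructor
    · rintro ⟨y, ⟨z, hz, rfl⟩, rfl⟩
      rw [mem_subgroupOf, mem_smul_pointwise_iff_exists] at hz
      obtain ⟨w, hw, hwz⟩ := hz
      refine ⟨(z : G), ⟨w, hw, hwz⟩, ?_⟩
      simp
    · rintro ⟨y, ⟨w, hw, rfl⟩, rfl⟩
      have hmem : MulAut.conj g • w ∈ N := hgN (smul_mem_pointwise_smul w (MulAut.conj g) H hw)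
      refine ⟨MulAut.conj m • (⟨_, hmem⟩ : N), ⟨⟨_, hmem⟩, ?_, rfl⟩, by simp [mul_assoc]⟩
      rw [mem_subgroupOf]
      exact smul_mem_pointwise_smul w (MulAut.conj g) H hw

/-- The tower theorem (with an arbitrary injective rank of the primes). -/
theorem conj_of_pairs_rk {G : Type u} [Group G] [Finite G] (rk : ℕ → ℕ) (hrk : Function.Injective rk) (π : Set ℕ)
    (h2 : 2 ∉ π)
    (h : ∀ s t : ℕ, s.Prime → t.Prime → s ∈ π → t ∈ π → rk s < rk t → s ∣ Nat.card G → t ∣ Nat.card G → PairN t s G)
    {H K : Subgroup G} (hH : IsPiHall π H) (hK : IsPiHall π K) : ∃ g : G, K = MulAut.conj g • H := by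
  obtain ⟨g, hg⟩ := (cpi_of_pairs rk hrk _ G rfl π h2 ⟨H, hH⟩ h).2 H K hH hK
  exact ⟨g, by rw [hg, conj_eq]⟩

/-- The tower theorem, the largest prime first. -/
theorem conj_of_pairs {G : Type u} [Group G] [Finite G] (π : Set ℕ) (h2 : 2 ∉ π)
    (h : ∀ s t : ℕ, s.Prime → t.Prime → s ∈ π → t ∈ π → s < t → s ∣ Nat.card G → t ∣ Nat.card G → PairN t s G)
    {H K : Subgroup G} (hH : IsPiHall π H) (hK : IsPiHall π K) : ∃ g : G, K = MulAut.conj g • H :=
  conj_of_pairs_rk id Function.injective_id π h2 h hH hK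

theorem three_le {s : ℕ} (hs : s.Prime) (h : s ≠ 2) : 3 ≤ s := by
  have := hs.two_le
  omega

/-- `OddC` from the pairs (any injective rank of the primes). -/
theorem oddC_of_pairs_rk {G : Type u} [Group G] [Finite G] (rk : ℕ → ℕ) (hrk : Function.Injective rk)
    (h : ∀ s t : ℕ, s.Prime → t.Prime → 3 ≤ s → 3 ≤ t → rk s < rk t → s ∣ Nat.card G → t ∣ Nat.card G → PairN t s G) :
    OddC G := fun π h2 _ _ hH hK =>
  conj_of_pairs_rk rk hrk π h2 (fun s t hs ht hsπ htπ hst hsd htd =>
    h s t hs ht (three_le hs fun h => h2 (h ▸ hsπ)) (three_le ht fun h => h2 (h ▸ htπ)) hst hsd htd) hH hK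

/-- `OddC` from the pairs. -/
theorem oddC_of_pairs {G : Type u} [Group G] [Finite G]
    (h : ∀ s t : ℕ, s.Prime → t.Prime → 3 ≤ s → s < t → s ∣ Nat.card G → t ∣ Nat.card G → PairN t s G) :
    OddC G :=
  oddC_of_pairs_rk id Function.injective_id fun s t hs ht h3 _ hst hsd htd => h s t hs ht h3 hst hsd htd

/-- `OddC` for a group with a special prime `p` (the characteristic): the case `p ∈ π` and the pairs of primes
different from `p`. -/
theorem oddC_of_char {G : Type u} [Group G] [Finite G] (p : ℕ)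
    (hp : ∀ π : Set ℕ, 2 ∉ π → p ∈ π → ∀ H K : Subgroup G, IsPiHall π H → IsPiHall π K →
      ∃ g : G, K = MulAut.conj g • H)
    (h : ∀ s t : ℕ, s.Prime → t.Prime → s ≠ p → t ≠ p → 3 ≤ s → s < t → s ∣ Nat.card G → t ∣ Nat.card G →
      PairN t s G) : OddC G := by
  intro π h2 H K hH hK
  by_cases hpπ : p ∈ π
  · exact hp π h2 hpπ H K hH hK
  · exact conj_of_pairs π h2 (fun s t hs ht hsπ htπ hst hsd htd =>
      h s t hs ht (fun e => hpπ (e ▸ hsπ)) (fun e => hpπ (e ▸ htπ)) (three_le hs fun h => h2 (h ▸ hsπ)) hst hsd htd)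
      hH hK

/-! ### Transfer of `PairN` -/

/-- `PairN` passes to images with solvable kernel. -/
theorem PairN.of_surjective {t s : ℕ} {G G' : Type*} [Group G] [Finite G] [Group G'] (f : G →* G')
    (hf : Function.Surjective f) (hker : Group.IsSolvable f.ker) (hs2 : s ≠ 2)
    (ht2 : t ≠ 2) (h : PairN t s G) : PairN t s G' := by
  intro X hX
  have : Finite G' := Finite.of_surjective f hf
  let Y : Subgroup G := X.comap f
  have hYi : Y.index = X.index := index_comap_of_surjective X hf
  have hXs : Group.IsSolvable X := by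
    refine solvable_of_pi (π := ({s, t} : Set ℕ)) ?_ hX.1
    rintro (h | h)
    · exact hs2 h.symm
    · exact ht2 h.symm
  -- the preimage is solvable
  let g : Y →* X := (f.comp Y.subtype).codRestrict X fun y => y.2
  have hg : Function.Surjective g := by
    rintro ⟨x, hx⟩
    obtain ⟨y, rfl⟩ := hf x
    exact ⟨⟨y, hx⟩, rfl⟩
  have hYs : Group.IsSolvable Y := by
    have hgk : Group.IsSolvable g.ker := by
      have h1 : ∀ y : g.ker, f ((y : Y) : G) = 1 := fun y => congrArg Subtype.val y.2
      let j : g.ker →* f.ker := (Y.subtype.comp g.ker.subtype).codRestrict f.ker h1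
      have hj : Function.Injective j := by
        intro a b hab
        apply Subtype.ext
        apply Subtype.ext
        exact congrArg (fun z : f.ker => (z : G)) hab
      exact Group.isSolvable_of_isSolvable_injective hj
    exact Group.isSolvable_of_ker_le_range g.ker.subtype g (by simp)
  obtain ⟨C, hC⟩ := exists_isPiHall hYs ({s, t} : Set ℕ)
  have hC1 : IsPiHall ({s, t} : Set ℕ) (C.map Y.subtype) := by
    rw [isPiHall_iff] at *
    refine ⟨by rw [card_map_of_injective Y.subtype_injective]; exact hC.1, ?_⟩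
    have h1 : (C.map Y.subtype).index = C.index * Y.index := by
      have := index_map C Y.subtype
      rwa [Y.ker_subtype, sup_bot_eq, range_subtype] at this
    rw [h1, hYi]
    exact hC.2.mul hX.2
  have h1 : NS t C := ns_map_subtype (h _ hC1)
  -- `C` maps onto `X`
  have hmap : C.map g = ⊤ := by
    have h2 : (C.map g).index ∣ C.index := index_map_dvd C hg
    have h3 : (C.map g).index ∣ Nat.card X := index_dvd_card _
    rw [← index_eq_one]
    exact eq_one_of_both (π := ({s, t} : Set ℕ)) (PiN.of_dvd hX.1 h3) (PiN'.of_dvd hC.2 h2)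
  refine h1.of_surjective (g.comp C.subtype) ?_
  intro x
  have hx : x ∈ C.map g := by rw [hmap]; exact mem_top x
  obtain ⟨c, hc, rfl⟩ := hx
  exact ⟨⟨c, hc⟩, rfl⟩

theorem PairN.of_equiv {t s : ℕ} {G G' : Type*} [Group G] [Finite G] [Group G'] (e : G ≃* G') (h : PairN t s G) :
    PairN t s G' := by
  intro X hX
  have h1 : IsPiHall ({s, t} : Set ℕ) (X.map e.symm.toMonoidHom) := by
    refine ⟨?_, ?_⟩
    · rw [card_map_of_injective e.symm.injective]; exact hX.1
    · have := index_map_equiv X e.symm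
      rw [show (X.map e.symm.toMonoidHom).index = X.index from this]
      exact hX.2
  exact (h _ h1).of_equiv (X.equivMapOfInjective _ e.symm.injective).symm

/-- `PairN` for a group with a Hall `{s, t}`-subgroup condition void (for instance one of the primes does not divide
the order). -/
theorem PairN.of_not_dvd {t s : ℕ} {G : Type*} [Group G] [Finite G] (ht : t.Prime)
    (h : ¬ t ∣ Nat.card G ∨ ¬ s ∣ Nat.card G) : PairN t s G := by
  intro X hX
  rcases h with h | h
  · refine ⟨⊥, inferInstance, IsPGroup.of_bot, ?_⟩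
    rw [index_bot]
    exact fun hd => h (hd.trans (card_subgroup_dvd_card X))
  · refine ⟨⊤, inferInstance, ?_, by rw [index_top]; exact ht.one_lt.ne' ∘ Nat.dvd_one.mp⟩
    have := Fact.mk ht
    apply IsPGroup.to_subgroup
    rw [IsPGroup.iff_card]
    have h1 : ∀ p : ℕ, p.Prime → p ∣ Nat.card X → p = t := by
      intro p hp hd
      rcases hX.1 p hp hd with h' | h'
      · exact absurd (h' ▸ hd.trans (card_subgroup_dvd_card X)) h
      · exact h'
    exact ⟨_, Nat.eq_prime_pow_of_unique_prime_dvd Nat.card_pos.ne' fun {p} hp hd => h1 p hp hd⟩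

/-! ### Reduction to simple groups -/

theorem OddC.of_equiv {G G' : Type*} [Group G] [Group G'] (e : G ≃* G') (h : OddC G) : OddC G' := by
  intro π h2 H K hH hK
  have key : ∀ X : Subgroup G', IsPiHall π X → IsPiHall π (X.map e.symm.toMonoidHom) := by
    intro X hX
    refine ⟨?_, ?_⟩
    · rw [card_map_of_injective e.symm.injective]; exact hX.1
    · rw [show (X.map e.symm.toMonoidHom).index = X.index from index_map_equiv X e.symm]
      exact hX.2
  obtain ⟨g, hg⟩ := h π h2 _ _ (key H hH) (key K hK)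
  refine ⟨e g, ?_⟩
  ext x
  rw [mem_pointwise_smul_iff_inv_smul_mem]
  have h1 : x ∈ K ↔ e.symm x ∈ K.map e.symm.toMonoidHom := by
    constructor
    · intro hx; exact ⟨x, hx, rfl⟩
    · rintro ⟨y, hy, hyx⟩
      have : y = x := e.symm.injective hyx
      rwa [← this]
  rw [h1, hg, mem_pointwise_smul_iff_inv_smul_mem]
  constructor
  · rintro ⟨y, hy, hyx⟩
    have h2 : y = (MulAut.conj (e g))⁻¹ • x := by
      apply e.symm.injective

      have h3 : e.symm y = (MulAut.conj g)⁻¹ • e.symm x := hyx
      rw [h3]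
      simp [MulAut.smul_def, ← map_inv]
    rwa [← h2]
  · intro hx
    refine ⟨_, hx, ?_⟩
    simp [MulAut.smul_def, ← map_inv]

/-- S4350 from the simple groups. -/
theorem cpi_of_simple (n : ℕ) (hS : ∀ (S : Type u) [Group S] [Finite S] [IsSimpleGroup S], ¬ IsMulCommutative S → OddC S) :
    ∀ (G : Type u) [Group G] [Finite G], Nat.card G = n → ∀ π : Set ℕ, 2 ∉ π → IsEPiGroup π G → IsCPiGroup π G := by
  induction n using Nat.strong_induction_on with
  | _ n ih =>
    intro G _ _ hn π h2 hE
    by_cases hsub : Subsingleton G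
    · refine ⟨hE, fun H K _ _ => ⟨1, Subsingleton.elim _ _⟩⟩
    have hnt : Nontrivial G := not_subsingleton_iff_nontrivial.mp hsub
    by_cases hsim : ∀ A : Subgroup G, A.Normal → A = ⊥ ∨ A = ⊤
    · have : IsSimpleGroup G := ⟨fun A hA => hsim A hA⟩
      by_cases hc : IsMulCommutative G
      · have := hc
        refine ⟨hE, fun H K hH hK => ⟨1, ?_⟩⟩
        -- abelian: Hall subgroups are equal
        have hHn : H.Normal := ⟨fun a ha g => by rwa [mul_comm' g a, mul_inv_cancel_right]⟩
        have hKn : K.Normal := ⟨fun a ha g => by rwa [mul_comm' g a, mul_inv_cancel_right]⟩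
        have h1 : K ≤ H := le_of_normal hH hK.1
        have h3 : H ≤ K := le_of_normal hK hH.1
        have h4 : H = K := le_antisymm h3 h1
        rw [conj_eq, map_one, one_smul, h4]
      · refine ⟨hE, fun H K hH hK => ?_⟩
        obtain ⟨g, hg⟩ := hS G hc π h2 H K hH hK
        exact ⟨g, by rw [hg, conj_eq]⟩
    · push Not at hsim
      obtain ⟨A, hA, hA1, hA2⟩ := hsim
      obtain ⟨H, hH⟩ := hE
      refine cpi_extension A ?_ ?_
      · refine ih _ ?_ A rfl π h2 ⟨_, isPiHall_subgroupOf hH A⟩
        rw [← hn]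
        exact lt_of_le_of_ne (Nat.le_of_dvd Nat.card_pos (card_subgroup_dvd_card A))
          fun h => hA2 (eq_top_of_card_eq A h)
      · refine ih _ ?_ (G ⧸ A) rfl π h2 ⟨_, isPiHall_map_mk hH A⟩
        rw [← hn]
        have h1 := A.card_mul_index
        have h3 : Nat.card (G ⧸ A) = A.index := rfl
        rw [h3]
        have h4 : 1 < Nat.card A := by
          rcases Nat.lt_or_ge 1 (Nat.card A) with h | h
          · exact h
          · exact absurd (card_eq_one.mp (le_antisymm h Nat.card_pos)) hA1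
        have h5 : 0 < A.index := Nat.pos_of_ne_zero index_ne_zero_of_finite
        nlinarith

/-- S4350 from the simple groups. -/
theorem conj_of_simple (hS : ∀ (S : Type u) [Group S] [Finite S] [IsSimpleGroup S], ¬ IsMulCommutative S → OddC S)
    {G : Type u} [Group G] [Finite G] (π : Set ℕ) (h2 : 2 ∉ π) {H K : Subgroup G} (hH : IsPiHall π H)
    (hK : IsPiHall π K) : ∃ g : G, K = MulAut.conj g • H := by
  obtain ⟨g, hg⟩ := (cpi_of_simple _ hS G rfl π h2 ⟨H, hH⟩).2 H K hH hK
  exact ⟨g, by rw [hg, conj_eq]⟩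

end Cfsg.Agent.H553.OddHall
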