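import Cfsg.Agent.H553.ExtRed
import Cfsg.Agent.H553.OddHall

/-!
# Criteria for `Good π S` (helper553)

`Good π S` : some `K ≤ S`, `K ≠ ⊥, ⊤`, with `Aut(S)`-invariant class is normalised by a Hall `π`-subgroup.

* `good_of_inv` : `K` is invariant under the automorphisms fixing a Sylow subgroup `R ≥ K`;
* `good_of_sylow` : a Hall `π`-subgroup normalises a Sylow `r`-subgroup, `r ∣ |S|`;
* `good_of_oddHall` : a Hall `π`-subgroup normalises a Hall `σ`-subgroup `K ≠ 1`, `2 ∉ σ` (uses `OddC S`, i.e. S4350);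
* `good_of_oddClosed` : some Hall `π`-subgroup has a normal 2-complement;
* `good_of_inner` : all automorphisms are inner.
-/

set_option autoImplicit false

namespace Cfsg.Agent.H553.ExtRed

open Subgroup Cfsg Cfsg.Agent.H988.CPi Cfsg.Agent.H553.OddHall
open scoped Pointwise

universe u

variable {π : Set ℕ}

/-- The product of two elements of odd order has odd order (i.e. the finite group has a normal 2-complement). -/
def OddClosed (X : Type*) [Group X] : Prop :=
  ∀ x y : X, Odd (orderOf x) → Odd (orderOf y) → Odd (orderOf (x * y))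

theorem odd_orderOf_of_pow {X : Type*} [Group X] {x : X} {n : ℕ} (hn : Odd n) (h : x ^ n = 1) :
    Odd (orderOf x) := by
  have := orderOf_dvd_of_pow_eq_one h
  exact Odd.of_dvd_nat hn this

/-- the normal 2-complement -/
def oddSub {X : Type*} [Group X] (h : OddClosed X) : Subgroup X where
  carrier := {x | Odd (orderOf x)}
  one_mem' := by simp
  mul_mem' := fun {a b} ha hb => h a b ha hb
  inv_mem' := fun {a} ha => by simpa using ha

theorem mem_oddSub {X : Type*} [Group X] (h : OddClosed X) {x : X} : x ∈ oddSub h ↔ Odd (orderOf x) := Iff.rfl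

theorem oddSub_normal {X : Type*} [Group X] (h : OddClosed X) : (oddSub h).Normal := by
  refine ⟨fun x hx g => ?_⟩
  rw [mem_oddSub] at hx ⊢
  have : orderOf (g * x * g⁻¹) = orderOf x := by
    have := orderOf_injective (MulAut.conj g).toMonoidHom (MulAut.conj g).injective x
    exact this
  rw [this]; exact hx

theorem odd_card_oddSub {X : Type*} [Group X] [Finite X] (h : OddClosed X) : Odd (Nat.card (oddSub h)) := by
  rw [← Nat.not_even_iff_odd, even_iff_two_dvd]
  intro hd
  obtain ⟨x, hx⟩ := exists_prime_orderOf_dvd_card' 2 hd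
  have h1 := x.2
  rw [mem_oddSub, orderOf_coe, hx] at h1
  exact absurd h1 (by decide)

theorem index_oddSub {X : Type*} [Group X] [Finite X] (h : OddClosed X) (p : ℕ) (hp : p.Prime)
    (hd : p ∣ (oddSub h).index) : p = 2 := by
  have := oddSub_normal h
  have := Fact.mk hp
  have hd' : p ∣ Nat.card (X ⧸ oddSub h) := hd
  obtain ⟨x, hx⟩ := exists_prime_orderOf_dvd_card' p hd'
  obtain ⟨x, rfl⟩ := QuotientGroup.mk'_surjective _ x
  by_contra hne
  -- the odd part of `x` lies in the complement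
  have hodd : Odd p := hp.odd_of_ne_two hne
  obtain ⟨k, m, hm, hkm⟩ := Nat.exists_eq_two_pow_mul_odd (orderOf_pos x).ne'
  have h1 : x ^ (2 ^ k) ∈ oddSub h := by
    rw [mem_oddSub]
    refine odd_orderOf_of_pow hm ?_
    rw [← pow_mul, ← hkm, pow_orderOf_eq_one]
  have h2 : (QuotientGroup.mk' (oddSub h) x) ^ (2 ^ k) = 1 := by
    rw [← map_pow]
    exact (QuotientGroup.eq_one_iff _).mpr h1
  have h3 := orderOf_dvd_of_pow_eq_one h2
  rw [hx] at h3
  have h4 := hp.dvd_of_dvd_pow h3
  exact hne ((Nat.prime_dvd_prime_iff_eq hp Nat.prime_two).mp h4)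

variable {S : Type*} [Group S] [Finite S]

theorem smul_eq_map (φ : MulAut S) (K : Subgroup S) : φ • K = K.map φ.toMonoidHom := by
  ext x
  simp only [mem_smul_pointwise_iff_exists, mem_map]
  rfl

theorem card_smul (φ : MulAut S) (K : Subgroup S) : Nat.card ↥(φ • K) = Nat.card K := by
  rw [smul_eq_map]; exact card_map_of_injective φ.injective

theorem isPiHall_aut {σ : Set ℕ} (φ : MulAut S) {K : Subgroup S} (h : IsPiHall σ K) : IsPiHall σ (φ • K) := by
  rw [smul_eq_map]
  exact ⟨PiN.of_dvd h.1 (card_map_dvd _ _), PiN'.of_dvd h.2 (index_map_dvd _ φ.surjective)⟩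

/-- not all of `S` is an `r`-group -/
theorem sylow_ne_top [IsSimpleGroup S] (hna : ¬ IsMulCommutative S) {r : ℕ} [Fact r.Prime] (R : Sylow r S) :
    (R : Subgroup S) ≠ ⊤ := by
  intro h
  apply hna
  have h1 : IsPGroup r S := by
    have := R.2
    rw [h] at this
    exact this.of_equiv topEquiv
  have h2 := h1.center_nontrivial
  have h3 : center S = ⊤ := (inferInstance : (center S).Normal).eq_bot_or_eq_top.resolve_left
    fun h => by rw [h] at h2; exact not_nontrivial _ h2
  exact ⟨⟨fun a b => (mem_center_iff.mp (h3 ▸ mem_top b : b ∈ center S) a)⟩⟩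

theorem good_of_inv [IsSimpleGroup S] (hna : ¬ IsMulCommutative S) {r : ℕ} [Fact r.Prime] (R : Sylow r S)
    (K : Subgroup S) (hKR : K ≤ R) (hK : K ≠ ⊥)
    (hinv : ∀ φ : MulAut S, φ • (R : Subgroup S) = R → φ • K = K)
    (H : Subgroup S) (hH : IsPiHall π H) (hHK : H ≤ normalizer (K : Set S)) : Good π S := by
  refine ⟨K, hK, fun h => sylow_ne_top hna R (top_le_iff.mp (h ▸ hKR)), fun φ => ?_, H, hH, hHK⟩
  -- `φ • R` is a Sylow subgroup
  obtain ⟨s, hs⟩ := MulAction.exists_smul_eq S R (φ • R)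
  refine ⟨s, ?_⟩
  have h1 : ((MulAut.conj s)⁻¹ * φ) • (R : Subgroup S) = R := by
    rw [mul_smul]
    have : φ • (R : Subgroup S) = MulAut.conj s • (R : Subgroup S) := by
      have := congrArg (fun Q : Sylow r S => (Q : Subgroup S)) hs
      exact this.symm
    rw [this, inv_smul_smul]
  have h2 := hinv _ h1
  rw [mul_smul, inv_smul_eq_iff] at h2
  exact h2

theorem good_of_sylow [IsSimpleGroup S] (hna : ¬ IsMulCommutative S) {r : ℕ} [Fact r.Prime] (R : Sylow r S)
    (hr : r ∣ Nat.card S) (H : Subgroup S) (hH : IsPiHall π H) (hHK : H ≤ normalizer ((R : Subgroup S) : Set S)) :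
    Good π S :=
  good_of_inv hna R R le_rfl (R.ne_bot_of_dvd_card hr) (fun _ h => h) H hH hHK

theorem good_of_oddHall [IsSimpleGroup S] (hna : ¬ IsMulCommutative S) (hodd : OddC S) {σ : Set ℕ} (h2 : 2 ∉ σ)
    (K : Subgroup S) (hK : IsPiHall σ K) (hK1 : K ≠ ⊥)
    (H : Subgroup S) (hH : IsPiHall π H) (hHK : H ≤ normalizer (K : Set S)) : Good π S := by
  refine ⟨K, hK1, ?_, fun φ => ?_, H, hH, hHK⟩
  · intro h
    apply hna
    have h1 : Group.IsSolvable S := by
      apply Cfsg.Agent.S0205.result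
      rw [← Nat.not_even_iff_odd, even_iff_two_dvd]
      intro hd
      refine h2 (hK.1 2 Nat.prime_two ?_)
      rw [h, card_top]
      exact hd
    exact ⟨⟨fun a b => IsSimpleGroup.comm_iff_isSolvable.mpr h1 a b⟩⟩
  · obtain ⟨s, hs⟩ := hodd σ h2 K (φ • K) hK (isPiHall_aut φ hK)
    exact ⟨s, hs⟩

theorem good_of_oddClosed [IsSimpleGroup S] (hna : ¬ IsMulCommutative S) (hodd : OddC S) 
    (H : Subgroup S) (hH : IsPiHall π H) (h2π : 2 ∈ π) (hcl : OddClosed H) : Good π S := by
  set K := (oddSub hcl).map H.subtype with hK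
  have hKH : K ≤ H := map_subtype_le _
  have hHK : H ≤ normalizer (K : Set S) := by
    have := oddSub_normal hcl
    have h1 : (K.subgroupOf H).Normal := by
      rw [hK, subgroupOf, comap_map_eq_self_of_injective H.subtype_injective]
      exact this
    exact (normal_subgroupOf_iff_le_normalizer hKH).mp h1
  have hKc : Nat.card K = Nat.card (oddSub hcl) := card_map_of_injective H.subtype_injective
  have hKi : K.relIndex H = (oddSub hcl).index := by
    show (K.subgroupOf H).index = _
    rw [hK, subgroupOf, comap_map_eq_self_of_injective H.subtype_injective]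
  have hodd2 := odd_card_oddSub hcl
  by_cases h1 : K = ⊥
  · -- `H` is a 2-group
    have h2 : ∀ p : ℕ, p.Prime → p ∣ Nat.card H → p = 2 := by
      intro p hp hd
      apply index_oddSub hcl p hp
      rw [← hKi, h1, relIndex_bot_left]
      exact hd
    have := Fact.mk Nat.prime_two
    have hp2 : IsPGroup 2 H := by
      rw [IsPGroup.iff_card]
      exact ⟨_, Nat.eq_prime_pow_of_unique_prime_dvd Nat.card_pos.ne' fun {p} hp hd => h2 p hp hd⟩
    have hi2 : ¬ 2 ∣ H.index := hH.2 2 Nat.prime_two h2π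
    refine good_of_sylow hna (hp2.toSylow hi2) ?_ H hH ?_
    · by_contra hd
      apply hna
      have h3 : Group.IsSolvable S := by
        apply Cfsg.Agent.S0205.result
        rw [← Nat.not_even_iff_odd, even_iff_two_dvd]
        exact hd
      exact ⟨⟨fun a b => IsSimpleGroup.comm_iff_isSolvable.mpr h3 a b⟩⟩
    · exact le_normalizer
  · refine good_of_oddHall hna hodd (σ := {p | p ∈ π ∧ p ≠ 2}) (fun h => h.2 rfl) K ?_ h1 H hH hHK
    refine ⟨?_, ?_⟩
    · intro p hp hd
      refine ⟨hH.1 p hp (hd.trans (card_dvd_of_le hKH)), ?_⟩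
      rintro rfl
      rw [hKc, ← even_iff_two_dvd, ← Nat.not_odd_iff_even] at hd
      exact hd hodd2
    · intro p hp hpπ hd
      rw [← relIndex_mul_index hKH] at hd
      rcases (hp.dvd_mul).mp hd with hd | hd
      · rw [hKi] at hd
        exact hpπ.2 (index_oddSub hcl p hp hd)
      · exact hH.2 p hp hpπ.1 hd

/-- groups all of whose automorphisms are inner -/
theorem good_of_inner (hin : ∀ φ : MulAut S, ∃ s : S, φ = MulAut.conj s) (H : Subgroup S)
    (hH : IsPiHall π H) (h1 : H ≠ ⊥) (h2 : H ≠ ⊤) : Good π S :=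
  ⟨H, h1, h2, fun φ => by obtain ⟨s, rfl⟩ := hin φ; exact ⟨s, rfl⟩, H, hH, le_normalizer⟩

theorem Good.of_equiv {S S' : Type*} [Group S] [Group S'] (e : S ≃* S') (h : Good π S) : Good π S' := by
  obtain ⟨K, hK1, hK2, hK3, H, hH, hHK⟩ := h
  refine ⟨K.map e.toMonoidHom, ?_, ?_, ?_, H.map e.toMonoidHom, ⟨?_, ?_⟩, ?_⟩
  · intro h
    exact hK1 ((Subgroup.map_eq_bot_iff_of_injective K e.injective).mp h)
  · intro h
    apply hK2
    rw [eq_top_iff]
    intro x _
    have : e x ∈ K.map e.toMonoidHom := by rw [h]; exact mem_top _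
    obtain ⟨y, hy, hyx⟩ := this
    rwa [← e.injective hyx]
  · intro φ
    let ψ : MulAut S := (e.trans φ).trans e.symm
    obtain ⟨s, hs⟩ := hK3 ψ
    refine ⟨e s, ?_⟩
    have h1 : φ • K.map e.toMonoidHom = (ψ • K).map e.toMonoidHom := by
      ext x
      simp only [mem_smul_pointwise_iff_exists, mem_map]
      constructor
      · rintro ⟨a, ⟨b, hb, rfl⟩, rfl⟩
        refine ⟨ψ b, ⟨b, hb, rfl⟩, ?_⟩
        show e (e.symm (φ (e b))) = φ (e b)
        simp
      · rintro ⟨a, ⟨b, hb, rfl⟩, rfl⟩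
        refine ⟨e b, ⟨b, hb, rfl⟩, ?_⟩
        show φ (e b) = e (e.symm (φ (e b)))
        simp
    rw [h1, hs, Cfsg.Agent.Solvable.SZ.map_conj_smul]
    rfl
  · rw [card_map_of_injective e.injective]; exact hH.1
  · rw [show (H.map e.toMonoidHom).index = H.index from index_map_equiv H e]
    exact hH.2
  · rintro _ ⟨x, hx, rfl⟩
    have hx' := hHK hx
    rw [mem_normalizer_iff] at hx' ⊢
    intro y
    constructor
    · rintro ⟨a, ha, rfl⟩
      exact ⟨x * a * x⁻¹, (hx' a).mp ha, by simp⟩
    · rintro ⟨a, ha, hay⟩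
      refine ⟨x⁻¹ * a * x, ?_, ?_⟩
      · rw [SetLike.mem_coe, hx']
        have h5 : x * (x⁻¹ * a * x) * x⁻¹ = a := by group
        rw [h5]
        exact ha
      · have : e a = e x * y * (e x)⁻¹ := hay
        show e (x⁻¹ * a * x) = y
        rw [map_mul, map_mul, map_inv, this]
        group

end Cfsg.Agent.H553.ExtRed
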