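import Cfsg.Agent.H553.OddAsm

/-!
# S4350 from the classification (helper553)
-/

set_option autoImplicit false

open Cfsg Subgroup
open scoped Pointwise
open Cfsg.Agent.H988.CPi Cfsg.Agent.H553.OddHall

namespace Cfsg.Agent.H553.ExtRed

universe u

/-- S4350 -/
theorem odd_final (hK : ∀ (S : Type u) [Group S] [Finite S] [IsSimpleGroup S], IsKnownSimple' S)
    {G : Type u} [Group G] [Finite G] (π : Set ℕ) (h2 : 2 ∉ π) (H K : Subgroup G) (hH : IsPiHall π H)
    (hK' : IsPiHall π K) : ∃ g : G, K = MulAut.conj g • H :=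
  conj_of_simple_ind (fun S _ _ _ hna hind => odd_known hna hind (hK S)) π h2 hH hK'

end Cfsg.Agent.H553.ExtRed
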