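import Cfsg.Agent.H572.ExcRow
import Cfsg.Agent.H565.RowP1
import Cfsg.Agent.H169.NoMinE7
import Cfsg.Agent.H574.ExcE8FiveB

/-!
# The exceptional rows of S4350, without hypotheses

* `oddC_isoE6`, `oddC_iso2E6`, `oddC_isoE7`, `oddC_isoE8` : `OddC G`.
-/

set_option autoImplicit false

namespace Cfsg.Agent.H553.ExcFull

open Subgroup Cfsg Cfsg.Lie Cfsg.Agent.H553.OddHall

universe u

variable {G : Type u} [Group G] [Finite G]

theorem oddC_isoE6 (h : Lie.IsoChevE6 G) : OddC G := by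
  refine H572.ExcRow.oddC_isoE6 (fun F _ _ h3 hq t ht h3t => ?_) h
  have : Fact t.Prime := ⟨ht⟩
  exact H565.RowP1.pairN_E6 h3 hq (by omega) (by omega)

theorem oddC_iso2E6 (h : Lie.Iso2E6 G) : OddC G := by
  refine H572.ExcRow.oddC_iso2E6 (fun F _ _ q h3 hq hF hq3 t ht h3t => ?_) h
  have : Fact t.Prime := ⟨ht⟩
  exact H565.RowP1.pairN_twE6 h3 hq hF hq3 (by omega) (by omega)

theorem oddC_isoE7 (h : Lie.IsoE7 G) : OddC G := by
  refine H572.ExcRow.oddC_isoE7 (fun F _ _ h5 hq => ?_) h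
  refine H565.NM.pairN_of_noMin (by norm_num) (by norm_num) (by norm_num) (by norm_num) (by norm_num) ?_
  refine H169.NoMinE7.noMin_e7_five_seven F (by exact_mod_cast h5) ?_
  rw [Nat.card_eq_fintype_card]
  intro h1
  have h2 : 1 ≤ Fintype.card F ^ 2 := Nat.one_le_pow _ _ Fintype.card_pos
  omega

theorem oddC_isoE8 (h : Lie.IsoE8 G) : OddC G := by
  refine H572.ExcRow.oddC_isoE8 (fun F _ _ h5 hq t ht h5t => ?_) h
  refine H574.ExcE8Five.pairN_E8_five hq ht ?_
  by_contra hlt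
  have : t = 6 := by omega
  rw [this] at ht
  exact absurd ht (by norm_num)

end Cfsg.Agent.H553.ExcFull
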