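import Cfsg.Agent.S2535
import Cfsg.Agent.H553.OddHall
import Cfsg.Prelude.Def_Classical

/-!
# The alternating row of S4350 (helper553)
-/

set_option autoImplicit false

namespace Cfsg.Agent.H553.OddAlt

open Subgroup Cfsg Cfsg.Agent.H553.OddHall Cfsg.Agent.H988.CPi

theorem oddC_alt (n : ℕ) : OddC (alternatingGroup (Fin n)) := by
  intro π _ H K hH hK
  obtain ⟨-, -, h⟩ := Cfsg.Agent.S2535.result n π
  obtain ⟨g, hg⟩ := (h.mp ⟨H, hH⟩).2 H K hH hK
  exact ⟨g, by rw [hg, conj_eq]⟩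

theorem oddC_alternating {G : Type*} [Group G] (h : IsAlternating G) : OddC G := by
  obtain ⟨n, -, ⟨e⟩⟩ := h
  exact (oddC_alt n).of_equiv e.symm

end Cfsg.Agent.H553.OddAlt
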