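import Cfsg.Agent.S2536
import Cfsg.Agent.H553.OddAlt
import Cfsg.Agent.H553.GoodLems

/-!
# The alternating row of S4312 (helper553)
-/

set_option autoImplicit false

namespace Cfsg.Agent.H553.ExtRed

open Subgroup Cfsg Cfsg.Agent.H988.CPi Cfsg.Agent.H553.OddHall
open scoped Pointwise

variable {π : Set ℕ}

theorem IsEPi_of_equiv {G G' : Type*} [Group G] [Group G'] (e : G ≃* G') (h : IsEPiGroup π G) : IsEPiGroup π G' := by
  obtain ⟨H, hH⟩ := h
  refine ⟨H.map e.toMonoidHom, ?_, ?_⟩
  · have : PiN π (Nat.card (H.map e.toMonoidHom)) := by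
      rw [card_map_of_injective e.injective]; exact hH.1
    exact this
  · have : PiN' π (H.map e.toMonoidHom).index := by
      rw [show (H.map e.toMonoidHom).index = H.index from index_map_equiv H e]; exact hH.2
    exact this

/-- A 2-group is `OddClosed`. -/
theorem oddClosed_of_two {X : Type*} [Group X] [Finite X] (h : ∀ p : ℕ, p.Prime → p ∣ Nat.card X → p = 2) :
    OddClosed X := by
  have key : ∀ x : X, Odd (orderOf x) → x = 1 := by
    intro x hx
    by_contra hne
    have h1 : orderOf x ≠ 1 := fun h => hne (orderOf_eq_one_iff.mp h)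
    obtain ⟨p, hp, hpd⟩ := Nat.exists_prime_and_dvd h1
    have := h p hp (hpd.trans (orderOf_dvd_natCard x))
    subst this
    rw [← Nat.not_even_iff_odd, even_iff_two_dvd] at hx
    exact hx hpd
  intro x y hx hy
  rw [key x hx, key y hy]
  simp

theorem good_alternating {S : Type*} [Group S] [Finite S] [IsSimpleGroup S] (hna : ¬ IsMulCommutative S)
    (h : IsAlternating S) (h2 : 2 ∈ π) (h3 : 3 ∉ π) (hE : IsEPiGroup π S) : Good π S := by
  obtain ⟨n, hn, ⟨e⟩⟩ := h
  have hEn : IsEPiGroup π (Equiv.Perm (Fin n)) := by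
    obtain ⟨-, h1, -⟩ := Cfsg.Agent.S2535.result n π
    exact h1.mpr (IsEPi_of_equiv e hE)
  have hp2 : ∀ p : ℕ, p.Prime → p ∈ π → p ≤ n → p = 2 := by
    intro p hp hpπ hpn
    by_contra hne
    have h5 := (Cfsg.Agent.S2536.result n π ⟨2, p, Nat.prime_two, hp, fun h => hne h.symm, h2, hpπ, by omega, hpn⟩
      ⟨3, Nat.prime_three, by omega, h3⟩).mp hEn
    rcases h5 with ⟨hnp, h6⟩ | ⟨hn78, h6⟩
    · have h7 := h6 3 Nat.prime_three (by omega)
      exact h3 (h7.mpr (by omega))
    · have h7 := h6 3 Nat.prime_three (by omega)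
      exact h3 (h7.mpr (Or.inr rfl))
  obtain ⟨H, hH⟩ := hE
  refine good_of_oddClosed hna (Cfsg.Agent.H553.OddAlt.oddC_alternating ⟨n, hn, ⟨e⟩⟩) H hH h2
    (oddClosed_of_two fun p hp hd => hp2 p hp (hH.1 p hp hd) ?_)
  -- `p` divides `n!`
  have h8 : Nat.card S ∣ n.factorial := by
    rw [Nat.card_congr e.toEquiv]
    have := card_subgroup_dvd_card (alternatingGroup (Fin n))
    rwa [Nat.card_eq_fintype_card (α := Equiv.Perm (Fin n)), Fintype.card_perm, Fintype.card_fin] at this
  exact (Nat.Prime.dvd_factorial hp).mp ((hd.trans (card_subgroup_dvd_card H)).trans h8)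

end Cfsg.Agent.H553.ExtRed
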