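import Cfsg.Agent.BpTab.Spor

/-!
# The 3-part of `C_M(x) ∩ C_M(t)`, `x` of order 3 and fixed rank 12, `t` not conjugate to `z` (helper553)

For S4350, the row `B`. The section of helper23's `BThreeCases` with `Good 3` replaced by the order.

* `three_pair` : products of two commuting transpositions of `Fi24'`: `3 ^ 10 ∤ |C(t)|`;
* `three_fi24` : the involutions of `Fi24'` not conjugate to one whose centralizer has order prime to 13;
* `three_fi` : `3 ^ 11 ∤ |C(x) ∩ C(t)|`, so `3 ^ 12 ∤`.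
-/

set_option autoImplicit false

namespace Cfsg.Agent.H553.BThreeFi

open Subgroup Cfsg Cfsg.Agent.LThree Cfsg.Agent.LThreeMB Cfsg.Agent.MonsterU Cfsg.Agent.MonsterU.Ch
open Cfsg.Agent.MonsterU.Lam2 (L2 IsType)
open Cfsg.Spor (Co1)
open Cfsg.Agent.LThreeB (XT mem_XT conj_comm' conjXT infEquiv ser_tt card_centralizer_congr dvd_pair)
open Cfsg.Agent.BpSpor.BThree.Cases

universe u

/-! ### `Fi24'` -/

/-- an odd power of a swap is a swap -/
theorem swap_pow {X : Type*} [Group X] {a b x : X} (h : x * a * x⁻¹ = b ∧ x * b * x⁻¹ = a) (n : ℕ) (hn : Odd n)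
    (h1 : x ^ n = 1) : a = b := by
  have h2 : ∀ m : ℕ, x ^ (2 * m) * a * (x ^ (2 * m))⁻¹ = a ∧ x ^ (2 * m) * b * (x ^ (2 * m))⁻¹ = b := by
    intro m
    induction m with
    | zero => simp
    | succ m ih =>
      have e : x ^ (2 * (m + 1)) = x * (x * x ^ (2 * m)) := by
        rw [show 2 * (m + 1) = 2 * m + 1 + 1 by ring, pow_succ', pow_succ']
      rw [e]
      constructor
      · calc x * (x * x ^ (2 * m)) * a * (x * (x * x ^ (2 * m)))⁻¹
            = x * (x * (x ^ (2 * m) * a * (x ^ (2 * m))⁻¹) * x⁻¹) * x⁻¹ := by group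
          _ = a := by rw [ih.1, h.1, h.2]
      · calc x * (x * x ^ (2 * m)) * b * (x * (x * x ^ (2 * m)))⁻¹
            = x * (x * (x ^ (2 * m) * b * (x ^ (2 * m))⁻¹) * x⁻¹) * x⁻¹ := by group
          _ = b := by rw [ih.2, h.2, h.1]
  obtain ⟨m, rfl⟩ := hn
  have e : x ^ (2 * m + 1) = x * x ^ (2 * m) := by rw [pow_succ']
  have h3 : x ^ (2 * m + 1) * a * (x ^ (2 * m + 1))⁻¹ = b := by
    rw [e]
    calc x * x ^ (2 * m) * a * (x * x ^ (2 * m))⁻¹
        = x * (x ^ (2 * m) * a * (x ^ (2 * m))⁻¹) * x⁻¹ := by group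
      _ = b := by rw [(h2 m).1, h.1]
  rw [h1] at h3
  simpa using h3

open Cfsg.Agent.R08 Cfsg.Agent.R08.FiTwentyFour in
/-- products of two commuting transpositions -/
theorem three_pair {a b : Spor.Fi24} (P : Cfsg.Agent.R08.TetFi24A.At a b) {t : Spor.Fi24'}
    (ht : (t : Spor.Fi24) = a * b) : ¬ 3 ^ 10 ∣ Nat.card ↥(centralizer ({t} : Set Spor.Fi24')) := by
  have : Fact (Nat.Prime 3) := ⟨Nat.prime_three⟩
  have := finite_Fi24
  have hf4 : Finite Spor.Fi24' := inferInstance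
  intro hd
  obtain ⟨K, hK⟩ := Sylow.exists_subgroup_card_pow_prime 3 hd
  have hle : K.map (centralizer ({t} : Set Spor.Fi24')).subtype ≤ CTwoTab.FiTF.N a b := by
    rintro _ ⟨g, hg, rfl⟩
    have hg1 : (g : ↥(centralizer ({t} : Set Spor.Fi24'))) ^ (3 ^ 10) = 1 := by
      have h1 : (⟨g, hg⟩ : K) ^ (3 ^ 10) = 1 := by rw [← hK]; exact pow_card_eq_one'
      exact congrArg Subtype.val h1
    have hg2 : ((g : Spor.Fi24') : Spor.Fi24) ^ (3 ^ 10) = 1 :=
      congrArg (fun y : ↥(centralizer ({t} : Set Spor.Fi24')) => ((y : Spor.Fi24') : Spor.Fi24)) hg1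
    rw [CTwoTab.FiTF.mem_N, mem_Cab]
    rcases CTwoTab.FiTF.fix_or_swap P ht g.2 with h1 | h1
    · refine ⟨mem_commutator_iff.1 (g : Spor.Fi24').2, mul_inv_eq_iff_eq_mul.1 h1.1, mul_inv_eq_iff_eq_mul.1 h1.2⟩
    · exact absurd (swap_pow h1 (3 ^ 10) (by decide) hg2) P.ne
  have h1 : 3 ^ 10 ∣ Nat.card ↥(CTwoTab.FiTF.N a b) := by
    refine dvd_trans ?_ (card_dvd_of_le hle)
    rw [Nat.card_congr (K.equivMapOfInjective _ (subtype_injective _)).symm.toEquiv, hK]
  rw [Nat.card_congr (CTwoTab.FiTF.eN a b).toEquiv, OddHalf.D4.Spor.FiTF.card_Cab P] at h1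
  revert h1
  decide

/-- **`Fi24'`**: `s` with `13` prime to `|C(s)|`, `t` not conjugate to `s`. -/
theorem three_fi24 {X : Type u} [Group X] (h : Spor.IsoFi24' X) {s t : X} (hs : orderOf s = 2)
    (h13 : ¬ 13 ∣ Nat.card ↥(centralizer ({s} : Set X))) (ht : orderOf t = 2) (hn : ¬ IsConj t s) :
    ¬ 3 ^ 10 ∣ Nat.card ↥(centralizer ({t} : Set X)) := by
  have := Cfsg.Agent.R08.FiTwentyFour.finite_Fi24
  have hf4 : Finite Spor.Fi24' := inferInstance
  obtain ⟨e⟩ := h
  have hfX : Finite X := Finite.of_equiv _ e.symm.toEquiv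
  have hes : orderOf (e s) = 2 := by rw [MulEquiv.orderOf_eq, hs]
  have het : orderOf (e t) = 2 := by rw [MulEquiv.orderOf_eq, ht]
  obtain ⟨g, hg⟩ : ∃ g : Spor.Fi24', e s = g * CTwoTab.FiTF.z0 * g⁻¹ := by
    rcases CTwoTab.FiTF.classes (e s) hes with ⟨a, b, P, h1⟩ | h1
    · exfalso
      apply h13
      rw [card_centralizer_congr e]
      exact dvd_pair P h1
    · exact h1
  rw [card_centralizer_congr e]
  rcases CTwoTab.FiTF.classes (e t) het with ⟨a, b, P, h1⟩ | ⟨k, hk⟩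
  · exact three_pair P h1
  · exfalso
    apply hn
    have h1 : IsConj (e t) (e s) := isConj_iff.2 ⟨g * k⁻¹, by rw [hk, hg]; group⟩
    obtain ⟨c, hc⟩ := isConj_iff.1 h1
    exact isConj_iff.2 ⟨e.symm c, e.injective (by
      rw [map_mul, map_mul, map_inv, e.apply_symm_apply, hc])⟩

/-! ### The group `C(x) / ⟨x⟩` -/

variable {G : Type u} [Group G]

/-- the order of `C(x) ∩ C(t)` from the centralizer of the image of `t` in `C(x)/⟨x⟩`. -/
theorem three_of_quot [Finite G] {x t : G} (hx : orderOf x = 3) (ht : orderOf t = 2) (htx : t * x = x * t) {n : ℕ}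
    (h : ¬ 3 ^ n ∣ Nat.card ↥(centralizer ({QuotientGroup.mk' (Zx x) (lf htx)} : Set (XX x)))) :
    ¬ 3 ^ (n + 1) ∣ Nat.card ↥(XT x t) := by
  have : Fact (Nat.Prime 3) := ⟨Nat.prime_three⟩
  have hc : (Nat.card ↥(Zx x)).Coprime 2 := by
    rw [LThreeB.card_Zx hx]
    norm_num
  have ho : orderOf (lf htx) = 2 := by rw [← ht, ← Subgroup.orderOf_coe]
  have h1 := Red.centralizer_mk Nat.prime_two (Zx x) hc ho
  have h2 : Nat.card ↥(XT x t) = Nat.card ↥(centralizer ({lf htx} : Set ↥(centralizer ({x} : Set G)))) :=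
    (Nat.card_congr (infEquiv htx).toEquiv).symm
  have hle : Zx x ≤ centralizer ({lf htx} : Set ↥(centralizer ({x} : Set G))) :=
    (Zx_le_center x).trans (center_le_centralizer _)
  have h3 : Nat.card ↥(centralizer ({lf htx} : Set ↥(centralizer ({x} : Set G)))) =
      3 * Nat.card ↥(centralizer ({QuotientGroup.mk' (Zx x) (lf htx)} : Set (XX x))) := by
    rw [h1]
    have h4 := card_mul_index ((QuotientGroup.mk' (Zx x)).subgroupMap
      (centralizer ({lf htx} : Set ↥(centralizer ({x} : Set G))))).ker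
    have h5 : (((QuotientGroup.mk' (Zx x)).subgroupMap
      (centralizer ({lf htx} : Set ↥(centralizer ({x} : Set G))))).ker).index =
      Nat.card ↥((centralizer ({lf htx} : Set ↥(centralizer ({x} : Set G)))).map (QuotientGroup.mk' (Zx x))) := by
      rw [index_ker, MonoidHom.range_eq_top.2 ((QuotientGroup.mk' (Zx x)).subgroupMap_surjective _), card_top]
    have h6 : Nat.card ↥(((QuotientGroup.mk' (Zx x)).subgroupMap
      (centralizer ({lf htx} : Set ↥(centralizer ({x} : Set G))))).ker) = 3 := by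
      rw [← LThreeB.card_Zx hx]
      have h7 : ((QuotientGroup.mk' (Zx x)).subgroupMap
          (centralizer ({lf htx} : Set ↥(centralizer ({x} : Set G))))).ker =
          (Zx x).subgroupOf (centralizer ({lf htx} : Set ↥(centralizer ({x} : Set G)))) := by
        ext y
        rw [MonoidHom.mem_ker, mem_subgroupOf]
        constructor
        · intro h8
          exact (QuotientGroup.eq_one_iff _).1 (congrArg Subtype.val h8)
        · intro h8
          exact Subtype.ext ((QuotientGroup.eq_one_iff _).2 h8)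
      rw [h7]
      exact Nat.card_congr (subgroupOfEquivOfLe hle).toEquiv
    rw [← h4, h5, h6]
  rw [h2, h3, pow_succ', Nat.mul_dvd_mul_iff_left (by norm_num)]
  exact h

/-! ### Fixed rank 12 -/

variable {Q : Subgroup G} {z : G} {eta : G → L2} {pi : Subgroup.centralizer ({z} : Set G) →* Co1}

/-- **Fixed rank 12**: `3 ^ 11 ∤ |C(x) ∩ C(t)|`. -/
theorem three_fi' [Finite G] [IsSimpleGroup G] (h : Chart Q z eta pi) (I : CoOne)
    {x : Subgroup.centralizer ({z} : Set G)} (hx : orderOf x = 3) (hfr : fr (pi x) = 2 ^ 12)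
    {t : G} (ht : orderOf t = 2) (htx : t * (x : G) = x * t) (hn : ∀ g : G, g * t * g⁻¹ ≠ z) :
    ¬ 3 ^ 11 ∣ Nat.card ↥(XT (x : G) t) := by
  have : Fact (Nat.Prime 3) := ⟨Nat.prime_three⟩
  obtain ⟨s, hs, hfs, hT, h4⟩ := I.psu
  obtain ⟨x', hx', hs', c, hc⟩ := exists_conj_to h hx hs (by rw [hfr]; exact I.twelve) (by rw [hfs, hfr])
  subst hs'
  obtain ⟨h1, -, h3⟩ := ser_tt.{u, u} h hx' hfs hT
  have hi := iso_fi24 h hx' hfs (by rw [hfs]; exact I.twelve) hT h4
  have hz : orderOf z = 2 := LargeExtra.Base.orderOf_z h.large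
  have hxG : orderOf (x' : G) = 3 := by rw [Subgroup.orderOf_coe, hx']
  have hzx : z * (x' : G) = x' * z := (mem_centralizer_singleton_iff.1 x'.2).symm
  have key : ∀ t' : G, orderOf t' = 2 → (∀ g : G, g * t' * g⁻¹ ≠ z) → (htx' : t' * (x' : G) = x' * t') →
      ¬ 3 ^ 11 ∣ Nat.card ↥(XT (x' : G) t') := by
    intro t' ht' hn' htx'
    refine three_of_quot hxG ht' htx' (three_fi24 hi h1 h3 (orderOf_mk_lf hxG ht' htx') ?_)
    intro hcon
    obtain ⟨g, hg⟩ := conj_of_isConj hxG hz ht' hzx htx' hcon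
    exact hn' g hg
  have e1 : c * (c⁻¹ * t * c) * c⁻¹ = t := by group
  have htx' : (c⁻¹ * t * c) * (x' : G) = x' * (c⁻¹ * t * c) := by
    have h5 := conj_comm' (g := c⁻¹) htx
    rw [inv_inv] at h5
    have e2 : c⁻¹ * (x : G) * c = x' := by rw [← hc]; group
    rwa [e2] at h5
  have ht' : orderOf (c⁻¹ * t * c) = 2 := by
    rw [← ht]
    conv_rhs => rw [← e1]
    exact (orderOf_injective (MulAut.conj c).toMonoidHom (MulAut.conj c).injective (c⁻¹ * t * c)).symm
  have h5 := key (c⁻¹ * t * c) ht' (fun g hg => hn (g * c⁻¹) (by rw [← hg]; group)) htx'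
  have e3 := conjXT c (x' : G) (c⁻¹ * t * c)
  rw [hc, e1] at e3
  rwa [Nat.card_congr e3.toEquiv] at h5

/-- **Fixed rank 12**. -/
theorem three_fi [Finite G] [IsSimpleGroup G] (h : Chart Q z eta pi) (I : CoOne)
    {x : Subgroup.centralizer ({z} : Set G)} (hx : orderOf x = 3) (hfr : fr (pi x) = 2 ^ 12)
    {t : G} (ht : orderOf t = 2) (htx : t * (x : G) = x * t) (hn : ∀ g : G, g * t * g⁻¹ ≠ z) :
    ¬ 3 ^ 12 ∣ Nat.card ↥(XT (x : G) t) :=
  fun hd => three_fi' h I hx hfr ht htx hn ((pow_dvd_pow 3 (by norm_num)).trans hd)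

end Cfsg.Agent.H553.BThreeFi
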