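import Cfsg.Agent.H553.GoodInv
import Cfsg.Agent.H14.InvTwoA
import Cfsg.Agent.H573.Hall.FiTwentyTwoB
import Cfsg.Agent.H573.Hall.FiTwentyFour
import Cfsg.Agent.NotCT.Orders
import Cfsg.Agent.S2060
import Cfsg.Agent.S2063
import Cfsg.Agent.S2064
import Cfsg.Agent.S2065
import Cfsg.Agent.S2068
import Cfsg.Agent.S2069
import Cfsg.Agent.S2070
import Cfsg.Agent.S2071
import Cfsg.Agent.S2076
import Cfsg.Agent.S2077
import Cfsg.Agent.S2080
import Cfsg.Agent.S2083
import Cfsg.Agent.S2084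
import Cfsg.Agent.S2085
import Cfsg.Prelude.Def_Classification2

/-!
# The sporadic rows of S4312 (helper553)

`SporB π S` collects the rows `Suz`, `Fi22`, `Fi24'`, `HN` of `H565/InvTwoB.lean`.
-/

set_option autoImplicit false

open Cfsg Subgroup
open scoped Pointwise
open Cfsg.Agent.H988.CPi Cfsg.Agent.H171.Odd

namespace Cfsg.Agent.H553.ExtRed

universe u v

/-- `Out = 1` -/
theorem inner_of_card_out {S : Type u} [Group S] {X : Type v} [Group X] (e : S ≃* X)
    (h : Nat.card (Cfsg.Out X) = 1) (φ : MulAut S) : ∃ s : S, φ = MulAut.conj s := by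
  set ψ : MulAut X := e.symm.trans (φ.trans e) with hψ
  have h1 : Subsingleton (Cfsg.Out X) := (Nat.card_eq_one_iff_unique.mp h).1
  have h2 : (QuotientGroup.mk ψ : Cfsg.Out X) = 1 := Subsingleton.elim _ _
  rw [QuotientGroup.eq_one_iff] at h2
  obtain ⟨x, hx⟩ := h2
  refine ⟨e.symm x, ?_⟩
  ext s
  have h3 := DFunLike.congr_fun hx (e s)
  apply e.injective
  have h4 : ψ (e s) = e (φ s) := by simp [hψ]
  rw [← h4, ← h3]
  simp

variable {π : Set ℕ} {S : Type u} [Group S] [Finite S] [IsSimpleGroup S]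

theorem good_of_out {X : Type v} [Group X] (hna : ¬ IsMulCommutative S) (hE : IsEPiGroup π S) (h2 : 2 ∈ π)
    (h : Nat.card (Cfsg.Out X) = 1) (e : Nonempty (S ≃* X)) : PiN π (Nat.card S) ∨ Good π S := by
  obtain ⟨e⟩ := e
  exact good_or_pi hE h2 (two_dvd_card hna) fun H hH h1 h3 => good_of_inner (inner_of_card_out e h) H hH h1 h3

theorem szc_ok {N : ℕ} (h : ¬ 2 ^ 22 ∣ N) (h2 : ¬ szc 2 ∣ N) (h3 : ¬ szc 3 ∣ N) (h4 : ¬ szc 4 ∣ N) (m : ℕ)
    (hm : 1 ≤ m) (hd : szc m ∣ N) : szc m = 29120 := by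
  rcases Nat.lt_or_ge m 5 with h5 | h5
  · interval_cases m
    · rfl
    · exact absurd hd h2
    · exact absurd hd h3
    · exact absurd hd h4
  · exfalso
    apply h
    refine dvd_trans ?_ hd
    unfold szc
    rw [mul_assoc]
    refine dvd_mul_of_dvd_left ?_ _
    rw [← pow_mul]
    exact pow_dvd_pow 2 (by omega)

theorem mem_of_dvd {r : ℕ} (hr : r.Prime) (L : List (ℕ × ℕ)) (hL : ∀ x ∈ L, x.1.Prime)
    (h : r ∣ (L.map fun x => x.1 ^ x.2).prod) : ∃ x ∈ L, r = x.1 := by
  induction L with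
  | nil =>
    rw [List.map_nil, List.prod_nil] at h
    exact absurd (Nat.dvd_one.mp h) hr.ne_one
  | cons a L ih =>
    rw [List.map_cons, List.prod_cons] at h
    rcases (hr.dvd_mul).1 h with h | h
    · exact ⟨a, List.mem_cons_self, (Nat.prime_dvd_prime_iff_eq hr (hL a List.mem_cons_self)).1 (hr.dvd_of_dvd_pow h)⟩
    · obtain ⟨x, hx, hrx⟩ := ih (fun x hx => hL x (List.mem_cons_of_mem _ hx)) h
      exact ⟨x, List.mem_cons_of_mem _ hx, hrx⟩

/-- the general theorem, with a factored order -/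
theorem good_of_list (hna : ¬ IsMulCommutative S) (hE : IsEPiGroup π S) (h2 : 2 ∈ π) (h3 : 3 ∉ π)
    {N : ℕ} (hc : Nat.card S = N) (hN0 : ¬ 2 ^ 22 ∣ N) (hN2 : ¬ szc 2 ∣ N) (hN3 : ¬ szc 3 ∣ N) (hN4 : ¬ szc 4 ∣ N)
    {a : ℕ} (h26 : 29120 ∣ N → ∀ x : S, orderOf x = 13 → ¬ 2 ^ a ∣ Nat.card (centralizer ({x} : Set S)))
    (h9 : 2 ^ (a + 6) ∣ N ∨ ¬ 29120 ∣ N) (h13 : ¬ 13 ^ 2 ∣ N)
    (L : List (ℕ × ℕ)) (hL : ∀ x ∈ L, x.1.Prime) (hLN : N = (L.map fun x => x.1 ^ x.2).prod)
    (hinv : ∀ x ∈ L, x.1 = 2 ∨ x.1 = 3 ∨ ¬ x.1 ^ 2 ∣ N ∨ Inv1 2 x.1 S) :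
    PiN π (Nat.card S) ∨ Good π S := by
  refine good_of_inv1 hna hE h2 h3 (a := a) (by rw [hc]; exact szc_ok hN0 hN2 hN3 hN4) (by rw [hc]; exact h26) ?_
    (by rw [hc]; exact fun _ => h13) ?_
  · rw [hc]
    intro h
    exact h9.resolve_right fun h' => h' h
  · intro r hr hr2 hr3 hd
    rw [hc] at hd
    obtain ⟨x, hx, rfl⟩ := mem_of_dvd hr L hL (hLN ▸ (dvd_trans (dvd_pow_self r two_ne_zero) hd))
    rcases hinv x hx with h | h | h | h
    · exact absurd h hr2
    · exact absurd h hr3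
    · exact absurd hd h
    · exact h

theorem good_m12 (h : Spor.IsoM12 S) (hna : ¬ IsMulCommutative S) (hE : IsEPiGroup π S) (h2 : 2 ∈ π) (h3 : 3 ∉ π) :
    PiN π (Nat.card S) ∨ Good π S := by
  refine good_of_list hna hE h2 h3 (NotCT.Orders.m12 h) (by norm_num) (by norm_num [szc]) (by norm_num [szc])
    (by norm_num [szc]) (a := 1) (fun h => absurd h (by norm_num)) (Or.inr (by norm_num)) (by norm_num) [(2, 6), (3, 3), (5, 1), (11, 1)]
    (by simp; norm_num) (by norm_num) ?_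
  intro x hx
  simp only [List.mem_cons, List.not_mem_nil, or_false] at hx
  rcases hx with rfl | rfl | rfl | rfl <;> norm_num

theorem good_m22 (h : Spor.IsoM22 S) (hna : ¬ IsMulCommutative S) (hE : IsEPiGroup π S) (h2 : 2 ∈ π) (h3 : 3 ∉ π) :
    PiN π (Nat.card S) ∨ Good π S := by
  refine good_of_list hna hE h2 h3 (NotCT.Orders.m22 h) (by norm_num) (by norm_num [szc]) (by norm_num [szc])
    (by norm_num [szc]) (a := 1) (fun h => absurd h (by norm_num)) (Or.inr (by norm_num)) (by norm_num)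
    [(2, 7), (3, 2), (5, 1), (7, 1), (11, 1)] (by simp; norm_num) (by norm_num) ?_
  intro x hx
  simp only [List.mem_cons, List.not_mem_nil, or_false] at hx
  rcases hx with rfl | rfl | rfl | rfl | rfl <;> norm_num

theorem good_j3 (h : Spor.IsoJ3 S) (hna : ¬ IsMulCommutative S) (hE : IsEPiGroup π S) (h2 : 2 ∈ π) (h3 : 3 ∉ π) :
    PiN π (Nat.card S) ∨ Good π S := by
  refine good_of_list hna hE h2 h3 (NotCT.Orders.j3 h) (by norm_num) (by norm_num [szc]) (by norm_num [szc])
    (by norm_num [szc]) (a := 1) (fun h => absurd h (by norm_num)) (Or.inr (by norm_num)) (by norm_num)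
    [(2, 7), (3, 5), (5, 1), (17, 1), (19, 1)] (by simp; norm_num) (by norm_num) ?_
  intro x hx
  simp only [List.mem_cons, List.not_mem_nil, or_false] at hx
  rcases hx with rfl | rfl | rfl | rfl | rfl <;> norm_num

theorem good_j2 (h : Spor.IsoJ2 S) (hna : ¬ IsMulCommutative S) (hE : IsEPiGroup π S) (h2 : 2 ∈ π) (h3 : 3 ∉ π) :
    PiN π (Nat.card S) ∨ Good π S := by
  refine good_of_list hna hE h2 h3 (NotCT.Orders.j2 h) (by norm_num) (by norm_num [szc]) (by norm_num [szc])
    (by norm_num [szc]) (a := 1) (fun h => absurd h (by norm_num)) (Or.inr (by norm_num)) (by norm_num)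
    [(2, 7), (3, 3), (5, 2), (7, 1)] (by simp; norm_num) (by norm_num) ?_
  intro x hx
  simp only [List.mem_cons, List.not_mem_nil, or_false] at hx
  rcases hx with rfl | rfl | rfl | rfl
  · norm_num
  · norm_num
  · exact Or.inr (Or.inr (Or.inr (H14.InvTwoA.inv_j2 h)))
  · norm_num

theorem good_hs (h : Spor.IsoHS S) (hna : ¬ IsMulCommutative S) (hE : IsEPiGroup π S) (h2 : 2 ∈ π) (h3 : 3 ∉ π) :
    PiN π (Nat.card S) ∨ Good π S := by
  refine good_of_list hna hE h2 h3 (NotCT.Orders.hs h) (by norm_num) (by norm_num [szc]) (by norm_num [szc])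
    (by norm_num [szc]) (a := 1) (fun h => absurd h (by norm_num)) (Or.inr (by norm_num)) (by norm_num)
    [(2, 9), (3, 2), (5, 3), (7, 1), (11, 1)] (by simp; norm_num) (by norm_num) ?_
  intro x hx
  simp only [List.mem_cons, List.not_mem_nil, or_false] at hx
  rcases hx with rfl | rfl | rfl | rfl | rfl
  · norm_num
  · norm_num
  · exact Or.inr (Or.inr (Or.inr (H14.InvTwoA.inv_hs h)))
  · norm_num
  · norm_num

theorem good_mcl (h : Spor.IsoMcL S) (hna : ¬ IsMulCommutative S) (hE : IsEPiGroup π S) (h2 : 2 ∈ π) (h3 : 3 ∉ π) :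
    PiN π (Nat.card S) ∨ Good π S := by
  refine good_of_list hna hE h2 h3 (NotCT.Orders.mcl h) (by norm_num) (by norm_num [szc]) (by norm_num [szc])
    (by norm_num [szc]) (a := 1) (fun h => absurd h (by norm_num)) (Or.inr (by norm_num)) (by norm_num)
    [(2, 7), (3, 6), (5, 3), (7, 1), (11, 1)] (by simp; norm_num) (by norm_num) ?_
  intro x hx
  simp only [List.mem_cons, List.not_mem_nil, or_false] at hx
  rcases hx with rfl | rfl | rfl | rfl | rfl
  · norm_num
  · norm_num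
  · exact Or.inr (Or.inr (Or.inr (H14.InvTwoA.inv_mcl h)))
  · norm_num
  · norm_num

theorem good_he (h : Spor.IsoHe S) (hna : ¬ IsMulCommutative S) (hE : IsEPiGroup π S) (h2 : 2 ∈ π) (h3 : 3 ∉ π) :
    PiN π (Nat.card S) ∨ Good π S := by
  refine good_of_list hna hE h2 h3 (NotCT.Orders.he h) (by norm_num) (by norm_num [szc]) (by norm_num [szc])
    (by norm_num [szc]) (a := 1) (fun h => absurd h (by norm_num)) (Or.inr (by norm_num)) (by norm_num)
    [(2, 10), (3, 3), (5, 2), (7, 3), (17, 1)] (by simp; norm_num) (by norm_num) ?_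
  intro x hx
  simp only [List.mem_cons, List.not_mem_nil, or_false] at hx
  rcases hx with rfl | rfl | rfl | rfl | rfl
  · norm_num
  · norm_num
  · exact Or.inr (Or.inr (Or.inr (H14.InvTwoA.inv_he_five h)))
  · exact Or.inr (Or.inr (Or.inr (H14.InvTwoA.inv_he_seven h)))
  · norm_num

theorem good_on (h : Spor.IsoON S) (hna : ¬ IsMulCommutative S) (hE : IsEPiGroup π S) (h2 : 2 ∈ π) (h3 : 3 ∉ π) :
    PiN π (Nat.card S) ∨ Good π S := by
  refine good_of_list hna hE h2 h3 (NotCT.Orders.on h) (by norm_num) (by norm_num [szc]) (by norm_num [szc])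
    (by norm_num [szc]) (a := 1) (fun h => absurd h (by norm_num)) (Or.inr (by norm_num)) (by norm_num)
    [(2, 9), (3, 4), (5, 1), (7, 3), (11, 1), (19, 1), (31, 1)] (by simp; norm_num) (by norm_num) ?_
  intro x hx
  simp only [List.mem_cons, List.not_mem_nil, or_false] at hx
  rcases hx with rfl | rfl | rfl | rfl | rfl | rfl | rfl
  · norm_num
  · norm_num
  · norm_num
  · exact Or.inr (Or.inr (Or.inr (H14.InvTwoA.inv_on h)))
  · norm_num
  · norm_num
  · norm_num

theorem good_fi22 (h : Spor.IsoFi22 S) (hna : ¬ IsMulCommutative S) (hE : IsEPiGroup π S) (h2 : 2 ∈ π)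
    (h3 : 3 ∉ π) : PiN π (Nat.card S) ∨ Good π S := by
  obtain ⟨t1, t2⟩ := H573.Hall.two_fi22 h
  refine good_of_list hna hE h2 h3 (NotCT.Orders.fi22 h) (by norm_num) (by norm_num [szc]) (by norm_num [szc])
    (by norm_num [szc]) (a := 11) (fun _ => t2) (Or.inl (by norm_num)) (by norm_num)
    [(2, 17), (3, 9), (5, 2), (7, 1), (11, 1), (13, 1)] (by simp; norm_num) (by norm_num) ?_
  intro x hx
  simp only [List.mem_cons, List.not_mem_nil, or_false] at hx
  rcases hx with rfl | rfl | rfl | rfl | rfl | rfl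
  · norm_num
  · norm_num
  · exact Or.inr (Or.inr (Or.inr t1))
  · norm_num
  · norm_num
  · norm_num

theorem good_fi24 (h : Spor.IsoFi24' S) (hna : ¬ IsMulCommutative S) (hE : IsEPiGroup π S) (h2 : 2 ∈ π)
    (h3 : 3 ∉ π) : PiN π (Nat.card S) ∨ Good π S := by
  obtain ⟨t1, t2, t3⟩ := H573.Hall.two_fi24 h
  refine good_of_list hna hE h2 h3 (NotCT.Orders.fi24 h) (by norm_num) (by norm_num [szc]) (by norm_num [szc])
    (by norm_num [szc]) (a := 15) (fun _ => t3) (Or.inl (by norm_num)) (by norm_num)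
    [(2, 21), (3, 16), (5, 2), (7, 3), (11, 1), (13, 1), (17, 1), (23, 1), (29, 1)] (by simp; norm_num)
    (by norm_num) ?_
  intro x hx
  simp only [List.mem_cons, List.not_mem_nil, or_false] at hx
  rcases hx with rfl | rfl | rfl | rfl | rfl | rfl | rfl | rfl | rfl
  · norm_num
  · norm_num
  · exact Or.inr (Or.inr (Or.inr t1))
  · exact Or.inr (Or.inr (Or.inr t2))
  · norm_num
  · norm_num
  · norm_num
  · norm_num
  · norm_num

theorem good_suz (h : Spor.IsoSuz S) (hna : ¬ IsMulCommutative S) (hE : IsEPiGroup π S) (h2 : 2 ∈ π)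
    (h3 : 3 ∉ π) (t1 : Inv1 2 5 S) (t2 : ∀ x : S, orderOf x = 13 → ¬ 2 ^ 7 ∣ Nat.card (centralizer ({x} : Set S))) :
    PiN π (Nat.card S) ∨ Good π S := by
  refine good_of_list hna hE h2 h3 (NotCT.Orders.suz h) (by norm_num) (by norm_num [szc]) (by norm_num [szc])
    (by norm_num [szc]) (a := 7) (fun _ => t2) (Or.inl (by norm_num)) (by norm_num)
    [(2, 13), (3, 7), (5, 2), (7, 1), (11, 1), (13, 1)] (by simp; norm_num) (by norm_num) ?_
  intro x hx
  simp only [List.mem_cons, List.not_mem_nil, or_false] at hx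
  rcases hx with rfl | rfl | rfl | rfl | rfl | rfl
  · norm_num
  · norm_num
  · exact Or.inr (Or.inr (Or.inr t1))
  · norm_num
  · norm_num
  · norm_num

theorem good_hn (h : Spor.IsoHN S) (hna : ¬ IsMulCommutative S) (hE : IsEPiGroup π S) (h2 : 2 ∈ π) (h3 : 3 ∉ π)
    (t1 : Inv1 2 5 S) : PiN π (Nat.card S) ∨ Good π S := by
  refine good_of_list hna hE h2 h3 (NotCT.Orders.hn h) (by norm_num) (by norm_num [szc]) (by norm_num [szc])
    (by norm_num [szc]) (a := 1) (fun h => absurd h (by norm_num)) (Or.inr (by norm_num)) (by norm_num)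
    [(2, 14), (3, 6), (5, 6), (7, 1), (11, 1), (19, 1)] (by simp; norm_num) (by norm_num) ?_
  intro x hx
  simp only [List.mem_cons, List.not_mem_nil, or_false] at hx
  rcases hx with rfl | rfl | rfl | rfl | rfl | rfl
  · norm_num
  · norm_num
  · exact Or.inr (Or.inr (Or.inr t1))
  · norm_num
  · norm_num
  · norm_num

/-- the rows proved in `H565/InvTwoB.lean` (`sporB`) -/
structure SporB (π : Set ℕ) (S : Type u) [Group S] : Prop where
  suz : Spor.IsoSuz S → PiN π (Nat.card S) ∨ Good π S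
  fi22 : Spor.IsoFi22 S → PiN π (Nat.card S) ∨ Good π S
  fi24 : Spor.IsoFi24' S → PiN π (Nat.card S) ∨ Good π S
  hn : Spor.IsoHN S → PiN π (Nat.card S) ∨ Good π S

theorem good_sporadic (h : IsSporadicGroup S) (hna : ¬ IsMulCommutative S) (hE : IsEPiGroup π S) (h2 : 2 ∈ π)
    (h3 : 3 ∉ π) (B : SporB π S) : PiN π (Nat.card S) ∨ Good π S := by
  rcases h with h | h | h | h | h | h | h | h | h | h | h | h | h | h | h | h | h | h | h | h | h | h | h | h | h | h
  · exact good_of_out hna hE h2 Cfsg.Agent.S2060.result h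
  · exact good_m12 h hna hE h2 h3
  · exact good_m22 h hna hE h2 h3
  · exact good_of_out hna hE h2 Cfsg.Agent.S2063.result h
  · exact good_of_out hna hE h2 Cfsg.Agent.S2064.result h
  · exact good_of_out hna hE h2 Cfsg.Agent.S2065.result h
  · exact good_j2 h hna hE h2 h3
  · exact good_j3 h hna hE h2 h3
  · exact good_of_out hna hE h2 Cfsg.Agent.S2068.result h
  · exact good_of_out hna hE h2 Cfsg.Agent.S2069.result h
  · exact good_of_out hna hE h2 Cfsg.Agent.S2070.result h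
  · exact good_of_out hna hE h2 Cfsg.Agent.S2071.result h
  · exact good_mcl h hna hE h2 h3
  · exact good_hs h hna hE h2 h3
  · exact B.suz h
  · exact good_he h hna hE h2 h3
  · exact good_of_out hna hE h2 Cfsg.Agent.S2077.result h
  · exact good_on h hna hE h2 h3
  · exact good_of_out hna hE h2 Cfsg.Agent.S2076.result h
  · exact good_fi22 h hna hE h2 h3
  · exact good_of_out hna hE h2 Cfsg.Agent.S2080.result h
  · exact good_fi24 h hna hE h2 h3
  · exact B.hn h
  · exact good_of_out hna hE h2 Cfsg.Agent.S2083.result h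
  · exact good_of_out hna hE h2 Cfsg.Agent.S2084.result h
  · exact good_of_out hna hE h2 Cfsg.Agent.S2085.result h

end Cfsg.Agent.H553.ExtRed
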