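import Cfsg.Agent.H553.GoodLems
import Cfsg.Agent.S0665

/-!
# `Good π S` from Stellmacher's characteristic subgroup (helper553)

`good_of_stellmacher` : `2 ∈ π`, `3 ∉ π` and some Hall `π`-subgroup `H` satisfies `C_H(O₂(H)) ≤ O₂(H)`.
-/

set_option autoImplicit false

namespace Cfsg.Agent.H553.ExtRed

open Subgroup Cfsg Cfsg.Agent.H988.CPi Cfsg.Agent.H553.OddHall
open scoped Pointwise

universe u

variable {π : Set ℕ} {S : Type u} [Group S] [Finite S]

theorem four_free {X : Type*} [Group X] [Finite X] (h3 : ¬ 3 ∣ Nat.card X) :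
    ¬ ∃ (K R : Subgroup X) (hR : (R.subgroupOf K).Normal), Nonempty ((K ⧸ R.subgroupOf K) ≃* Equiv.Perm (Fin 4)) := by
  rintro ⟨K, R, hR, ⟨e⟩⟩
  apply h3
  have h1 : Nat.card (K ⧸ R.subgroupOf K) = 24 := by
    rw [Nat.card_congr e.toEquiv]
    simp [Fintype.card_perm]
    decide
  have h2 : Nat.card (K ⧸ R.subgroupOf K) ∣ Nat.card K := card_quotient_dvd_card _
  rw [h1] at h2
  exact (show 3 ∣ 24 by norm_num).trans (h2.trans (card_subgroup_dvd_card K))

theorem good_of_stellmacher [IsSimpleGroup S] (hna : ¬ IsMulCommutative S) (h2 : 2 ∈ π) 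
    (H : Subgroup S) (hH : IsPiHall π H) (h3 : ¬ 3 ∣ Nat.card H)
    (hcen : centralizer (Cfsg.pCore 2 H : Set H) ≤ Cfsg.pCore 2 H) : Good π S := by
  have hF : Fact (Nat.Prime 2) := ⟨Nat.prime_two⟩
  have h2S : 2 ∣ Nat.card S := by
    by_contra hd
    apply hna
    have h3 : Group.IsSolvable S := by
      apply Cfsg.Agent.S0205.result
      rw [← Nat.not_even_iff_odd, even_iff_two_dvd]
      exact hd
    exact ⟨⟨fun a b => IsSimpleGroup.comm_iff_isSolvable.mpr h3 a b⟩⟩
  -- a Sylow 2-subgroup of `H` is one of `S`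
  obtain ⟨T⟩ : Nonempty (Sylow 2 H) := inferInstance
  have h1 : IsPGroup 2 ((T : Subgroup H).map H.subtype) := T.2.map _
  have hi : ¬ 2 ∣ ((T : Subgroup H).map H.subtype).index := by
    have h3 : ((T : Subgroup H).map H.subtype).index = (T : Subgroup H).index * H.index := by
      have := index_map (T : Subgroup H) H.subtype
      rwa [H.ker_subtype, sup_bot_eq, range_subtype] at this
    rw [h3, Nat.prime_two.dvd_mul, not_or]
    exact ⟨T.not_dvd_index, hH.2 2 Nat.prime_two h2⟩
  let R : Sylow 2 S := h1.toSylow hi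
  have hR : (R : Subgroup S) = (T : Subgroup H).map H.subtype := rfl
  have hRH : (R : Subgroup S) ≤ H := by rw [hR]; exact map_subtype_le _
  have hnt : Nontrivial (R : Subgroup S) := by
    rw [nontrivial_iff_ne_bot]
    exact R.ne_bot_of_dvd_card h2S
  obtain ⟨W, hW1, hWc, hW⟩ := Cfsg.Agent.S0665.result (S := (R : Subgroup S)) R.2
  have hn := hW H (inclusion hRH) (inclusion_injective hRH) ⟨T, ?_⟩ (four_free h3) hcen
  · refine good_of_inv hna R (W.map (R : Subgroup S).subtype) (map_subtype_le _) ?_ ?_ H hH ?_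
    · intro h
      exact hW1 ((Subgroup.map_eq_bot_iff_of_injective W (R : Subgroup S).subtype_injective).mp h)
    · -- invariance
      intro φ hφ
      have hmem : ∀ x : S, x ∈ (R : Subgroup S) ↔ φ x ∈ (R : Subgroup S) := by
        intro x
        constructor
        · intro hx
          rw [← hφ]; exact ⟨x, hx, rfl⟩
        · intro hx
          rw [← hφ] at hx
          obtain ⟨y, hy, hyx⟩ := hx
          have : φ y = φ x := hyx
          rwa [← φ.injective this]
      let ψ : (R : Subgroup S) ≃* (R : Subgroup S) :=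
        { toFun := fun x => ⟨φ x, (hmem x).mp x.2⟩
          invFun := fun x => ⟨φ.symm x, by rw [hmem, φ.apply_symm_apply]; exact x.2⟩
          left_inv := fun x => Subtype.ext (φ.symm_apply_apply x)
          right_inv := fun x => Subtype.ext (φ.apply_symm_apply x)
          map_mul' := fun x y => Subtype.ext (map_mul φ _ _) }
      have h5 : W.map ψ.toMonoidHom = W := characteristic_iff_map_eq.mp hWc ψ
      rw [smul_eq_map]
      conv_rhs => rw [← h5]
      rw [map_map, map_map]
      rfl
    · -- normalised by `H`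
      intro h hh
      rw [mem_normalizer_iff]
      have key : ∀ k : H, ∀ y ∈ W.map (R : Subgroup S).subtype, (k : S) * y * (k : S)⁻¹ ∈
          W.map (R : Subgroup S).subtype := by
        rintro k _ ⟨w, hw, rfl⟩
        have h6 := hn.conj_mem (inclusion hRH w) ⟨w, hw, rfl⟩ k
        obtain ⟨w', hw', h7⟩ := h6
        refine ⟨w', hw', ?_⟩
        exact congrArg Subtype.val h7
      intro y
      refine ⟨key ⟨h, hh⟩ y, fun hy => ?_⟩
      have := key ⟨h, hh⟩⁻¹ _ hy
      simpa [mul_assoc] using this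
  · ext x
    constructor
    · intro hx
      exact ⟨⟨x, by rw [hR]; exact ⟨x, hx, rfl⟩⟩, rfl⟩
    · rintro ⟨⟨y, hy⟩, rfl⟩
      rw [hR] at hy
      obtain ⟨z, hz, rfl⟩ := hy
      exact hz

end Cfsg.Agent.H553.ExtRed
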