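import Cfsg.Agent.H553.GoodLems
import Cfsg.Agent.H553.GoodStell
import Cfsg.Agent.H553.GoodGen
import Cfsg.Agent.H171.Odd.Base
import Cfsg.Agent.S0336
import Cfsg.Agent.H507.SzCase
import Cfsg.Agent.Schreier.Balance
import Cfsg.Agent.SignalizersComponents.Components
import Cfsg.Agent.SignalizersComponents.ComponentExists
import Cfsg.Agent.Lib.SolvableMinNormal

/-!
# `Good π S` from `Inv1 2 r S` (helper553)

* `centralizer_pCore_le` : `3 ∤ |H|`, `O_{2'}(H) = 1`, only `Sz(8)` possible and no element of order 26;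
* `good_of_inv1`.
-/

set_option autoImplicit false

open Cfsg Subgroup
open scoped Pointwise
open Cfsg.Agent.H988.CPi Cfsg.Agent.H171.Odd
open Cfsg.Agent.SignalizersComponents

namespace Cfsg.Agent.H553.ExtRed

/-- order of `Sz(2^(2m+1))` -/
def szc (m : ℕ) : ℕ := (2 ^ (2 * m + 1)) ^ 2 * ((2 ^ (2 * m + 1)) ^ 2 + 1) * (2 ^ (2 * m + 1) - 1)

section core

variable {H : Type*} [Group H] [Finite H]

/-- a component has a simple quotient of order `29120` -/
theorem card_quot (h3 : ¬ 3 ∣ Nat.card H) (hN : ∀ m : ℕ, 1 ≤ m → szc m ∣ Nat.card H → szc m = 29120)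
    {Y : Subgroup H} (hY : IsComponent Y) : Nat.card (Y ⧸ center Y) = 29120 := by
  have hs := hY.2.2
  have hd : Nat.card (Y ⧸ center Y) ∣ Nat.card H := by
    refine dvd_trans ?_ (card_subgroup_dvd_card Y)
    exact ⟨Nat.card (center Y), Subgroup.card_eq_card_quotient_mul_card_subgroup (center Y)⟩
  have hna : ∃ a b : Y ⧸ center Y, a * b ≠ b * a := by
    by_contra hcon
    push Not at hcon
    have hp : Group.IsPerfect (Y ⧸ center Y) := by
      have := hY.2.1
      infer_instance
    have h1 : Group.IsSolvable (Y ⧸ center Y) := by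
      have : IsMulCommutative (Y ⧸ center Y) := ⟨⟨hcon⟩⟩
      exact IsSimpleGroup.comm_iff_isSolvable.mp hcon
    have hnt := hs.toNontrivial
    exact Group.IsPerfect.not_isSolvable _ h1
  obtain ⟨-, m, hm, hc⟩ := Cfsg.Agent.S0336.result hna fun h => h3 (h.trans hd)
  rw [hc]
  exact hN m hm (by rw [szc, ← hc]; exact hd)

/-- the number of Sylow 13-subgroups of a group of order `29120` -/
theorem not_dvd_of_mod {n : ℕ} (h1 : n ≡ 1 [MOD 13]) (h2 : n ∣ 2240) : ¬ 32 ∣ n := by
  rintro ⟨m, rfl⟩
  have h3 : m ∣ 70 := by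
    obtain ⟨k, hk⟩ := h2
    exact ⟨k, Nat.eq_of_mul_eq_mul_left (by norm_num : 0 < 32) (by rw [← mul_assoc, ← hk])⟩
  have h4 : m ≤ 70 := Nat.le_of_dvd (by norm_num) h3
  have h5 : (32 * m) % 13 = 1 := h1
  interval_cases m <;> revert h3 h5 <;> decide

theorem centralizer_pCore_le {a : ℕ} (h3 : ¬ 3 ∣ Nat.card H) (hO : pPrimeCore 2 H = ⊥)
    (hN : ∀ m : ℕ, 1 ≤ m → szc m ∣ Nat.card H → szc m = 29120)
    (h26 : 29120 ∣ Nat.card H → ∀ x : H, orderOf x = 13 → ¬ 2 ^ a ∣ Nat.card (centralizer ({x} : Set H)))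
    (h9 : 29120 ∣ Nat.card H → 2 ^ (a + 6) ∣ Nat.card H) (h13 : 29120 ∣ Nat.card H → ¬ 13 ^ 2 ∣ Nat.card H) :
    centralizer (Cfsg.pCore 2 H : Set H) ≤ Cfsg.pCore 2 H := by
  have hF : Fact (Nat.Prime 2) := ⟨Nat.prime_two⟩
  have hF13 : Fact (Nat.Prime 13) := ⟨by norm_num⟩
  have hfit : fittingSubgroup H = pCore 2 H := PConstrained.fittingSubgroup_eq_pCore_of_pPrimeCore_eq_bot 2 hO
  suffices hlay : layer H = ⊥ by
    apply CharP.centralizer_pCore_le_of_genFitting_eq
    rw [generalizedFittingSubgroup, hlay, bot_sup_eq, hfit]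
  by_contra hne
  rw [ComponentExists.layer_eq_bot_iff] at hne
  push Not at hne
  obtain ⟨Y, hY⟩ := hne
  -- elements
  have hmul : ∀ {Y : Subgroup H}, IsComponent Y → Nat.card Y = 29120 * Nat.card (center Y) := by
    intro Y hY
    rw [← card_quot h3 hN hY]
    exact Subgroup.card_eq_card_quotient_mul_card_subgroup (center Y)
  have hdq : ∀ {Y : Subgroup H}, IsComponent Y → 29120 ∣ Nat.card Y := fun hY => ⟨_, hmul hY⟩
  have hdH : 29120 ∣ Nat.card H := (hdq hY).trans (card_subgroup_dvd_card Y)
  have h26 := h26 hdH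
  have h9 := h9 hdH
  have h13 := h13 hdH
  have elt : ∀ {Y : Subgroup H}, IsComponent Y → ∃ y ∈ Y, orderOf y = 13 := by
    intro Y hY
    obtain ⟨y, hy⟩ := exists_prime_orderOf_dvd_card' 13 ((by norm_num : 13 ∣ 29120).trans (hdq hY))
    exact ⟨y, y.2, by rw [orderOf_coe, hy]⟩
  -- the centre has order prime to 13
  have hZ13 : ∀ {Y : Subgroup H}, IsComponent Y → ¬ 13 ∣ Nat.card (center Y) := by
    intro Y hY hd
    apply h13
    refine dvd_trans ?_ (card_subgroup_dvd_card Y)
    rw [hmul hY, pow_two]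
    exact mul_dvd_mul (by norm_num) hd
  -- `Y` is the only component
  have huniq : ∀ Z : Subgroup H, IsComponent Z → Z = Y := by
    intro Z hZ
    by_contra hZY
    have h1 := Components.component_le_centralizer_of_ne hZ hY hZY
    obtain ⟨t, htZ, ht⟩ := elt hZ
    obtain ⟨y, hyY, hy⟩ := elt hY
    have hc : Commute y t := (mem_centralizer_iff.mp (h1 htZ)) y hyY
    -- `⟨t⟩ = ⟨y⟩`
    have hty : t ∈ zpowers y := by
      have hnt : zpowers t ≤ normalizer (zpowers y : Set H) := by
        refine le_trans ?_ (centralizer_le_normalizer _)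
        rw [zpowers_le, mem_centralizer_iff]
        rintro h ⟨k, rfl⟩
        exact (hc.zpow_left k)
      have hpy : IsPGroup 13 (zpowers y) := IsPGroup.of_card (n := 1) (by rw [Nat.card_zpowers, hy, pow_one])
      have hpt : IsPGroup 13 (zpowers t) := IsPGroup.of_card (n := 1) (by rw [Nat.card_zpowers, ht, pow_one])
      have hps : IsPGroup 13 ↥(zpowers t ⊔ zpowers y) := hpt.to_sup_of_normal_right' hpy hnt
      obtain ⟨k, hk⟩ := hps.exists_card_eq
      have h5 : k < 2 := by
        by_contra hcon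
        exact h13 ((pow_dvd_pow 13 (by omega : 2 ≤ k)).trans (hk ▸ card_subgroup_dvd_card _))
      have h6 : Nat.card ↥(zpowers t ⊔ zpowers y) ≤ 13 := by
        rw [hk]
        interval_cases k <;> norm_num
      have h7 : zpowers y = zpowers t ⊔ zpowers y := eq_of_le_of_card_ge le_sup_right (by
        rw [Nat.card_zpowers, hy]; exact h6)
      exact h7.ge (mem_sup_left (mem_zpowers t))
    apply hZ13 hZ
    have htc : (⟨t, htZ⟩ : Z) ∈ center Z := by
      rw [mem_center_iff]
      intro z
      apply Subtype.ext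
      have h2 : Commute (z : H) y := ((mem_centralizer_iff.mp (h1 z.2)) y hyY).symm
      obtain ⟨k, hk⟩ := hty
      show (z : H) * t = t * z
      rw [← hk]
      exact (h2.zpow_right k).eq
    have h5 := Subgroup.orderOf_dvd_natCard (center Z) htc
    rwa [orderOf_mk, ht] at h5
  have hlay : layer H = Y := by
    apply le_antisymm
    · rw [Components.layer_le_iff]
      exact fun K hK => (huniq K hK).le
    · exact Components.component_le_layer hY
  have hYn : Y.Normal := hlay ▸ Components.layer_normal H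
  -- Frattini
  obtain ⟨P⟩ : Nonempty (Sylow 13 Y) := inferInstance
  have hP13 : Nat.card (P : Subgroup Y) = 13 := by
    obtain ⟨k, hk⟩ := P.isPGroup'.exists_card_eq
    have h5 : k < 2 := by
      by_contra hcon
      exact h13 ((pow_dvd_pow 13 (by omega : 2 ≤ k)).trans ((hk ▸ card_subgroup_dvd_card (P : Subgroup Y)).trans
        (card_subgroup_dvd_card Y)))
    interval_cases k
    · exfalso
      have h6 := P.card_mul_index
      rw [hk, pow_zero, one_mul] at h6
      exact P.not_dvd_index (h6 ▸ (by norm_num : 13 ∣ 29120).trans (hdq hY))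
    · rw [hk, pow_one]
  set Q : Subgroup H := (P : Subgroup Y).map Y.subtype with hQ
  have hQ13 : Nat.card Q = 13 := by rw [hQ, card_map_of_injective Y.subtype_injective, hP13]
  have hfr : normalizer (Q : Set H) ⊔ Y = ⊤ := Sylow.normalizer_sup_eq_top P
  have hNY : (normalizer (Q : Set H)).subgroupOf Y = normalizer ((P : Subgroup Y) : Set Y) := by
    ext g
    rw [mem_subgroupOf, mem_normalizer_iff, mem_normalizer_iff]
    constructor
    · intro h x
      have := h x
      rw [hQ] at this
      constructor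
      · intro hx
        obtain ⟨z, hz, hz'⟩ := (this.1 ⟨x, hx, rfl⟩)
        have : z = g * x * g⁻¹ := Subtype.ext hz'
        rwa [← this]
      · intro hx
        obtain ⟨z, hz, hz'⟩ := (this.2 ⟨g * x * g⁻¹, hx, rfl⟩)
        have : z = x := Subtype.ext hz'
        rwa [← this]
    · intro h x
      rw [hQ]
      constructor
      · rintro ⟨z, hz, rfl⟩
        exact ⟨g * z * g⁻¹, (h z).1 hz, rfl⟩
      · rintro ⟨z, hz, hz'⟩
        refine ⟨g⁻¹ * z * g, ?_, ?_⟩
        · refine (h _).2 ?_
          rwa [show (g : Y) * (g⁻¹ * z * g) * g⁻¹ = z by group]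
        · show (g : H)⁻¹ * (z : H) * g = x
          rw [show (z : H) = g * x * (g : H)⁻¹ from hz']
          group
  set n := (normalizer (Q : Set H)).index with hn
  have hn1 : n = Nat.card (Sylow 13 Y) := by
    have h1 := relIndex_mul_sup_index (normalizer (Q : Set H)) Y
    rw [hfr, index_top, mul_one] at h1
    rw [hn, ← h1, relIndex, hNY, Sylow.card_eq_index_normalizer P]
    rfl
  have hmod : n ≡ 1 [MOD 13] := by rw [hn1]; exact card_sylow_modEq_one 13 Y
  have hndvd : n ∣ 2240 := by
    have h1 : n * Nat.card (normalizer ((P : Subgroup Y) : Set Y)) = 29120 * Nat.card (center Y) := by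
      rw [hn1, Sylow.card_eq_index_normalizer P, mul_comm, ← hmul hY]
      exact card_mul_index (normalizer ((P : Subgroup Y) : Set Y))
    have h2 : Nat.card (center Y) ∣ Nat.card (normalizer ((P : Subgroup Y) : Set Y)) :=
      card_dvd_of_le (center_le_normalizer _)
    have h4 : 13 ∣ Nat.card (normalizer ((P : Subgroup Y) : Set Y)) := by
      have h8 : Nat.card (P : Subgroup Y) ∣ Nat.card (normalizer ((P : Subgroup Y) : Set Y)) :=
        card_dvd_of_le le_normalizer
      rwa [hP13] at h8
    have h5 : 13 * Nat.card (center Y) ∣ Nat.card (normalizer ((P : Subgroup Y) : Set Y)) :=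
      Nat.Coprime.mul_dvd_of_dvd_of_dvd ((Nat.Prime.coprime_iff_not_dvd (by norm_num)).2 (hZ13 hY)) h4 h2
    obtain ⟨k, hk⟩ := h5
    have h6 : 0 < Nat.card (center Y) := Nat.card_pos
    refine ⟨k, ?_⟩
    rw [hk] at h1
    have h7 : 13 * Nat.card (center Y) * (n * k) = 13 * Nat.card (center Y) * 2240 := by
      calc _ = n * (13 * Nat.card (center Y) * k) := by ring
        _ = _ := by rw [h1]; ring
    exact (Nat.eq_of_mul_eq_mul_left (by positivity) h7).symm
  have hn32 := not_dvd_of_mod hmod hndvd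
  have hcard : Nat.card H = Nat.card (normalizer (Q : Set H)) * n := by
    rw [hn, card_mul_index]
  have hN12 : Nat.card (normalizer (Q : Set H)) ∣ Nat.card (centralizer (Q : Set H)) * 12 := by
    have hle : centralizer (Q : Set H) ≤ normalizer (Q : Set H) := centralizer_le_normalizer _
    have h1 : (centralizer (Q : Set H)).relIndex (normalizer (Q : Set H)) ∣ 12 := by
      have hcyc : IsCyclic Q := isCyclic_of_prime_card hQ13
      have key := card_dvd_of_injective _ (QuotientGroup.kerLift_injective Q.normalizerMonoidHom)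
      rw [normalizerMonoidHom_ker, ← index, ← relIndex, IsCyclic.card_mulAut, hQ13] at key
      have : Nat.totient 13 = 12 := by decide
      rwa [this] at key
    have h2 := relIndex_mul_relIndex (⊥ : Subgroup H) (centralizer (Q : Set H)) (normalizer (Q : Set H)) bot_le hle
    rw [relIndex_bot_left, relIndex_bot_left] at h2
    rw [← h2]
    exact mul_dvd_mul_left _ h1
  have hodd : ¬ 2 ^ a ∣ Nat.card (centralizer (Q : Set H)) := by
    intro hd
    have h13 : 13 ∣ Nat.card Q := by rw [hQ13]
    obtain ⟨x, hx⟩ := exists_prime_orderOf_dvd_card' 13 h13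
    refine h26 x (by rw [orderOf_coe, hx]) (hd.trans (card_dvd_of_le ?_))
    exact centralizer_le (Set.singleton_subset_iff.mpr x.2)
  have hfin : 2 ^ (a + 6) ∣ Nat.card (centralizer (Q : Set H)) * 12 * n := by
    rw [hcard] at h9
    exact h9.trans (mul_dvd_mul_right hN12 _)
  generalize Nat.card (centralizer (Q : Set H)) = c at hodd hfin
  apply hodd
  -- valuations
  have hn0 : n ≠ 0 := by
    intro h
    rw [h] at hn32
    exact hn32 (dvd_zero _)
  obtain ⟨k, m, hm, hnm⟩ := Nat.exists_eq_pow_mul_and_not_dvd hn0 2 (by norm_num)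
  have hk : k ≤ 4 := by
    by_contra hcon
    apply hn32
    rw [hnm]
    exact dvd_mul_of_dvd_left (pow_dvd_pow 2 (by omega : 5 ≤ k)) _
  have h5 : 2 ^ (a + 6) ∣ (c * 2 ^ (k + 2)) * (3 * m) := by
    refine hfin.trans (dvd_of_eq ?_)
    rw [hnm, pow_add]
    ring
  have h6 : ¬ 2 ∣ 3 * m := by
    intro h
    rcases (Nat.prime_two.dvd_mul).1 h with h | h
    · norm_num at h
    · exact hm h
  have h7 : 2 ^ (a + 6) ∣ c * 2 ^ (k + 2) :=
    (Nat.Coprime.pow_left _ ((Nat.Prime.coprime_iff_not_dvd Nat.prime_two).2 h6)).dvd_of_dvd_mul_right h5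
  have h8 : 2 ^ a * 2 ^ (k + 2) ∣ c * 2 ^ (k + 2) := by
    rw [← pow_add]
    exact (pow_dvd_pow 2 (by omega)).trans h7
  exact Nat.dvd_of_mul_dvd_mul_right (by positivity) h8

end core

variable {π : Set ℕ} {S : Type*} [Group S] [Finite S]

/-- the general theorem for the sporadic groups -/
theorem good_of_inv1 [IsSimpleGroup S] (hna : ¬ IsMulCommutative S) (hE : IsEPiGroup π S) (h2 : 2 ∈ π) (h3 : 3 ∉ π)
    {a : ℕ}
    (hN : ∀ m : ℕ, 1 ≤ m → szc m ∣ Nat.card S → szc m = 29120)
    (h26 : 29120 ∣ Nat.card S → ∀ x : S, orderOf x = 13 → ¬ 2 ^ a ∣ Nat.card (centralizer ({x} : Set S)))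
    (h9 : 29120 ∣ Nat.card S → 2 ^ (a + 6) ∣ Nat.card S) (h13 : 29120 ∣ Nat.card S → ¬ 13 ^ 2 ∣ Nat.card S)
    (hinv : ∀ r : ℕ, r.Prime → r ≠ 2 → r ≠ 3 → r ^ 2 ∣ Nat.card S → Inv1 2 r S) :
    PiN π (Nat.card S) ∨ Good π S := by
  have hF2 : Fact (Nat.Prime 2) := ⟨Nat.prime_two⟩
  refine good_or_pi hE h2 (two_dvd_card hna) fun H hH hH1 hH2 => ?_
  have h3H : ¬ 3 ∣ Nat.card H := fun h => h3 (hH.1 3 Nat.prime_three h)
  have hHS : Nat.card H ∣ Nat.card S := card_subgroup_dvd_card H
  by_cases hO : pPrimeCore 2 H = ⊥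
  · refine good_of_stellmacher hna h2 H hH h3H (centralizer_pCore_le h3H hO
      (fun m hm hd => hN m hm (hd.trans hHS))
      (fun hd x hx hc => h26 (hd.trans hHS) (x : S) (by rw [orderOf_coe, hx]) (hc.trans ?_))
      (fun hd => ?_) (fun hd h => h13 (hd.trans hHS) (h.trans hHS)))
    · have h1 : (centralizer ({x} : Set H)).map H.subtype ≤ centralizer ({(x : S)} : Set S) := by
        rintro _ ⟨g, hg, rfl⟩
        have h4 := mem_centralizer_singleton_iff.1 hg
        exact mem_centralizer_singleton_iff.2 (congrArg Subtype.val h4)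
      have h4 := card_dvd_of_le h1
      rwa [card_map_of_injective H.subtype_injective] at h4
    · have h9 := h9 (hd.trans hHS)
      rw [← H.card_mul_index] at h9
      have hi : ¬ 2 ∣ H.index := hH.2 2 Nat.prime_two h2
      exact (Nat.Coprime.pow_left _ ((Nat.Prime.coprime_iff_not_dvd Nat.prime_two).2 hi)).dvd_of_dvd_mul_right h9
  · have hcop := Lib.Cores.pPrimeCore_coprime (G := H) 2
    have hnt : Nontrivial ↥(pPrimeCore 2 H) := by
      rw [← not_subsingleton_iff_nontrivial]
      intro h
      exact hO (Subgroup.eq_bot_of_subsingleton _)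
    have hsolN : Group.IsSolvable ↥(pPrimeCore 2 H) := by
      apply Cfsg.Agent.S0205.result
      exact (Nat.coprime_comm.mp hcop).odd_of_left
    obtain ⟨t, ht, N, hNc, -, hNp, hN'⟩ :=
      Lib.SolvableMinNormal.exists_characteristic_pgroup (G := ↥(pPrimeCore 2 H))
    have hft : Fact t.Prime := ⟨ht⟩
    have hMn : (N.map (pPrimeCore 2 H).subtype).Normal := by
      have := hNc
      have h3 : (pPrimeCore 2 H).Normal := Lib.Cores.pPrimeCore_normal 2
      exact ConjAct.normal_of_characteristic_of_normal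
    set R : Subgroup H := N.map (pPrimeCore 2 H).subtype with hR
    have hRp : IsPGroup t R := hNp.map _
    have hRne : R ≠ ⊥ := by
      intro h
      rw [hR, map_eq_bot_iff_of_injective _ (subtype_injective _)] at h
      exact hN' h
    have htR : t ∣ Nat.card R := by
      obtain ⟨k, hk⟩ := hRp.exists_card_eq
      rw [hk]
      rcases Nat.eq_zero_or_pos k with h | h
      · exfalso
        rw [h, pow_zero] at hk
        exact hRne (card_eq_one.1 hk)
      · exact dvd_pow_self t (by omega)
    have hRle : Nat.card R ∣ Nat.card ↥(pPrimeCore 2 H) := by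
      apply card_dvd_of_le
      rw [hR]
      exact map_subtype_le _
    have ht2 : t ≠ 2 := by
      rintro rfl
      have h3 : 2 ∣ Nat.card ↥(pPrimeCore 2 H) := htR.trans hRle
      have h4 := Nat.Coprime.eq_one_of_dvd hcop.symm h3
      exact absurd h4 (by norm_num)
    have htH : t ∣ Nat.card H := htR.trans (card_subgroup_dvd_card R)
    have ht3 : t ≠ 3 := by
      rintro rfl
      exact h3H htH
    set A : Subgroup S := R.map H.subtype with hA
    have hAp : IsPGroup t A := hRp.map _
    have hAne : A ≠ ⊥ := by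
      intro h
      rw [hA, map_eq_bot_iff_of_injective _ (subtype_injective _)] at h
      exact hRne h
    have hHA : H ≤ normalizer (A : Set S) := by
      have h7 := le_normalizer_map (H := R) H.subtype
      rw [normalizer_eq_top_iff.2 hMn] at h7
      have h8 : (⊤ : Subgroup H).map H.subtype = H := by rw [← MonoidHom.range_eq_map, range_subtype]
      rw [h8] at h7
      exact h7
    by_cases hsq : t ^ 2 ∣ Nat.card S
    · exfalso
      obtain ⟨P⟩ : Nonempty (Sylow 2 H) := inferInstance
      exact hAne (hinv t ht ht2 ht3 hsq ((P : Subgroup H).map H.subtype) (P.isPGroup'.map _)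
        (not_dvd_index_map h2 hH P) A hAp ((map_subtype_le _).trans hHA))
    · obtain ⟨Q, hQ⟩ := hAp.exists_le_sylow
      have hQc : Nat.card (Q : Subgroup S) ∣ t := by
        obtain ⟨k, hk⟩ := Q.isPGroup'.exists_card_eq
        rw [hk]
        have h5 : k < 2 := by
          by_contra hcon
          exact hsq ((pow_dvd_pow t (by omega : 2 ≤ k)).trans (hk ▸ card_subgroup_dvd_card (Q : Subgroup S)))
        interval_cases k <;> simp
      have htA : t ∣ Nat.card A := by
        obtain ⟨k, hk⟩ := hAp.exists_card_eq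
        rw [hk]
        rcases Nat.eq_zero_or_pos k with h | h
        · exfalso
          rw [h, pow_zero] at hk
          exact hAne (card_eq_one.1 hk)
        · exact dvd_pow_self t (by omega)
      have hAQ : A = (Q : Subgroup S) :=
        eq_of_le_of_card_ge hQ (Nat.le_of_dvd Nat.card_pos (hQc.trans htA))
      exact good_of_sylow hna Q (htH.trans hHS) H hH (hAQ ▸ hHA)

end Cfsg.Agent.H553.ExtRed
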