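import Cfsg.Agent.H553.BFiveInv

/-!
# `Inv1 5 r` for the Baby Monster, `r = 7, 11, 13, 31` (helper553; for S4350)
-/

set_option autoImplicit false
set_option maxRecDepth 100000

namespace Cfsg.Agent.H553.BFiveInv

open Cfsg Cfsg.Agent.H171.Odd Cfsg.Agent.H573.Hall Cfsg.Agent.H573.Spor Cfsg.Agent.H553.BFiveTools
open Cfsg.Agent.MonsterU Cfsg.Agent.MFive
open Cfsg.Agent.LThreeMB (fr XX KChart.Cent KChart.pi KChart.chart)
open Cfsg.Agent.MonsterU.Ch
open Cfsg.Agent.MonsterX Cfsg.Agent.MonsterX.InstData Cfsg.Agent.MonsterX.MainPack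
open Cfsg.Agent.MonsterX.Model Cfsg.Agent.MonsterX.MainSimple
open Cfsg.Agent.MonsterX.MainBasic Cfsg.Agent.MonsterP Cfsg.Agent.MonsterN
open Cfsg.Agent.MonsterU.Lam2
open Cfsg.Spor (Co1)
open Subgroup (centralizer mem_centralizer_singleton_iff center normalizer)

local instance : Fact (Nat.Prime 5) := ⟨Nat.prime_five⟩

/-! ### The elements of `Co1` -/

/-- the images of the elements of order 5 of `McL` -/
noncomputable abbrev mA : Co1 := QuotientGroup.mk McLFive.gA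
/-- the images of the elements of order 5 of `McL` -/
noncomputable abbrev mB : Co1 := QuotientGroup.mk McLFive.gB
/-- the images of the elements of order 5 of `McL` -/
noncomputable abbrev mC : Co1 := QuotientGroup.mk McLFive.gC

theorem b_ne : McLFive.gB ≠ 1 := by
  intro h
  have h1 := McLFive.ab
  rw [h, mul_one, one_mul] at h1
  exact McLFive.c_ne (mul_left_cancel (h1.symm.trans (mul_one _).symm))

theorem order_B : orderOf mB = 5 := Monster.orderOf_mk Nat.prime_five (by decide) McLFive.b_pow b_ne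

theorem order_C : orderOf mC = 5 := Monster.orderOf_mk Nat.prime_five (by decide) McLFive.c_pow McLFive.c_ne

theorem mab : mA * mB = mB * mA * mC := by
  have h := congrArg (QuotientGroup.mk : Co0 → Co1) McLFive.ab
  exact h

theorem mac : mA * mC = mC * mA := congrArg (QuotientGroup.mk : Co0 → Co1) McLFive.ac
theorem mbc : mB * mC = mC * mB := congrArg (QuotientGroup.mk : Co0 → Co1) McLFive.bc

theorem isPGroup : IsPGroup 5 ↥(Subgroup.closure ({mA, mB} : Set Co1)) :=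
  isPGroup_heis (c := mC) (by rw [← Monster.order_A, pow_orderOf_eq_one]) (by rw [← order_B, pow_orderOf_eq_one])
    (by rw [← order_C, pow_orderOf_eq_one]) mac mbc mab

/-! ### The commutator -/

/-- a short vector fixed by `McL` -/
theorem exists_p : ∃ p : _, p ∈ KDone.K.Sh ∧ TwoCls.clP KDone.lft p = cl Spor.leechU := by
  obtain ⟨p, hp⟩ := TwoCls.clP_surjective KDone.lft (cl Spor.leechU)
  exact ⟨p, (TwoCls.mem_Sh_iff KDone.lft p).2
    ⟨Spor.leechU, by rw [Cfsg.Agent.Schreier.McLaughlin.norm_U]; norm_num, hp.symm⟩, hp⟩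

/-- lifts commuting with `ι p` -/
theorem exists_lift_comm {p : _} (hp : TwoCls.clP KDone.lft p = cl Spor.leechU) {g : Co0}
    (hg : orderOf (QuotientGroup.mk g : Co1) = 5) (hm : g.1 ∈ Spor.McL) :
    ∃ x : centralizer ({KDone.K.z} : Set ↥InstData.M.G), KChart.pi MFive.Row.hc x = QuotientGroup.mk g ∧
      (x : ↥InstData.M.G) * KDone.K.ι p = KDone.K.ι p * x := by
  have hch := KChart.chart KDone.lft MFive.Row.hc
  obtain ⟨x, hx, hs⟩ := Monster.exists_lift Nat.prime_five (by decide) hg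
  refine ⟨x, hs, ?_⟩
  refine (MFive.comm_iff_fix hch (p := 5) (by decide) (by rw [← hx, pow_orderOf_eq_one]) ⟨p, rfl⟩).2 ?_
  rw [hs, Cfsg.Agent.LThreeMB.KChart.eta_ι, hp, mk_smul, smul_cl]
  exact congrArg cl hm.2

/-- **a commutator of fixed rank 4** -/
theorem exists_comm {p : _} (hp : TwoCls.clP KDone.lft p = cl Spor.leechU) :
    ∃ (F : Subgroup ↥InstData.M.G) (a b : ↥InstData.M.G) (x : centralizer ({KDone.K.z} : Set ↥InstData.M.G)),
      IsPGroup 5 ↥F ∧ F ≤ centralizer ({KDone.K.ι p} : Set ↥InstData.M.G) ∧ a ∈ F ∧ b ∈ F ∧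
      (x : ↥InstData.M.G) = a⁻¹ * b⁻¹ * a * b ∧ orderOf x = 5 ∧ fr (KChart.pi MFive.Row.hc x) = 2 ^ 4 := by
  have := MFive.Row.finite_model
  have hch := KChart.chart KDone.lft MFive.Row.hc
  obtain ⟨xa, hxa, hta⟩ := exists_lift_comm hp Monster.order_A McLFive.memA
  obtain ⟨xb, hxb, htb⟩ := exists_lift_comm hp order_B McLFive.memB
  generalize KDone.K.ι p = t at *
  let Γ : Subgroup ↥InstData.M.G := centralizer ({KDone.K.z} : Set ↥InstData.M.G) ⊓
    centralizer ({t} : Set ↥InstData.M.G)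
  let i : ↥Γ →* ↥(centralizer ({KDone.K.z} : Set ↥InstData.M.G)) := Subgroup.inclusion inf_le_left
  let π : ↥Γ →* Co1 := (KChart.pi MFive.Row.hc).comp i
  obtain ⟨F, hF, a, ha, b, hb, hab, hbb⟩ := exists_lift_group π isPGroup
    ⟨⟨(xa : ↥InstData.M.G), Subgroup.mem_inf.2 ⟨xa.2, mem_centralizer_singleton_iff.2 hta⟩⟩, hxa⟩
    ⟨⟨(xb : ↥InstData.M.G), Subgroup.mem_inf.2 ⟨xb.2, mem_centralizer_singleton_iff.2 htb⟩⟩, hxb⟩
  have hcF : a⁻¹ * b⁻¹ * a * b ∈ F := F.mul_mem (F.mul_mem (F.mul_mem (F.inv_mem ha) (F.inv_mem hb)) ha) hb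
  have hπc : π (a⁻¹ * b⁻¹ * a * b) = mC := by
    rw [map_mul, map_mul, map_mul, map_inv, map_inv, hab, hbb]
    have h1 := mab
    calc mA⁻¹ * mB⁻¹ * mA * mB = mA⁻¹ * mB⁻¹ * (mA * mB) := by group
      _ = mC := by rw [h1]; group
  have hx5 : (i (a⁻¹ * b⁻¹ * a * b)) ^ 5 = 1 := by
    have h1 : KChart.pi MFive.Row.hc ((i (a⁻¹ * b⁻¹ * a * b)) ^ 5) = 1 := by
      rw [map_pow]
      have h2 : KChart.pi MFive.Row.hc (i (a⁻¹ * b⁻¹ * a * b)) = mC := hπc
      rw [h2, ← order_C, pow_orderOf_eq_one]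
    have h2 : (((i (a⁻¹ * b⁻¹ * a * b)) ^ 5 : ↥(centralizer ({KDone.K.z} : Set ↥InstData.M.G))) : ↥InstData.M.G) ^ 4 = 1 :=
      pow_four hch ((hch.pi_eq_one _).1 h1)
    have h3 : ((i (a⁻¹ * b⁻¹ * a * b)) ^ 5) ^ 4 = 1 := Subtype.ext h2
    obtain ⟨n, hn⟩ := hF ⟨_, hcF⟩
    have hn' : (a⁻¹ * b⁻¹ * a * b) ^ 5 ^ n = 1 := congrArg Subtype.val hn
    have h4 : (i (a⁻¹ * b⁻¹ * a * b)) ^ 5 ^ n = 1 := by rw [← map_pow, hn', map_one]
    have h5 : ((i (a⁻¹ * b⁻¹ * a * b)) ^ 5) ^ 5 ^ n = 1 := by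
      rw [← pow_mul, mul_comm, pow_mul, h4, one_pow]
    have h6 : orderOf ((i (a⁻¹ * b⁻¹ * a * b)) ^ 5) ∣ Nat.gcd (2 ^ 2) (5 ^ n) :=
      Nat.dvd_gcd (orderOf_dvd_of_pow_eq_one h3) (orderOf_dvd_of_pow_eq_one h5)
    have h7 : Nat.gcd (2 ^ 2) (5 ^ n) = 1 := Nat.Coprime.pow 2 n (by norm_num)
    rw [h7, Nat.dvd_one, orderOf_eq_one_iff] at h6
    exact h6
  refine ⟨F.map Γ.subtype, a, b, i (a⁻¹ * b⁻¹ * a * b), hF.map _, ?_, ⟨a, ha, rfl⟩, ⟨b, hb, rfl⟩, rfl, ?_, ?_⟩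
  · refine (Subgroup.map_subtype_le _).trans inf_le_right
  · refine orderOf_eq_prime hx5 fun h1 => ?_
    have h2 : KChart.pi MFive.Row.hc (i (a⁻¹ * b⁻¹ * a * b)) = mC := hπc
    rw [h1, map_one] at h2
    have h3 := order_C
    rw [← h2, orderOf_one] at h3
    norm_num at h3
  · have h2 : KChart.pi MFive.Row.hc (i (a⁻¹ * b⁻¹ * a * b)) = mC := hπc
    rw [h2]
    exact McLFive.frC

/-- the exponents -/
def wR (r : ℕ) : ℕ → ℕ := fun k => if r = 11 ∨ r = 31 then (if k = 1 then 1 else 0) else (if k = 1 ∨ k = 2 then 0 else 0)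

/-- **`Inv1 5 r` for `C(t)`** -/
theorem inv_t {p : _} (hpS : p ∈ KDone.K.Sh) (hp : TwoCls.clP KDone.lft p = cl Spor.leechU)
    (hc : Nat.card ↥(centralizer ({KDone.K.ι p} : Set ↥InstData.M.G)) = 2 * 4154781481226426191177580544000000) {r : ℕ}
    (hr : r = 7 ∨ r = 11 ∨ r = 13 ∨ r = 31) : Inv1 5 r ↥(centralizer ({KDone.K.ι p} : Set ↥InstData.M.G)) := by
  have := MFive.Row.finite_model
  have hrp : r.Prime := by rcases hr with rfl | rfl | rfl | rfl <;> norm_num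
  have hrF : Fact r.Prime := ⟨hrp⟩
  obtain ⟨F, a, b, x, hF, hFt, ha, hb, hxe, hx, hfr⟩ := exists_comm hp
  have ht : orderOf (KDone.K.ι p) = 2 := by
    have : Fact (Nat.Prime 2) := ⟨Nat.prime_two⟩
    refine orderOf_eq_prime ?_ ?_
    · rw [← map_pow, pow_two, KDone.lft.sh_sq p hpS, map_one]
    · intro h1
      have h3 : p = 1 := InvTwo.ι_inj KDone.lft (h1.trans (map_one _).symm)
      have h4 := (TwoCls.mem_Sh_iff KDone.lft p).1 hpS
      rw [h3, TwoCls.clP_one] at h4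
      exact CloseLat.ne_zero_of_two h4 rfl
  have hnt : ∀ d : ↥InstData.M.G, d * KDone.K.ι p * d⁻¹ ≠ KDone.K.z := by
    obtain ⟨g, hg⟩ := ModelB.exists_conj_t LitFin.all.hG LitFin.all.hR KDone.lnk KDone.lft hpS
    exact CpAutBFive.RowB.not_conj (isConj_iff.2 ⟨g, hg⟩)
  generalize KDone.K.ι p = t at *
  -- `F` in `C(t)`
  set C := centralizer ({t} : Set ↥InstData.M.G) with hC
  have hFC : IsPGroup 5 ↥(F.subgroupOf C) := hF.comap_of_injective _ (Subgroup.subtype_injective _)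
  obtain ⟨P, hP⟩ := hFC.exists_le_sylow
  intro S hS hSi R hR hn
  by_contra hne
  let S' : Sylow 5 ↥C := hS.toSylow hSi
  obtain ⟨c, hcc⟩ := MulAction.exists_smul_eq ↥C S' P
  have hcc' : (P : Subgroup ↥C) = S.map (MulAut.conj c).toMonoidHom := by
    rw [← hcc]
    rfl
  set R' := R.map (MulAut.conj c).toMonoidHom with hR'
  have hR'p : IsPGroup r ↥R' := hR.map _
  have hn' : (P : Subgroup ↥C) ≤ normalizer (R' : Set ↥C) := by
    rw [hcc']
    refine RadInv.le_normalizer_of_conj ?_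
    rintro _ ⟨s, hs, rfl⟩ _ ⟨e, he, rfl⟩
    exact ⟨s * e * s⁻¹, RadInv.conj_of_le_normalizer hn s hs e he, by rw [map_mul, map_mul, map_inv]⟩
  have hR'ne : R' ≠ ⊥ := by
    intro h1
    rw [hR', Subgroup.map_eq_bot_iff_of_injective _ (MulAut.conj c).injective] at h1
    exact hne h1
  -- `[P, P]` centralises `R'`
  have hb' : ¬ r ^ (2 + 1) ∣ Nat.card ↥C ∧ ((r = 11 ∨ r = 31) → ¬ r ^ (1 + 1) ∣ Nat.card ↥C) := by
    rw [hc]
    rcases hr with rfl | rfl | rfl | rfl <;> norm_num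
  have hd : Nat.card ↥(P : Subgroup ↥C) ∣ Nat.card ↥((P : Subgroup ↥C) ⊓ centralizer (R' : Set ↥C)) * 5 := by
    have h5r : (5 : ℕ) ≠ r := by rcases hr with rfl | rfl | rfl | rfl <;> norm_num
    by_cases hr2 : r = 11 ∨ r = 31
    · obtain ⟨k0, hk0, hc0⟩ := card_pgroup (hb'.2 hr2) hR'p
      have h1 := card_dvd_kernel h5r (hb'.2 hr2) (fun _ => 1) (by
        intro k h1 h2
        have : k = 1 := by omega
        subst this
        rcases hr2 with rfl | rfl <;> norm_num) hR'p 1 (P : Subgroup ↥C) P.2 hn' (fun k j hk _ => by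
          have : k = k0 := Nat.pow_right_injective hrp.two_le (by show r ^ k = r ^ k0; rw [← hk, ← hc0])
          omega)
      simpa using h1
    · have hr3 : r = 7 ∨ r = 13 := by tauto
      obtain ⟨k0, hk0, hc0⟩ := card_pgroup hb'.1 hR'p
      have h1 := card_dvd_kernel h5r hb'.1 (fun _ => 0) (by
        intro k h1 h2
        have : k = 1 ∨ k = 2 := by omega
        rcases this with rfl | rfl <;> rcases hr3 with rfl | rfl <;> norm_num) hR'p 2 (P : Subgroup ↥C) P.2 hn'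
        (fun k j hk _ => by
          have : k = k0 := Nat.pow_right_injective hrp.two_le (by show r ^ k = r ^ k0; rw [← hk, ← hc0])
          omega)
      have h2 : ∑ i ∈ Finset.range 2, (fun _ : ℕ => 0) (i + 1) = 0 := by simp
      rw [h2, pow_zero, mul_one] at h1
      exact h1.trans (dvd_mul_right _ _)
  have haC : a ∈ C := hFt ha
  have hbC : b ∈ C := hFt hb
  have haP : (⟨a, haC⟩ : ↥C) ∈ (P : Subgroup ↥C) := hP (Subgroup.mem_subgroupOf.2 ha)
  have hbP : (⟨b, hbC⟩ : ↥C) ∈ (P : Subgroup ↥C) := hP (Subgroup.mem_subgroupOf.2 hb)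
  have hcomm := comm_mem_cent (s := 5) hn' hd haP hbP
  -- an element of order `r` of `R'`
  have hrd : r ∣ Nat.card ↥R' := by
    obtain ⟨n, hn2⟩ := hR'p.exists_card_eq
    rw [hn2]
    rcases Nat.eq_zero_or_pos n with h1 | h1
    · exfalso
      rw [h1, pow_zero] at hn2
      exact hR'ne (Subgroup.card_eq_one.1 hn2)
    · exact dvd_pow_self r (by omega)
  obtain ⟨y, hy⟩ := exists_prime_orderOf_dvd_card' r hrd
  have hyx := Subgroup.mem_centralizer_iff.1 hcomm y y.2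
  refine no_four_model x t (((y : ↥R') : ↥C) : ↥InstData.M.G) r hx hfr ht ?_ hnt hr ?_ ?_ ?_
  · rw [hxe]
    have h1 : a⁻¹ * b⁻¹ * a * b ∈ C := C.mul_mem (C.mul_mem (C.mul_mem (C.inv_mem haC) (C.inv_mem hbC)) haC) hbC
    exact mem_centralizer_singleton_iff.1 h1
  · rw [← hy, Subgroup.orderOf_coe, Subgroup.orderOf_coe]
  · rw [hxe]
    exact congrArg (fun y : ↥C => (y : ↥InstData.M.G)) hyx
  · exact mem_centralizer_singleton_iff.1 ((y : ↥R') : ↥C).2

/-- **`Inv1 5 r` for the Baby Monster** -/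
theorem inv_b {r : ℕ} (hr : r = 7 ∨ r = 11 ∨ r = 13 ∨ r = 31) : Inv1 5 r Cfsg.Spor.BabyMonster := by
  have := MFive.Row.finite_model
  have hrp : r.Prime := by rcases hr with rfl | rfl | rfl | rfl <;> norm_num
  obtain ⟨p, hpS, hp⟩ := exists_p
  obtain ⟨⟨h2, -, ⟨e⟩⟩, -⟩ := ModelB.fieldsKS LitFin.all KDone.lnk KDone.lft (NodesGrp.prel LitFin.H)
    (NodesNe.ne LitFin.H) LitFin.conj_ten Cfsg.Agent.S1704.result hpS
  have hc : Nat.card ↥(centralizer ({KDone.K.ι p} : Set ↥InstData.M.G)) = 2 * 4154781481226426191177580544000000 := by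
    rw [Subgroup.card_eq_card_quotient_mul_card_subgroup (center ↥(centralizer ({KDone.K.ι p} : Set ↥InstData.M.G))),
      Nat.card_congr e.toEquiv, card_baby, h2]
  refine Inv1.congr e.symm ?_
  refine inv1_quot (QuotientGroup.mk' (center ↥(centralizer ({KDone.K.ι p} : Set ↥InstData.M.G))))
    (QuotientGroup.mk'_surjective _) ?_ Nat.prime_five hrp (inv_t hpS hp hc hr)
  rw [QuotientGroup.ker_mk']

end Cfsg.Agent.H553.BFiveInv
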