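import Cfsg.Agent.H988.CPi
import Cfsg.Agent.Lib.MinNormalNonabelian

/-!
# The existence of Hall subgroups and extensions: reduction to simple groups (helper553)

`Good π S` : some subgroup `K` of `S` (not `⊥`, `⊤`) whose `S`-class is invariant under all automorphisms is
normalised by a Hall `π`-subgroup of `S`.

`ext_of_rows` : if every non-abelian simple group with a Hall `π`-subgroup is a `π`-group or satisfies `Good π` then
`E_π` is closed under extensions.
-/

set_option autoImplicit false

namespace Cfsg.Agent.H553.ExtRed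

open Subgroup Cfsg Cfsg.Agent.H988.CPi Cfsg.Agent.Lib.MinNormal Cfsg.Agent.Lib.MinNormalNonabelian
open scoped Pointwise

universe u

variable {π : Set ℕ}

/-- Some subgroup `K` of `S` (not `⊥`, `⊤`) whose `S`-class is invariant under all automorphisms is normalised by a
Hall `π`-subgroup of `S`. -/
def Good (π : Set ℕ) (S : Type*) [Group S] : Prop :=
  ∃ K : Subgroup S, K ≠ ⊥ ∧ K ≠ ⊤ ∧ (∀ φ : MulAut S, ∃ s : S, φ • K = MulAut.conj s • K) ∧
    ∃ H : Subgroup S, IsPiHall π H ∧ H ≤ normalizer (K : Set S)

/-! ### Products of commuting subgroups -/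

theorem card_iSup {G : Type*} [Group G] {ι : Type*} [Fintype ι] {T : ι → Subgroup G}
    (hcomm : Pairwise fun i j => ∀ x y : G, x ∈ T i → y ∈ T j → Commute x y) (hind : iSupIndep T) :
    Nat.card ↥(⨆ i, T i) = ∏ i, Nat.card (T i) := by
  rw [← Subgroup.noncommPiCoprod_range (hcomm := hcomm)]
  rw [← Nat.card_congr (MonoidHom.ofInjective (Subgroup.injective_noncommPiCoprod_of_iSupIndep (hcomm := hcomm) hind)).toEquiv,
    Nat.card_pi]

theorem piN_prod {ι : Type*} (s : Finset ι) (f : ι → ℕ) (h : ∀ i ∈ s, PiN π (f i)) : PiN π (∏ i ∈ s, f i) := by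
  intro p hp hd
  obtain ⟨i, hi, hd⟩ := (hp.prime.dvd_finsetProd_iff f).mp hd
  exact h i hi p hp hd

theorem piN'_prod {ι : Type*} (s : Finset ι) (f : ι → ℕ) (h : ∀ i ∈ s, PiN' π (f i)) : PiN' π (∏ i ∈ s, f i) := by
  intro p hp hpi hd
  obtain ⟨i, hi, hd⟩ := (hp.prime.dvd_finsetProd_iff f).mp hd
  exact h i hi p hp hpi hd

/-- prescribing coordinates -/
theorem exists_prod {G : Type*} [Group G] {ι : Type*} (T : ι → Subgroup G) (V : Subgroup G) (hTV : ∀ i, T i ≤ V)
    (hcomm : ∀ i j, i ≠ j → ∀ x ∈ T i, ∀ y ∈ T j, Commute x y) (f : ι → G) (hf : ∀ i, f i ∈ T i) (F : Finset ι) :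
    ∃ x ∈ V, (∀ i ∈ F, ∀ s ∈ T i, Commute ((f i)⁻¹ * x) s) ∧ (∀ i ∉ F, ∀ s ∈ T i, Commute x s) := by
  classical
  induction F using Finset.induction_on with
  | empty => exact ⟨1, one_mem _, by simp, fun _ _ s _ => Commute.one_left s⟩
  | insert j F hj ih =>
    obtain ⟨x, hxV, h1, h2⟩ := ih
    refine ⟨f j * x, mul_mem (hTV j (hf j)) hxV, ?_, ?_⟩
    · intro i hi s hs
      rcases Finset.mem_insert.1 hi with rfl | hi
      · rw [inv_mul_cancel_left]
        exact h2 i hj s hs
      · have hij : j ≠ i := by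
          rintro rfl
          exact hj hi
        have h3 : (f i)⁻¹ * (f j * x) = f j * ((f i)⁻¹ * x) := by
          have := ((hcomm j i hij (f j) (hf j) (f i) (hf i)).inv_right).eq
          rw [← mul_assoc, ← this, mul_assoc]
        rw [h3]
        exact (hcomm j i hij (f j) (hf j) s hs).mul_left (h1 i hi s hs)
    · intro i hi s hs
      rw [Finset.mem_insert, not_or] at hi
      exact (hcomm j i (fun h => hi.1 h.symm) (f j) (hf j) s hs).mul_left (h2 i hi.2 s hs)

variable {G : Type u} [Group G] [Finite G]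

/-! ### `E_π` -/

theorem epi_top (h : PiN π (Nat.card G)) : IsEPiGroup π G := by
  refine ⟨⊤, ?_, ?_⟩
  · intro p hp hd; rw [card_top] at hd; exact h p hp hd
  · intro p hp _ hd; rw [index_top] at hd; exact hp.one_lt.ne' (Nat.dvd_one.mp hd)

theorem epi_of_subgroup {L : Subgroup G} (h : IsEPiGroup π L) (hi : PiN' π L.index) : IsEPiGroup π G := by
  obtain ⟨H, hH⟩ := h
  refine ⟨H.map L.subtype, ?_, ?_⟩
  · have : PiN π (Nat.card (H.map L.subtype)) := by
      rw [card_map_of_injective L.subtype_injective]; exact hH.1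
    exact this
  · have : PiN' π (H.map L.subtype).index := by
      rw [index_map_subtype]; exact PiN'.mul hH.2 hi
    exact this

/-- transport to a subgroup of a subgroup -/
theorem epi_subgroupOf {A L : Subgroup G} (hAL : A ≤ L) (h : IsEPiGroup π A) : IsEPiGroup π (A.subgroupOf L) := by
  obtain ⟨H, hH⟩ := h
  have e : A.subgroupOf L ≃* A := subgroupOfEquivOfLe hAL
  refine ⟨H.comap e.toMonoidHom, ?_, ?_⟩
  · have : PiN π (Nat.card (H.comap e.toMonoidHom)) := by
      have h1 : H.comap e.toMonoidHom = H.map e.symm.toMonoidHom :=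
        comap_equiv_eq_map_symm e H
      rw [h1, card_map_of_injective e.symm.injective]; exact hH.1
    exact this
  · have : PiN' π (H.comap e.toMonoidHom).index := by
      rw [index_comap_of_surjective _ e.surjective]; exact hH.2
    exact this

/-- The induction hypothesis. -/
def IH (π : Set ℕ) (G : Type u) [Group G] : Prop :=
  ∀ (M : Type u) [Group M] [Finite M], Nat.card M < Nat.card G →
    ∀ (A : Subgroup M) [A.Normal], IsEPiGroup π A → IsEPiGroup π (M ⧸ A) → IsEPiGroup π M

theorem card_lt_of_ne_top {L : Subgroup G} (hL : L ≠ ⊤) : Nat.card L < Nat.card G :=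
  lt_of_le_of_ne (Nat.le_of_dvd Nat.card_pos (card_subgroup_dvd_card L)) fun h => hL (eq_top_of_card_eq L h)

/-- First step: `G/A` may be assumed to be a `π`-group. -/
theorem descend (ih : IH π G) (A : Subgroup G) [A.Normal] (hA : IsEPiGroup π A) (hQ : IsEPiGroup π (G ⧸ A)) :
    IsEPiGroup π G ∨ PiN π A.index := by
  obtain ⟨Q, hQ⟩ := hQ
  set L := Q.comap (QuotientGroup.mk' A) with hL
  have hAL : A ≤ L := by
    intro a ha
    have : (QuotientGroup.mk' A) a = 1 := (QuotientGroup.eq_one_iff a).mpr ha
    show (QuotientGroup.mk' A) a ∈ Q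
    rw [this]
    exact one_mem Q
  have hLi : L.index = Q.index := index_comap_of_surjective _ (QuotientGroup.mk'_surjective A)
  have hAi : PiN π (A.relIndex L) := by
    have h1 := relIndex_mul_index hAL
    have h2 : A.index = Nat.card (G ⧸ A) := rfl
    rw [hLi, h2, ← card_mul_index Q] at h1
    rw [Nat.eq_of_mul_eq_mul_right (Nat.pos_of_ne_zero index_ne_zero_of_finite) h1]
    exact hQ.1
  by_cases h : L = ⊤
  · right
    rw [h, relIndex_top_right] at hAi
    exact hAi
  · left
    have h1 : IsEPiGroup π L := by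
      refine ih L (card_lt_of_ne_top h) (A.subgroupOf L) (epi_subgroupOf hAL hA) (epi_top ?_)
      exact hAi
    refine epi_of_subgroup h1 ?_
    rw [hLi]
    exact hQ.2

/-- Frattini step: `G = N M`, `M < G` and `M ∩ N` contains a Hall `π`-subgroup `H` of `N`. -/
theorem epi_of_frattini (ih : IH π G) (N M : Subgroup G) [N.Normal] (hM : M ≠ ⊤) (hNM : M ⊔ N = ⊤)
    (hN : PiN π N.index) (H : Subgroup G) (hHN : H ≤ N) (hHM : H ≤ M) (h1 : PiN π (Nat.card H))
    (h2 : PiN' π (H.relIndex N)) : IsEPiGroup π G := by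
  have e1 : N.relIndex M = N.index := Cfsg.Agent.Solvable.SZ.relIndex_eq_index_of_sup_eq_top N M hNM
  have e2 : M.relIndex N = M.index := by
    have h3 := relIndex_mul_sup_index M N
    rw [hNM, index_top, mul_one] at h3
    exact h3
  have h3 : PiN' π M.index := by
    rw [← e2]
    exact PiN'.of_dvd h2 (relIndex_dvd_of_le_left N hHM)
  refine epi_of_subgroup ?_ h3
  refine ih M (card_lt_of_ne_top hM) (N.subgroupOf M) ?_ (epi_top ?_)
  · -- Hall subgroup of `N ∩ M`
    have hle : H ≤ N ⊓ M := le_inf hHN hHM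
    have h4 : IsEPiGroup π ↥(N ⊓ M) := by
      refine ⟨H.subgroupOf (N ⊓ M), ?_, ?_⟩
      · have : PiN π (Nat.card (H.subgroupOf (N ⊓ M))) := by
          rw [Nat.card_congr (subgroupOfEquivOfLe hle).toEquiv]; exact h1
        exact this
      · have : PiN' π (H.relIndex (N ⊓ M)) := by
          refine PiN'.of_dvd h2 ?_
          exact ⟨_, (relIndex_mul_relIndex H (N ⊓ M) N hle inf_le_left).symm⟩
        exact this
    have h5 : N.subgroupOf M = (N ⊓ M).subgroupOf M := (inf_subgroupOf_right N M).symm
    rw [h5]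
    exact epi_subgroupOf inf_le_right h4
  · have : PiN π (N.relIndex M) := by rw [e1]; exact hN
    exact this

/-! ### The non-abelian minimal normal subgroup -/

theorem epi_of_good (ih : IH π G) (N : Subgroup G) [N.Normal] 
    (hmin : ∀ M : Subgroup G, M.Normal → M ≤ N → M = ⊥ ∨ M = N)
    (hna : ¬ ∀ x ∈ N, ∀ y ∈ N, Commute x y) (hN : PiN π N.index)
    (T₀ : Subgroup G) (hT₀ : T₀ ∈ minSet N) (hgood : Good π T₀) : IsEPiGroup π G := by
  classical
  obtain ⟨s1, s2, s3, s4, s5, s6⟩ := nonabelian_structure N hmin hna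
  have hfin : Finite (minSet N) := Set.toFinite _
  let _ : Fintype (minSet N) := Fintype.ofFinite _
  obtain ⟨K₁, hK1, hK2, hK3, H₁, hH₁, hHK⟩ := hgood
  set K₀ := K₁.map T₀.subtype with hK₀
  set H₀ := H₁.map T₀.subtype with hH₀
  have hK₀T : K₀ ≤ T₀ := map_subtype_le K₁
  have hH₀T : H₀ ≤ T₀ := map_subtype_le H₁
  -- conjugating elements
  have hex : ∀ T : minSet N, ∃ g : G, MulAut.conj g • T₀ = T.1 := by
    intro T
    obtain ⟨g, hg⟩ := s6 T₀ hT₀ T.1 T.2
    exact ⟨g, by rw [← conj_eq]; exact hg.symm⟩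
  choose g hg using hex
  have hcomm : ∀ S T : minSet N, S ≠ T → ∀ x ∈ S.1, ∀ y ∈ T.1, Commute x y := by
    intro S T hST x hx y hy
    exact commute_of_mem s2 (fun U hU => hU.2.2.1) (fun U hU => hU.1) S.2 T.2
      (fun h => hST (Subtype.ext h)) hx hy
  have hind : iSupIndep (fun T : minSet N => T.1) := (sSupIndep_iff _).mp s2
  have hsup : ⨆ T : minSet N, T.1 = N := (sSup_eq_iSup' _).symm.trans s3
  let K : minSet N → Subgroup G := fun T => MulAut.conj (g T) • K₀
  let H : minSet N → Subgroup G := fun T => MulAut.conj (g T) • H₀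
  have hKT : ∀ T, K T ≤ T.1 := fun T => by rw [← hg T]; exact smul_mono_right _ hK₀T
  have hHT : ∀ T, H T ≤ T.1 := fun T => by rw [← hg T]; exact smul_mono_right _ hH₀T
  have hcK : Pairwise fun i j => ∀ x y : G, x ∈ K i → y ∈ K j → Commute x y := fun i j hij x y hx hy =>
    hcomm i j hij x (hKT i hx) y (hKT j hy)
  have hcH : Pairwise fun i j => ∀ x y : G, x ∈ H i → y ∈ H j → Commute x y := fun i j hij x y hx hy =>
    hcomm i j hij x (hHT i hx) y (hHT j hy)
  have hcT : Pairwise fun i j : minSet N => ∀ x y : G, x ∈ i.1 → y ∈ j.1 → Commute x y := fun i j hij x y hx hy =>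
    hcomm i j hij x hx y hy
  have hcardK : Nat.card ↥(⨆ T, K T) = ∏ T : minSet N, Nat.card K₀ := by
    rw [card_iSup hcK (hind.mono hKT)]
    exact Finset.prod_congr rfl fun T _ => Cfsg.Agent.Solvable.SZ.card_conj_smul _ _
  have hcardH : Nat.card ↥(⨆ T, H T) = ∏ T : minSet N, Nat.card H₀ := by
    rw [card_iSup hcH (hind.mono hHT)]
    exact Finset.prod_congr rfl fun T _ => Cfsg.Agent.Solvable.SZ.card_conj_smul _ _
  have hcardN : Nat.card N = ∏ T : minSet N, Nat.card T₀ := by
    have e0 : Nat.card N = Nat.card ↥(⨆ T : minSet N, T.1) := by rw [hsup]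
    rw [e0, card_iSup hcT hind]
    refine Finset.prod_congr rfl fun T _ => ?_
    rw [← hg T]
    exact Cfsg.Agent.Solvable.SZ.card_conj_smul _ _
  have hKN : (⨆ T, K T) ≤ N := (iSup_mono hKT).trans hsup.le
  have hHN : (⨆ T, H T) ≤ N := (iSup_mono hHT).trans hsup.le
  have hne : Nonempty (minSet N) := ⟨⟨T₀, hT₀⟩⟩
  -- orders
  have cH : Nat.card H₀ = Nat.card H₁ := card_map_of_injective T₀.subtype_injective
  have cHT : Nat.card H₀ * H₁.index = Nat.card T₀ := by rw [cH, card_mul_index]
  -- the class of `K`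
  have hconj : ∀ x : G, ∃ v ∈ N, MulAut.conj x • (⨆ T, K T) = MulAut.conj v • (⨆ T, K T) := by
    intro x
    -- the action on the components
    have hact : ∀ T : minSet N, ∃ T' : minSet N, MulAut.conj x • T.1 = T'.1 := by
      intro T
      exact ⟨⟨_, map_conj_mem_minSet T.2 x⟩, (conj_eq x T.1).symm⟩
    choose τ hτ using hact
    have hτinj : Function.Injective τ := by
      intro S T h
      apply Subtype.ext
      have : MulAut.conj x • S.1 = MulAut.conj x • T.1 := by rw [hτ, hτ, h]
      exact smul_left_cancel _ this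
    have hτsurj : Function.Surjective τ := Finite.surjective_of_injective hτinj
    -- elements of the components
    have hs : ∀ T : minSet N, ∃ s ∈ (τ T).1, MulAut.conj x • K T = MulAut.conj s • K (τ T) := by
      intro T
      set h := (g (τ T))⁻¹ * x * g T with hh
      have hT₀h : MulAut.conj h • T₀ = T₀ := by
        rw [hh, map_mul, map_mul, mul_smul, mul_smul, hg T, hτ T, map_inv, inv_smul_eq_iff, hg (τ T)]
      -- the automorphism of `T₀` induced by `h`
      have hmem : ∀ y : G, y ∈ T₀ ↔ h * y * h⁻¹ ∈ T₀ := by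
        intro y
        constructor
        · intro hy
          have : MulAut.conj h y ∈ MulAut.conj h • T₀ := ⟨y, hy, rfl⟩
          rw [hT₀h] at this
          exact this
        · intro hy
          have h1 : h * y * h⁻¹ ∈ MulAut.conj h • T₀ := by rw [hT₀h]; exact hy
          obtain ⟨z, hz, hzy⟩ := h1
          have : (MulAut.conj h) z = (MulAut.conj h) y := hzy
          rw [← (MulAut.conj h).injective this]
          exact hz
      let φ : MulAut T₀ :=
        { toFun := fun y => ⟨h * y * h⁻¹, (hmem y).mp y.2⟩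
          invFun := fun y => ⟨h⁻¹ * y * h, by
            rw [hmem]; convert y.2 using 1; group⟩
          left_inv := fun y => Subtype.ext (by simp; group)
          right_inv := fun y => Subtype.ext (by simp; group)
          map_mul' := fun y z => Subtype.ext (by simp) }
      have hφ : (φ • K₁).map T₀.subtype = MulAut.conj h • K₀ := by
        ext y
        simp only [hK₀, mem_map, mem_smul_pointwise_iff_exists]
        constructor
        · rintro ⟨a, ⟨b, hb, rfl⟩, rfl⟩
          exact ⟨b, ⟨b, hb, rfl⟩, rfl⟩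
        · rintro ⟨a, ⟨b, hb, rfl⟩, rfl⟩
          exact ⟨φ b, ⟨b, hb, rfl⟩, rfl⟩
      obtain ⟨s, hs⟩ := hK3 φ
      have h3 : MulAut.conj h • K₀ = MulAut.conj (s : G) • K₀ := by
        rw [← hφ, hs, Cfsg.Agent.Solvable.SZ.map_conj_smul]
        rfl
      refine ⟨g (τ T) * s * (g (τ T))⁻¹, ?_, ?_⟩
      · rw [← hg (τ T)]
        exact ⟨s, s.2, rfl⟩
      · show MulAut.conj x • (MulAut.conj (g T) • K₀) = MulAut.conj _ • (MulAut.conj (g (τ T)) • K₀)
        rw [← mul_smul, ← map_mul, ← mul_smul, ← map_mul]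
        have h4 : x * g T = g (τ T) * h := by rw [hh]; group
        have h5 : g (τ T) * s * (g (τ T))⁻¹ * g (τ T) = g (τ T) * s := by group
        rw [h4, h5, map_mul _ (g (τ T)) h, map_mul _ (g (τ T)) (s : G), mul_smul, mul_smul, h3]
    choose s hsT hsK using hs
    -- the inverse permutation
    let σ := (Equiv.ofBijective τ ⟨hτinj, hτsurj⟩)
    obtain ⟨v, hvN, hv, -⟩ := exists_prod (fun T : minSet N => T.1) N (fun T => T.2.1) hcomm
      (fun T => s (σ.symm T)) (fun T => by
        have := hsT (σ.symm T)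
        rwa [show τ (σ.symm T) = T from σ.apply_symm_apply T] at this) Finset.univ
    refine ⟨v, hvN, ?_⟩
    have key : ∀ T : minSet N, MulAut.conj x • K T = MulAut.conj v • K (τ T) := by
      intro T
      rw [hsK T]
      have h1 := hv (τ T) (Finset.mem_univ _)
      rw [show σ.symm (τ T) = T from σ.symm_apply_apply T] at h1
      have h2 : v = s T * ((s T)⁻¹ * v) := by group
      conv_rhs => rw [h2]
      rw [map_mul, mul_smul]
      congr 1
      symm
      ext y
      simp only [mem_smul_pointwise_iff_exists]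
      constructor
      · rintro ⟨a, ha, rfl⟩
        have : Commute ((s T)⁻¹ * v) a := h1 a (hKT _ ha)
        have h3 : MulAut.conj ((s T)⁻¹ * v) • a = a := by
          rw [MulAut.smul_def, MulAut.conj_apply, this.eq, mul_inv_cancel_right]
        rw [h3]; exact ha
      · intro hy
        have : Commute ((s T)⁻¹ * v) y := h1 y (hKT _ hy)
        refine ⟨y, hy, ?_⟩
        rw [MulAut.smul_def, MulAut.conj_apply, this.eq, mul_inv_cancel_right]
    have e1 : MulAut.conj x • (⨆ T, K T) = ⨆ T, MulAut.conj x • K T := by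
      rw [← conj_eq, Subgroup.map_iSup]
      exact iSup_congr fun T => conj_eq _ _
    have e2 : MulAut.conj v • (⨆ T, K T) = ⨆ T, MulAut.conj v • K T := by
      rw [← conj_eq, Subgroup.map_iSup]
      exact iSup_congr fun T => conj_eq _ _
    rw [e1, e2, iSup_congr key]
    exact hτsurj.iSup_comp (fun T => MulAut.conj v • K T)
  -- Frattini
  refine epi_of_frattini ih N (normalizer ((⨆ T, K T : Subgroup G) : Set G)) ?_ ?_ hN (⨆ T, H T) hHN ?_ ?_ ?_
  · -- `K` is not normal
    intro htop
    have hKn : (⨆ T, K T).Normal := normalizer_eq_top_iff.mp htop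
    have hk0 : Nat.card K₀ ≠ 1 := by
      intro h
      apply hK1
      have h1 : K₀ = ⊥ := card_eq_one.mp h
      rw [hK₀] at h1
      exact (Subgroup.map_eq_bot_iff_of_injective K₁ T₀.subtype_injective).mp h1
    have hkT : Nat.card K₀ < Nat.card T₀ := by
      have h1 : Nat.card K₀ = Nat.card K₁ := card_map_of_injective T₀.subtype_injective
      rw [h1]
      exact lt_of_le_of_ne (Nat.le_of_dvd Nat.card_pos (card_subgroup_dvd_card K₁))
        fun h => hK2 (eq_top_of_card_eq K₁ h)
    rcases hmin _ hKn hKN with h | h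
    · have : Nat.card ↥(⨆ T, K T) = 1 := by rw [h]; simp
      rw [hcardK, Finset.prod_const, Finset.card_univ] at this
      have h3 : 0 < Fintype.card (minSet N) := Fintype.card_pos
      exact hk0 ((Nat.pow_eq_one.mp this).resolve_right h3.ne')
    · have : Nat.card ↥(⨆ T, K T) = Nat.card N := by rw [h]
      rw [hcardK, hcardN, Finset.prod_const, Finset.prod_const, Finset.card_univ] at this
      exact absurd this (Nat.pow_lt_pow_left hkT Fintype.card_ne_zero).ne
  · -- `G = N N_G(K)`
    rw [eq_top_iff]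
    intro x _
    obtain ⟨v, hvN, hv⟩ := hconj x
    have h1 : v⁻¹ * x ∈ normalizer ((⨆ T, K T : Subgroup G) : Set G) := by
      have h2 : MulAut.conj (v⁻¹ * x) • (⨆ T, K T) = (⨆ T, K T) := by
        rw [map_mul, mul_smul, hv, ← mul_smul, ← map_mul, inv_mul_cancel, map_one, one_smul]
      rw [mem_normalizer_iff]
      intro y
      constructor
      · intro hy
        have : (MulAut.conj (v⁻¹ * x)) y ∈ MulAut.conj (v⁻¹ * x) • (⨆ T, K T) := ⟨y, hy, rfl⟩
        rw [h2] at this
        exact this
      · intro hy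
        have h8 : v⁻¹ * x * y * (v⁻¹ * x)⁻¹ ∈ MulAut.conj (v⁻¹ * x) • (⨆ T, K T) := by rw [h2]; exact hy
        obtain ⟨z, hz, h9⟩ := h8
        have h10 : (MulAut.conj (v⁻¹ * x)) z = (MulAut.conj (v⁻¹ * x)) y := h9
        rw [← (MulAut.conj (v⁻¹ * x)).injective h10]
        exact hz
    have : x = v * (v⁻¹ * x) := by group
    rw [this, sup_comm]
    exact mul_mem_sup hvN h1
  · -- `H` normalises `K`
    apply iSup_le
    intro T x hx
    have hxT := hHT T hx
    have key : ∀ S : minSet N, MulAut.conj x • K S = K S := by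
      intro S
      by_cases hST : S = T
      · subst hST
        obtain ⟨y, hy, hyx⟩ := (mem_smul_pointwise_iff_exists _ _ _).mp hx
        obtain ⟨z, hz, rfl⟩ := hy
        have h1 : x = g S * z * (g S)⁻¹ := hyx.symm
        show MulAut.conj x • (MulAut.conj (g S) • K₀) = MulAut.conj (g S) • K₀
        rw [← mul_smul, ← map_mul, h1]
        have h2 : g S * (z : G) * (g S)⁻¹ * g S = g S * z := by group
        rw [h2, map_mul, mul_smul]
        congr 1
        have h3 := hHK hz
        rw [hK₀]
        have h4 : MulAut.conj z • K₁ = K₁ := by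
          ext y
          rw [mem_smul_pointwise_iff_exists]
          rw [mem_normalizer_iff] at h3
          constructor
          · rintro ⟨a, ha, rfl⟩
            exact (h3 a).mp ha
          · intro hy
            refine ⟨z⁻¹ * y * z, ?_, by simp [mul_assoc]⟩
            rw [h3]
            convert hy using 1
            group
        have h5 := Cfsg.Agent.Solvable.SZ.map_conj_smul T₀.subtype z K₁
        rw [h4] at h5
        exact h5.symm
      · ext y
        rw [mem_smul_pointwise_iff_exists]
        constructor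
        · rintro ⟨a, ha, rfl⟩
          have : Commute x a := hcomm T S (Ne.symm hST) x hxT a (hKT S ha)
          rw [MulAut.smul_def, MulAut.conj_apply, this.eq, mul_inv_cancel_right]
          exact ha
        · intro hy
          have : Commute x y := hcomm T S (Ne.symm hST) x hxT y (hKT S hy)
          exact ⟨y, hy, by rw [MulAut.smul_def, MulAut.conj_apply, this.eq, mul_inv_cancel_right]⟩
    have h2 : MulAut.conj x • (⨆ T, K T) = (⨆ T, K T) := by
      rw [← conj_eq, Subgroup.map_iSup]
      exact iSup_congr fun T => by rw [conj_eq]; exact key T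
    rw [mem_normalizer_iff]
    intro y
    constructor
    · intro hy
      have : (MulAut.conj x) y ∈ MulAut.conj x • (⨆ T, K T) := ⟨y, hy, rfl⟩
      rw [h2] at this
      exact this
    · intro hy
      have h8 : x * y * x⁻¹ ∈ MulAut.conj x • (⨆ T, K T) := by rw [h2]; exact hy
      obtain ⟨z, hz, h9⟩ := h8
      have h10 : (MulAut.conj x) z = (MulAut.conj x) y := h9
      rw [← (MulAut.conj x).injective h10]
      exact hz
  · rw [hcardH]
    exact piN_prod _ _ fun T _ => by rw [cH]; exact hH₁.1
  · have h1 : (⨆ T, H T).relIndex N * Nat.card ↥(⨆ T, H T) = Nat.card N := by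
      have := relIndex_mul_relIndex ⊥ (⨆ T, H T) N bot_le hHN
      rw [relIndex_bot_left, relIndex_bot_left] at this
      rw [mul_comm]; exact this
    have h2 : (⨆ T, H T).relIndex N = ∏ T : minSet N, H₁.index := by
      apply Nat.eq_of_mul_eq_mul_right (Nat.card_pos (α := ↥(⨆ T, H T)))
      rw [h1, hcardN, hcardH, ← Finset.prod_mul_distrib]
      exact Finset.prod_congr rfl fun T _ => by rw [← cHT, mul_comm]
    rw [h2]
    exact piN'_prod _ _ fun T _ => hH₁.2

/-- `E_π` passes to normal subgroups. -/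
theorem epi_normal {A : Subgroup G} [A.Normal] (h : IsEPiGroup π G) : IsEPiGroup π A := by
  obtain ⟨H, hH⟩ := h
  exact ⟨_, isPiHall_subgroupOf hH A⟩

/-- **The reduction.** -/
theorem ext_of_rows (n : ℕ)
    (hrow : ∀ (S : Type u) [Group S] [Finite S] [IsSimpleGroup S], ¬ IsMulCommutative S → IsEPiGroup π S →
      PiN π (Nat.card S) ∨ Good π S) :
    ∀ (G : Type u) [Group G] [Finite G], Nat.card G = n → ∀ (A : Subgroup G) [A.Normal],
      IsEPiGroup π A → IsEPiGroup π (G ⧸ A) → IsEPiGroup π G := by
  induction n using Nat.strong_induction_on with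
  | _ n ih =>
    intro G _ _ hn A _ hA hQ
    have ih' : IH π G := fun M _ _ hM A _ hA hQ => ih _ (hn ▸ hM) M rfl A hA hQ
    rcases descend ih' A hA hQ with h | hAi
    · exact h
    by_cases hA1 : A = ⊥
    · subst hA1
      exact epi_top (by rwa [index_bot] at hAi)
    obtain ⟨N, hNn, hN1, hNA, hmin⟩ : ∃ N : Subgroup G, N.Normal ∧ N ≠ ⊥ ∧ N ≤ A ∧
        ∀ M : Subgroup G, M.Normal → M ≤ N → M = ⊥ ∨ M = N := by
      have hfin : {T : Subgroup G | T.Normal ∧ T ≠ ⊥ ∧ T ≤ A}.Finite := Set.toFinite _
      obtain ⟨T, ⟨hTn, hT0, hTA⟩, hTmin⟩ := hfin.exists_minimal ⟨A, inferInstance, hA1, le_rfl⟩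
      refine ⟨T, hTn, hT0, hTA, fun M hM hMT => ?_⟩
      by_cases hS0 : M = ⊥
      · exact Or.inl hS0
      · exact Or.inr (le_antisymm hMT (hTmin ⟨hM, hS0, hMT.trans hTA⟩ hMT))
    -- `N` and `G/N` are in `E_π`
    have hNE : IsEPiGroup π N := by
      have h1 : IsEPiGroup π (N.subgroupOf A) := epi_normal hA
      obtain ⟨X, hX⟩ := h1
      have e : N.subgroupOf A ≃* N := subgroupOfEquivOfLe hNA
      refine ⟨X.map e.toMonoidHom, ?_, ?_⟩
      · have : PiN π (Nat.card (X.map e.toMonoidHom)) := by
          rw [card_map_of_injective e.injective]; exact hX.1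
        exact this
      · have : PiN' π (X.map e.toMonoidHom).index := PiN'.of_dvd hX.2 (index_map_dvd X e.surjective)
        exact this
    have hQN : IsEPiGroup π (G ⧸ N) := by
      have hAN : (A.map (QuotientGroup.mk' N)).Normal :=
        Normal.map inferInstance _ (QuotientGroup.mk'_surjective N)
      refine ih' (G ⧸ N) ?_ (A.map (QuotientGroup.mk' N)) ?_ (epi_top ?_)
      · have h1 := N.card_mul_index
        have h3 : Nat.card (G ⧸ N) = N.index := rfl
        rw [h3]
        have h4 : 1 < Nat.card N := by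
          rcases Nat.lt_or_ge 1 (Nat.card N) with h | h
          · exact h
          · exact absurd (card_eq_one.mp (le_antisymm h Nat.card_pos)) hN1
        have h5 : 0 < N.index := Nat.pos_of_ne_zero index_ne_zero_of_finite
        nlinarith
      · obtain ⟨X, hX⟩ := hA
        refine ⟨X.map ((QuotientGroup.mk' N).subgroupMap A), ?_, ?_⟩
        · exact PiN.of_dvd hX.1 (card_map_dvd _ _)
        · exact PiN'.of_dvd hX.2 (index_map_dvd X ((QuotientGroup.mk' N).subgroupMap_surjective A))
      · have : PiN π (A.map (QuotientGroup.mk' N)).index := PiN.of_dvd hAi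
          (index_map_dvd A (QuotientGroup.mk'_surjective N))
        exact this
    rcases descend ih' N hNE hQN with h | hNi
    · exact h
    by_cases hab : ∀ x ∈ N, ∀ y ∈ N, Commute x y
    · obtain ⟨p, hp, hpN, -⟩ := abelian_structure N hN1 hmin hab
      have := Fact.mk hp
      obtain ⟨k, hk⟩ := IsPGroup.iff_card.mp hpN
      by_cases hpi : p ∈ π
      · apply epi_top
        rw [← N.card_mul_index]
        refine PiN.mul ?_ hNi
        intro q hq hd
        rw [hk] at hd
        rw [(Nat.prime_dvd_prime_iff_eq hq hp).mp (hq.dvd_of_dvd_pow hd)]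
        exact hpi
      · refine (cpi_of_compl N ?_ hNi).1
        intro q hq hqπ hd
        rw [hk] at hd
        rw [(Nat.prime_dvd_prime_iff_eq hq hp).mp (hq.dvd_of_dvd_pow hd)] at hqπ
        exact hpi hqπ
    · obtain ⟨s1, s2, s3, s4, s5, s6⟩ := nonabelian_structure N hmin hab
      obtain ⟨T₀, hT₀⟩ := s1
      have hsim : IsSimpleGroup T₀ := s4 T₀ hT₀
      have hna : ¬ IsMulCommutative T₀ := by
        intro hc
        obtain ⟨x, hx⟩ := exists_ne (1 : T₀)
        apply hx
        exact Subtype.ext (s5 T₀ hT₀ x x.2 fun t ht => congrArg Subtype.val (hc.is_comm.comm x ⟨t, ht⟩))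
      have hT₀N : (T₀.subgroupOf N).Normal := (normal_subgroupOf_iff_le_normalizer hT₀.1).mpr hT₀.2.2.1
      have hT₀E : IsEPiGroup π T₀ := by
        have h1 : IsEPiGroup π (T₀.subgroupOf N) := epi_normal hNE
        obtain ⟨X, hX⟩ := h1
        have e : T₀.subgroupOf N ≃* T₀ := subgroupOfEquivOfLe hT₀.1
        refine ⟨X.map e.toMonoidHom, ?_, ?_⟩
        · have : PiN π (Nat.card (X.map e.toMonoidHom)) := by
            rw [card_map_of_injective e.injective]; exact hX.1
          exact this
        · have : PiN' π (X.map e.toMonoidHom).index := PiN'.of_dvd hX.2 (index_map_dvd X e.surjective)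
          exact this
      rcases hrow T₀ hna hT₀E with h | h
      · -- `N` is a `π`-group
        apply epi_top
        rw [← N.card_mul_index]
        refine PiN.mul ?_ hNi
        have hfin : Finite (minSet N) := Set.toFinite _
        let _ : Fintype (minSet N) := Fintype.ofFinite _
        have hcomm : Pairwise fun i j : minSet N => ∀ x y : G, x ∈ i.1 → y ∈ j.1 → Commute x y := by
          intro S T hST x y hx hy
          exact commute_of_mem s2 (fun U hU => hU.2.2.1) (fun U hU => hU.1) S.2 T.2
            (fun h => hST (Subtype.ext h)) hx hy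
        have hsup : ⨆ T : minSet N, T.1 = N := (sSup_eq_iSup' _).symm.trans s3
        have e0 : Nat.card N = Nat.card ↥(⨆ T : minSet N, T.1) := by rw [hsup]
        rw [e0, card_iSup hcomm ((sSupIndep_iff _).mp s2)]
        refine piN_prod _ _ fun T _ => ?_
        obtain ⟨g, hg⟩ := s6 T₀ hT₀ T.1 T.2
        rw [hg, conj_eq, Cfsg.Agent.Solvable.SZ.card_conj_smul]
        exact h
      · exact epi_of_good ih' N hmin hab hNi T₀ hT₀ h

/-- the reduction, final form -/
theorem epi_extension_of_rows
    (hrow : ∀ (S : Type u) [Group S] [Finite S] [IsSimpleGroup S], ¬ IsMulCommutative S → IsEPiGroup π S →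
      PiN π (Nat.card S) ∨ Good π S)
    (A : Subgroup G) [A.Normal] (hA : IsEPiGroup π A) (hQ : IsEPiGroup π (G ⧸ A)) : IsEPiGroup π G :=
  ext_of_rows _ hrow G rfl A hA hQ

end Cfsg.Agent.H553.ExtRed
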