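import Cfsg.Agent.H553.GoodAlt
import Cfsg.Agent.H553.GoodGen
import Cfsg.Agent.H565.GoodMem
import Cfsg.Agent.H14.RowReeJOne
import Cfsg.Agent.H556.GoodGTwo
import Cfsg.Prelude.Def_Classification2
import Cfsg.Prelude.Def_LieTypeChar

/-!
# The assembly of S4312, `2 ∈ π`, `3 ∉ π` (helper553)
-/

set_option autoImplicit false

open Cfsg Subgroup
open Cfsg.Agent.H988.CPi Cfsg.Agent.H553.OddHall

namespace Cfsg.Agent.H553.ExtRed

universe u

/-- the conclusion of the rows -/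
def Rw (π : Set ℕ) (S : Type u) [Group S] : Prop := PiN π (Nat.card S) ∨ Good π S

/-- the rows in odd characteristic `p ∉ π` -/
structure LieRows (π : Set ℕ) (S : Type u) [Group S] : Prop where
  psl : ∀ p : ℕ, p.Prime → p ∉ π → IsPSLChar p S → Rw π S
  psp : ∀ p : ℕ, p.Prime → p ∉ π → IsPSpChar p S → Rw π S
  psu : ∀ p : ℕ, p.Prime → p ∉ π → IsPSUChar p S → Rw π S
  oOdd : ∀ p : ℕ, p.Prime → p ∉ π → IsPOmegaOddChar p S → Rw π S
  oPlus : ∀ p : ℕ, p.Prime → p ∉ π → IsPOmegaPlusChar p S → Rw π S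
  oMinus : ∀ p : ℕ, p.Prime → p ∉ π → IsPOmegaMinusChar p S → Rw π S
  f4 : ∀ p : ℕ, p.Prime → p ∉ π → ∀ (F : Type) [Field F] [Fintype F] [CharP F p],
    Nonempty (S ≃* Lie.chevF4.group F) → Rw π S
  e6 : ∀ p : ℕ, p.Prime → p ∉ π → ∀ (F : Type) [Field F] [Fintype F] [CharP F p],
    Nonempty (S ≃* Lie.chevE6.group F) → Rw π S
  e7 : ∀ p : ℕ, p.Prime → p ∉ π → ∀ (F : Type) [Field F] [Fintype F] [CharP F p],
    Nonempty (S ≃* Lie.chevE7.group F) → Rw π S
  e8 : ∀ p : ℕ, p.Prime → p ∉ π → ∀ (F : Type) [Field F] [Fintype F] [CharP F p],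
    Nonempty (S ≃* Lie.chevE8.group F) → Rw π S
  tw : ∀ p : ℕ, p.Prime → p ∉ π → ∀ (F : Type) [Field F] [Fintype F] [CharP F p] (q : ℕ), IsPrimePow q →
    Fintype.card F = q ^ 2 → Nonempty (S ≃* Lie.twistedE6 F q) → Rw π S

variable {π : Set ℕ} {S : Type u} [Group S] [Finite S] [IsSimpleGroup S]

theorem good_known (hna : ¬ IsMulCommutative S) (hodd : OddC S) (hE : IsEPiGroup π S) (h2 : 2 ∈ π) (h3 : 3 ∉ π)
    (hspor : IsSporadicGroup S → Rw π S) (R : LieRows π S) (hS : IsKnownSimple' S) :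
    PiN π (Nat.card S) ∨ Good π S := by
  have mem : ∀ p : ℕ, p.Prime → IsLieTypeChar p S → p ∈ π → Rw π S := fun p hp hG hpπ =>
    H565.Br.good_of_lie_mem hp hna hG h3 hpπ hE
  have cases : ∀ p : ℕ, p.Prime → IsLieTypeChar p S → (p ∉ π → Rw π S) → Rw π S := by
    intro p hp hG h
    by_cases hpπ : p ∈ π
    · exact mem p hp hG hpπ
    · exact h hpπ
  rcases hS with h | h | h | h | h | h | h | h | h | h
  · exfalso
    have : Fact (Nat.card S).Prime := ⟨h⟩
    have : IsCyclic S := isCyclic_of_prime_card (p := Nat.card S) rfl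
    exact hna inferInstance
  · exact Or.inr (good_alternating hna h h2 h3 hE)
  · obtain ⟨F, iF, iFt, n, h1⟩ := h
    obtain ⟨p, hp⟩ := CharP.exists F
    have hc : IsPSLChar p S := ⟨F, iF, iFt, hp, n, h1⟩
    have hpp : p.Prime := CharP.char_is_prime F p
    exact cases p hpp (Or.inl hc) fun h => R.psl p hpp h hc
  · obtain ⟨F, iF, iFt, n, h1⟩ := h
    obtain ⟨p, hp⟩ := CharP.exists F
    have hc : IsPSpChar p S := ⟨F, iF, iFt, hp, n, h1⟩
    have hpp : p.Prime := CharP.char_is_prime F p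
    exact cases p hpp (Or.inr <| Or.inl hc) fun h => R.psp p hpp h hc
  · obtain ⟨F, iF, iFt, n, h1⟩ := h
    obtain ⟨p, hp⟩ := CharP.exists F
    have hc : IsPSUChar p S := ⟨F, iF, iFt, hp, n, h1⟩
    have hpp : p.Prime := CharP.char_is_prime F p
    exact cases p hpp (Or.inr <| Or.inr <| Or.inl hc) fun h => R.psu p hpp h hc
  · obtain ⟨F, iF, iFt, n, h1⟩ := h
    obtain ⟨p, hp⟩ := CharP.exists F
    have hc : IsPOmegaOddChar p S := ⟨F, iF, iFt, hp, n, h1⟩
    have hpp : p.Prime := CharP.char_is_prime F p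
    exact cases p hpp (Or.inr <| Or.inr <| Or.inr <| Or.inl hc) fun h => R.oOdd p hpp h hc
  · obtain ⟨F, iF, iFt, n, h1⟩ := h
    obtain ⟨p, hp⟩ := CharP.exists F
    have hc : IsPOmegaPlusChar p S := ⟨F, iF, iFt, hp, n, h1⟩
    have hpp : p.Prime := CharP.char_is_prime F p
    exact cases p hpp (Or.inr <| Or.inr <| Or.inr <| Or.inr <| Or.inl hc) fun h => R.oPlus p hpp h hc
  · obtain ⟨F, iF, iFt, n, h1⟩ := h
    obtain ⟨p, hp⟩ := CharP.exists F
    have hc : IsPOmegaMinusChar p S := ⟨F, iF, iFt, hp, n, h1⟩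
    have hpp : p.Prime := CharP.char_is_prime F p
    exact cases p hpp (Or.inr <| Or.inr <| Or.inr <| Or.inr <| Or.inr <| Or.inl hc) fun h => R.oMinus p hpp h hc
  · rcases h with h | h | h | h | h | h | h | h | h | h | h
    · obtain ⟨F, iF, iFt, h3F, he⟩ := h
      obtain ⟨p, hp⟩ := CharP.exists F
      have hpp : p.Prime := CharP.char_is_prime F p
      exact cases p hpp (Or.inr <| Or.inr <| Or.inr <| Or.inr <| Or.inr <| Or.inr <| Or.inl
        ⟨F, iF, iFt, hp, Or.inl ⟨h3F, he⟩⟩) fun h =>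
        H556.GTwoNil.row_g2 hna h2 h3 hodd hE p hpp h F h3F he
    · obtain ⟨F, iF, iFt, he⟩ := h
      obtain ⟨p, hp⟩ := CharP.exists F
      have hpp : p.Prime := CharP.char_is_prime F p
      exact cases p hpp (Or.inr <| Or.inr <| Or.inr <| Or.inr <| Or.inr <| Or.inr <| Or.inl
        ⟨F, iF, iFt, hp, Or.inr <| Or.inl he⟩) fun h => R.f4 p hpp h F he
    · obtain ⟨F, iF, iFt, he⟩ := h
      obtain ⟨p, hp⟩ := CharP.exists F
      have hpp : p.Prime := CharP.char_is_prime F p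
      exact cases p hpp (Or.inr <| Or.inr <| Or.inr <| Or.inr <| Or.inr <| Or.inr <| Or.inl
        ⟨F, iF, iFt, hp, Or.inr <| Or.inr <| Or.inl he⟩) fun h => R.e6 p hpp h F he
    · obtain ⟨F, iF, iFt, he⟩ := h
      obtain ⟨p, hp⟩ := CharP.exists F
      have hpp : p.Prime := CharP.char_is_prime F p
      exact cases p hpp (Or.inr <| Or.inr <| Or.inr <| Or.inr <| Or.inr <| Or.inr <| Or.inl
        ⟨F, iF, iFt, hp, Or.inr <| Or.inr <| Or.inr <| Or.inl he⟩) fun h => R.e7 p hpp h F he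
    · obtain ⟨F, iF, iFt, he⟩ := h
      obtain ⟨p, hp⟩ := CharP.exists F
      have hpp : p.Prime := CharP.char_is_prime F p
      exact cases p hpp (Or.inr <| Or.inr <| Or.inr <| Or.inr <| Or.inr <| Or.inr <| Or.inl
        ⟨F, iF, iFt, hp, Or.inr <| Or.inr <| Or.inr <| Or.inr he⟩) fun h => R.e8 p hpp h F he
    · obtain ⟨F, iF, iFt, q, hq, hF, he⟩ := h
      obtain ⟨p, hp⟩ := CharP.exists F
      have hpp : p.Prime := CharP.char_is_prime F p
      exact cases p hpp (Or.inr <| Or.inr <| Or.inr <| Or.inr <| Or.inr <| Or.inr <| Or.inr <| Or.inl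
        ⟨F, iF, iFt, hp, q, hq, Or.inl ⟨hF, he⟩⟩) fun h => R.tw p hpp h F q hq hF he
    · obtain ⟨F, iF, iFt, q, hq, hF, he⟩ := h
      obtain ⟨p, hp⟩ := CharP.exists F
      have hpp : p.Prime := CharP.char_is_prime F p
      exact cases p hpp (Or.inr <| Or.inr <| Or.inr <| Or.inr <| Or.inr <| Or.inr <| Or.inr <| Or.inl
        ⟨F, iF, iFt, hp, q, hq, Or.inr ⟨hF, he⟩⟩) fun h =>
        H556.GTwoNil.row_d4 hna h2 h3 hodd hE p hpp h F q hq hF he
    · exact mem 2 Nat.prime_two (Or.inr <| Or.inr <| Or.inr <| Or.inr <| Or.inr <| Or.inr <| Or.inr <| Or.inr <|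
        Or.inl ⟨rfl, h⟩) h2
    · exact H14.RowReeJOne.good_ree h hna h2 h3 hodd hE
    · exact mem 2 Nat.prime_two (Or.inr <| Or.inr <| Or.inr <| Or.inr <| Or.inr <| Or.inr <| Or.inr <| Or.inr <|
        Or.inr <| Or.inl ⟨rfl, h⟩) h2
    · exact H565.Br.good_of_tits hna h h3 h2 hE
  · exact hspor h

end Cfsg.Agent.H553.ExtRed
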