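import Cfsg.Agent.H553.OddFin
import Cfsg.Agent.H553.GoodSpor
import Cfsg.Agent.H553.GoodAsm
import Cfsg.Agent.H553.ExtRed
import Cfsg.Agent.H558.Deg4Data.Final
import Cfsg.Agent.H558.Orth.Final
import Cfsg.Agent.H554.BS.Rows
import Cfsg.Agent.H554.BS.Row6
import Cfsg.Agent.H565.InvTwoB

/-!
# S4312 from the rows and the classification (helper553)
-/

set_option autoImplicit false

open Cfsg Subgroup
open scoped Pointwise
open Cfsg.Agent.H988.CPi Cfsg.Agent.H553.OddHall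

namespace Cfsg.Agent.H553.ExtRed

universe u

/-- all rows of Lie type with `p ∉ π` -/
theorem lieRows {π : Set ℕ} {S : Type u} [Group S] [Finite S] [IsSimpleGroup S]
    (hna : ¬ IsMulCommutative S) (hE : IsEPiGroup π S) (h2 : 2 ∈ π) (h3 : 3 ∉ π) : LieRows π S where
  psl := H558.Deg4Data.rw_psl hna hE h2 h3
  psp := H558.Deg4Data.rw_psp hna hE h2 h3
  psu := H558.Deg4Data.rw_psu hna hE h2 h3
  oOdd := H558.Orth.rw_oOdd hna hE h2 h3
  oPlus := H558.Orth.rw_oPlus hna hE h2 h3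
  oMinus := H558.Orth.rw_oMinus hna hE h2 h3
  f4 := fun _ hp hpπ _ _ _ _ h => H554.BS.row_f4 hna hE h2 h3 hp hpπ h
  e6 := fun _ hp hpπ _ _ _ _ h => H554.BS.row_e6 hna hE h2 h3 hp hpπ h
  e7 := fun _ hp hpπ _ _ _ _ h => H554.BS.row_e7 hna hE h2 h3 hp hpπ h
  e8 := fun _ hp hpπ _ _ _ _ h => H554.BS.row_e8 hna hE h2 h3 hp hpπ h
  tw := fun _ hp hpπ _ _ _ _ _ hq hK h => H554.BS.row_tw hna hE h2 h3 hp hpπ hq hK h

/-- every simple `E_π`-group with `2 ∈ π`, `3 ∉ π` is a `π`-group or good -/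
theorem good_of_known {π : Set ℕ} {S : Type u} [Group S] [Finite S] [IsSimpleGroup S]
    (hna : ¬ IsMulCommutative S) (hodd : OddC S) (hE : IsEPiGroup π S) (h2 : 2 ∈ π) (h3 : 3 ∉ π)
    (h : IsKnownSimple' S) : PiN π (Nat.card S) ∨ Good π S :=
  good_known hna hodd hE h2 h3 (fun h => good_sporadic h hna hE h2 h3 (H565.InvTwoB.sporB hna hE h2 h3))
    (lieRows hna hE h2 h3) h

/-- S4312 -/
theorem ext_final (hK : ∀ (S : Type u) [Group S] [Finite S] [IsSimpleGroup S], IsKnownSimple' S)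
    (π : Set ℕ) (h23 : 2 ∉ π ∨ 3 ∉ π) {G : Type u} [Group G] [Finite G] (A : Subgroup G) [A.Normal]
    (hA : IsEPiGroup π A) (hQ : IsEPiGroup π (G ⧸ A)) : IsEPiGroup π G := by
  by_cases h2 : 2 ∈ π
  · have h3 : 3 ∉ π := h23.resolve_left fun h => h h2
    refine epi_extension_of_rows (fun S _ _ _ hna hE => ?_) A hA hQ
    exact good_of_known hna (fun π' h2' H K hH hH' => odd_final hK π' h2' H K hH hH') hE h2 h3 (hK S)
  · have key := fun (G : Type u) [Group G] [Finite G] (hE : IsEPiGroup π G) =>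
      cpi_of_simple_ind _ (fun S _ _ _ hna hind => odd_known hna hind (hK S)) G rfl π h2 hE
    exact (cpi_extension A (key _ hA) (key _ hQ)).1

end Cfsg.Agent.H553.ExtRed
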