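import Mathlib
import Cfsg.Agent.H553.KClass

/-!
# The 5/8 theorem

`five_eight`: a finite non-abelian group `G` has `8 k(G) ≤ 5 |G|`.
-/

set_option autoImplicit false

namespace Cfsg.Agent.H553.FiveEight

open Subgroup

/-- The centre of a non-abelian group has index at least 4. -/
theorem four_mul_card_center_le {G : Type*} [Group G] [Finite G] (h : ¬ IsMulCommutative G) :
    4 * Nat.card (center G) ≤ Nat.card G := by
  have h1 : 4 ≤ (center G).index := by
    by_contra hlt
    push Not at hlt
    apply h
    have hcyc : IsCyclic (G ⧸ center G) := by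
      have hidx : Nat.card (G ⧸ center G) = (center G).index := rfl
      have hpos : 0 < Nat.card (G ⧸ center G) := Nat.card_pos
      have h3 : Nat.card (G ⧸ center G) = 1 ∨ Nat.card (G ⧸ center G) = 2 ∨
          Nat.card (G ⧸ center G) = 3 := by omega
      rcases h3 with h3 | h3 | h3
      · have : Subsingleton (G ⧸ center G) := (Nat.card_eq_one_iff_unique.mp h3).1
        infer_instance
      · have : Fact (Nat.Prime 2) := ⟨Nat.prime_two⟩
        exact isCyclic_of_prime_card h3
      · have : Fact (Nat.Prime 3) := ⟨Nat.prime_three⟩
        exact isCyclic_of_prime_card h3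
    exact MonoidHom.isMulCommutative_of_isCyclic_of_ker_le_center (QuotientGroup.mk' (center G))
      (by rw [QuotientGroup.ker_mk'])
  calc 4 * Nat.card (center G) ≤ (center G).index * Nat.card (center G) :=
        Nat.mul_le_mul_right _ h1
    _ = Nat.card G := by rw [mul_comm, Subgroup.card_mul_index]

/-- **The 5/8 theorem.** -/
theorem five_eight {G : Type*} [Group G] [Finite G] (h : ¬ IsMulCommutative G) :
    8 * Nat.card (ConjClasses G) ≤ 5 * Nat.card G := by
  classical
  have := Fintype.ofFinite G
  have h1 := card_comm_eq_card_conjClasses_mul_card G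
  have h2 : Nat.card {p : G × G // Commute p.1 p.2} =
      ∑ x : G, Nat.card (centralizer ({x} : Set G)) := by
    rw [← Nat.card_sigma]
    refine Nat.card_congr ⟨fun p => ⟨p.1.1, ⟨p.1.2, ?_⟩⟩, fun q => ⟨(q.1, q.2.1), ?_⟩, ?_, ?_⟩
    · rw [mem_centralizer_singleton_iff]
      exact p.2.symm
    · have := q.2.2
      rw [mem_centralizer_singleton_iff] at this
      exact (show Commute q.2.1 q.1 from this).symm
    · intro p
      rfl
    · intro q
      rfl
  have h3 : ∀ x : G, 2 * Nat.card (centralizer ({x} : Set G)) ≤
      Nat.card G + if x ∈ center G then Nat.card G else 0 := by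
    intro x
    split_ifs with hx
    · have := Subgroup.card_le_card_group (centralizer ({x} : Set G))
      omega
    · have hne : centralizer ({x} : Set G) ≠ ⊤ := by
        intro htop
        apply hx
        rw [mem_center_iff]
        intro g
        have : g ∈ centralizer ({x} : Set G) := by rw [htop]; trivial
        rw [mem_centralizer_singleton_iff] at this
        exact this
      have h4 : 2 ≤ (centralizer ({x} : Set G)).index := by
        have h5 : (centralizer ({x} : Set G)).index ≠ 1 := fun h => hne (index_eq_one.mp h)
        have h6 : (centralizer ({x} : Set G)).index ≠ 0 := index_ne_zero_of_finite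
        omega
      have h7 := Subgroup.card_mul_index (centralizer ({x} : Set G))
      have h8 := Nat.mul_le_mul_left (Nat.card (centralizer ({x} : Set G))) h4
      omega
  have h9 : 2 * ∑ x : G, Nat.card (centralizer ({x} : Set G)) ≤
      Nat.card G * Nat.card G + Nat.card (center G) * Nat.card G := by
    rw [Finset.mul_sum]
    refine (Finset.sum_le_sum fun x _ => h3 x).trans ?_
    rw [Finset.sum_add_distrib, Finset.sum_const, Finset.card_univ, smul_eq_mul,
      ← Nat.card_eq_fintype_card, ← Finset.sum_filter, Finset.sum_const, smul_eq_mul]
    apply Nat.add_le_add_left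
    apply Nat.mul_le_mul_right
    rw [Nat.card_eq_fintype_card, Fintype.card_subtype]
  have h10 := four_mul_card_center_le h
  have h11 : 0 < Nat.card G := Nat.card_pos
  have h12 : (8 * Nat.card (ConjClasses G)) * Nat.card G ≤ (5 * Nat.card G) * Nat.card G := by
    have h13 := Nat.mul_le_mul_right (Nat.card G) h10
    nlinarith
  exact Nat.le_of_mul_le_mul_right h12 h11

end Cfsg.Agent.H553.FiveEight
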