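import Mathlib
import Cfsg.Agent.H553.PermClass

/-!
# Bounding the number of conjugacy classes of permutation groups by a function of the degree

`BdF s f n`: every permutation group `R` on a nonempty set `α` with at most `n` points (solvable if
`s` holds) has at most `f |α|` conjugacy classes.
* `fibre_bound`: product bound for groups fixing the fibres of a map.
* `bdF_all`: **if `f a * f b ≤ f (a + b)`, `f a ^ b * f b ≤ f (a * b)` and the bound holds for
  primitive groups, it holds for all permutation groups.**
-/

set_option autoImplicit false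

namespace Cfsg.Agent.H553.PermF

universe u

open MulAction Pointwise Cfsg.Agent.H553.PermClass

/-- The class bound for permutation groups of degree at most `n` (solvable if `s`). -/
def BdF (s : Prop) (f : ℕ → ℕ) (n : ℕ) : Prop :=
  ∀ (α : Type u) [Finite α] (R : Subgroup (Equiv.Perm α)), Nonempty α → Nat.card α ≤ n →
    (s → Group.IsSolvable R) → Nat.card (ConjClasses R) ≤ f (Nat.card α)

theorem BdF.range {s : Prop} {f : ℕ → ℕ} {n : ℕ} (hB : BdF.{u} s f n) {G : Type*} [Group G]
    (α : Type u) [Finite α] (hα : Nonempty α) (hn : Nat.card α ≤ n)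
    (hG : s → Group.IsSolvable G) (φ : G →* Equiv.Perm α) :
    Nat.card (ConjClasses φ.range) ≤ f (Nat.card α) := by
  refine hB α φ.range hα hn (fun hs => ?_)
  have := hG hs
  exact Group.isSolvable_of_surjective φ.rangeRestrict_surjective

open Classical in
theorem fibre_bound {s : Prop} {f : ℕ → ℕ} {n : ℕ} (hB : BdF.{u} s f n) :
    ∀ (m : ℕ) {G : Type*} {α ι : Type u} [Group G] [Finite G] [Finite α] [Finite ι]
      (φ : G →* Equiv.Perm α) (_ : Function.Injective φ) (π : α → ι) (_ : Function.Surjective π)
      (_ : ∀ (g : G) (a : α), π (φ g a) = π a) (_ : ∀ i : ι, Nat.card {a // π a = i} ≤ n)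
      (_ : s → Group.IsSolvable G) (_ : Nat.card ι = m),
      Nat.card (ConjClasses G) ≤ ∏ᶠ i : ι, f (Nat.card {a // π a = i}) := by
  intro m
  induction m with
  | zero =>
    intro G α ι _ _ _ _ φ hφ π hπ hinv hfib hG hm
    have hι : IsEmpty ι := by
      rcases Nat.card_eq_zero.mp hm with h | h
      · exact h
      · exact absurd ‹Finite ι› (not_finite_iff_infinite.mpr h)
    have hα : IsEmpty α := ⟨fun a => hι.false (π a)⟩
    have hsub : Subsingleton G := hφ.subsingleton
    rw [KClass.eq_one_of_subsingleton, finprod_of_isEmpty]
  | succ m ih =>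
    intro G α ι _ _ _ _ φ hφ π hπ hinv hfib hG hm
    have hne : Nonempty ι := by
      have : 0 < Nat.card ι := by omega
      exact (Nat.card_pos_iff.mp this).1
    obtain ⟨i₀⟩ := hne
    let ρ := resHom φ (fun a => π a = i₀) (fun g a => by rw [hinv])
    let φ' : ρ.ker →* Equiv.Perm {a // π a ≠ i₀} :=
      resHom (φ.comp ρ.ker.subtype) (fun a => π a ≠ i₀) (fun g a => by
        rw [MonoidHom.comp_apply, hinv])
    have hφ' : Function.Injective φ' := by
      rw [injective_iff_map_eq_one]
      intro g hg
      apply Subtype.ext
      apply hφ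
      rw [Subgroup.coe_one, map_one]
      ext a
      rw [Equiv.Perm.one_apply]
      by_cases ha : π a = i₀
      · have h1 : ρ g = 1 := g.2
        have h2 := congrArg (fun e : Equiv.Perm {a // π a = i₀} => ((e ⟨a, ha⟩ : _) : α)) h1
        exact h2
      · have h2 := congrArg (fun e : Equiv.Perm {a // π a ≠ i₀} => ((e ⟨a, ha⟩ : _) : α)) hg
        exact h2
    let π' : {a // π a ≠ i₀} → {i // i ≠ i₀} := fun a => ⟨π a.1, a.2⟩
    have hπ' : Function.Surjective π' := by
      rintro ⟨i, hi⟩
      obtain ⟨a, rfl⟩ := hπ i
      exact ⟨⟨a, hi⟩, rfl⟩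
    have hcardι : Nat.card {i // i ≠ i₀} = m := by
      have h1 : Nat.card {i // i = i₀} = 1 := by simp
      have h2 := Nat.card_congr (Equiv.sumCompl (fun i => i = i₀))
      rw [Nat.card_sum] at h2
      have h3 : Nat.card {i // i ≠ i₀} = Nat.card {i // ¬ i = i₀} := rfl
      omega
    have hfeq : ∀ i : {i // i ≠ i₀}, Nat.card {a : {a // π a ≠ i₀} // π' a = i} =
        Nat.card {a // π a = i.1} := by
      rintro ⟨i, hi⟩
      refine Nat.card_congr ⟨fun x => ⟨x.1.1, congrArg Subtype.val x.2⟩,
        fun x => ⟨⟨x.1, by rw [x.2]; exact hi⟩, Subtype.ext x.2⟩, fun x => rfl, fun x => rfl⟩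
    have hk1 : Nat.card (ConjClasses ρ.ker) ≤
        ∏ᶠ i : {i // i ≠ i₀}, f (Nat.card {a : {a // π a ≠ i₀} // π' a = i}) := by
      refine ih φ' hφ' π' hπ' ?_ ?_ ?_ hcardι
      · intro g a
        exact Subtype.ext (hinv g a)
      · intro i
        rw [hfeq]
        exact hfib i.1
      · intro hs
        have := hG hs
        exact Group.isSolvable_of_isSolvable_injective ρ.ker.subtype_injective
    have hpos : Nonempty {a // π a = i₀} := by
      obtain ⟨a, ha⟩ := hπ i₀
      exact ⟨⟨a, ha⟩⟩
    have hk2 : Nat.card (ConjClasses ρ.range) ≤ f (Nat.card {a // π a = i₀}) :=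
      hB.range _ hpos (hfib i₀) hG ρ
    refine (KClass.le_ker_mul_range ρ).trans ((Nat.mul_le_mul hk1 hk2).trans ?_)
    apply le_of_eq
    have := Fintype.ofFinite ι
    rw [finprod_eq_prod_of_fintype, finprod_eq_prod_of_fintype]
    rw [Fintype.prod_eq_mul_prod_subtype_ne (fun i => f (Nat.card {a // π a = i})) i₀, mul_comm]
    congr 1
    refine Finset.prod_congr ?_ (fun i _ => by rw [hfeq])
    ext
    simp

/-- Superadditivity for finite families. -/
theorem prod_le {f : ℕ → ℕ} {n : ℕ} (hsum : ∀ a b, 1 ≤ a → 1 ≤ b → a + b ≤ n →
    f a * f b ≤ f (a + b)) {ι : Type*} (t : Finset ι) (ht : t.Nonempty) (c : ι → ℕ)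
    (hc : ∀ i, 1 ≤ c i) (hn : ∑ i ∈ t, c i ≤ n) : ∏ i ∈ t, f (c i) ≤ f (∑ i ∈ t, c i) := by
  classical
  induction ht using Finset.Nonempty.cons_induction with
  | singleton a => simp
  | cons a s has hs ih =>
    rw [Finset.sum_cons] at hn ⊢
    rw [Finset.prod_cons]
    have h1 := ih (by omega)
    have h2 : 1 ≤ ∑ i ∈ s, c i := by
      obtain ⟨j, hj⟩ := hs
      exact (hc j).trans (Finset.single_le_sum (f := c) (fun _ _ => Nat.zero_le _) hj)
    exact (Nat.mul_le_mul_left _ h1).trans (hsum _ _ (hc a) h2 hn)

/-- **Reduction of the class bound to primitive groups.** -/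
theorem bdF_all {s : Prop} {f : ℕ → ℕ} (n : ℕ) (h1 : 1 ≤ f 1)
    (hsum : ∀ a b, 1 ≤ a → 1 ≤ b → a + b ≤ n → f a * f b ≤ f (a + b))
    (hmul : ∀ a b, 2 ≤ a → 2 ≤ b → a * b ≤ n → f a ^ b * f b ≤ f (a * b))
    (hprim : ∀ (α : Type u) [Finite α] (R : Subgroup (Equiv.Perm α)), IsPreprimitive R α →
      2 ≤ Nat.card α → Nat.card α ≤ n → (s → Group.IsSolvable R) →
      Nat.card (ConjClasses R) ≤ f (Nat.card α)) : BdF.{u} s f n := by
  suffices h : ∀ m, m ≤ n → BdF.{u} s f m from h n le_rfl
  intro m
  induction m with
  | zero =>
    intro _ α _ R hne hα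
    exact absurd hα (by have := Nat.card_pos (α := α); omega)
  | succ m ih' =>
    intro hmn
    have ih := ih' (by omega)
    intro α _ R hne hα hR
    rcases Nat.lt_or_ge (Nat.card α) 2 with h2 | h2
    · have hsub : Subsingleton α := by
        rw [← Finite.card_le_one_iff_subsingleton]
        omega
      have : Subsingleton R := inferInstance
      rw [KClass.eq_one_of_subsingleton]
      have hc1 : Nat.card α = 1 := by
        have := Nat.card_pos (α := α)
        omega
      rw [hc1]
      exact h1
    by_cases htr : IsPretransitive R α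
    · by_cases hp : IsPreprimitive R α
      · exact hprim α R hp h2 (by omega) hR
      · -- a nontrivial block
        obtain ⟨B, hB, hBt⟩ : ∃ B : Set α, IsBlock R B ∧ ¬ IsTrivialBlock B := by
          by_contra hcon
          push Not at hcon
          exact hp ⟨fun {B} hB => hcon B hB⟩
        rw [IsTrivialBlock, not_or] at hBt
        obtain ⟨hBs, hBu⟩ := hBt
        rw [Set.not_subsingleton_iff] at hBs
        obtain ⟨b₁, hb₁, b₂, hb₂, hb⟩ := hBs
        let r : Setoid α :=
          { r := fun x y => ∃ g : R, x ∈ g • B ∧ y ∈ g • B
            iseqv :=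
              { refl := fun x => by
                  obtain ⟨g, hg⟩ := htr.exists_smul_eq b₁ x
                  exact ⟨g, ⟨b₁, hb₁, hg⟩, ⟨b₁, hb₁, hg⟩⟩
                symm := fun ⟨g, hx, hy⟩ => ⟨g, hy, hx⟩
                trans := by
                  rintro x y z ⟨g, hx, hy⟩ ⟨g', hy', hz⟩
                  refine ⟨g, hx, ?_⟩
                  rw [hB.smul_eq_smul_of_nonempty ⟨y, hy, hy'⟩]
                  exact hz } }
        have hinv : ∀ (g : R) (x y : α), r x y ↔ r (g • x) (g • y) := by
          intro g x y
          constructor
          · rintro ⟨h, hx, hy⟩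
            refine ⟨g * h, ?_, ?_⟩
            · rw [mul_smul]
              exact Set.smul_mem_smul_set hx
            · rw [mul_smul]
              exact Set.smul_mem_smul_set hy
          · rintro ⟨h, hx, hy⟩
            refine ⟨g⁻¹ * h, ?_, ?_⟩
            · rw [mul_smul, Set.mem_inv_smul_set_iff]
              exact hx
            · rw [mul_smul, Set.mem_inv_smul_set_iff]
              exact hy
        let ρ : R →* Equiv.Perm (Quotient r) :=
          { toFun := fun g => Quotient.congr (g : Equiv.Perm α) (fun x y => hinv g x y)
            map_one' := by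
              apply Equiv.ext
              rintro ⟨x⟩
              rfl
            map_mul' := by
              intro g h
              apply Equiv.ext
              rintro ⟨x⟩
              rfl }
        have hρ : ∀ (g : R) (x : α), ρ g (Quotient.mk r x) = Quotient.mk r ((g : Equiv.Perm α) x) :=
          fun g x => rfl
        have hfin : Finite (Quotient r) := Quotient.finite r
        have hnq : Nonempty (Quotient r) := ⟨Quotient.mk r b₁⟩
        -- all fibres have the same size
        have hfibeq : ∀ i : Quotient r, Nat.card {a // Quotient.mk r a = i} =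
            Nat.card {a // Quotient.mk r a = Quotient.mk r b₁} := by
          intro i
          obtain ⟨x, rfl⟩ := Quotient.mk_surjective i
          obtain ⟨g, hg⟩ := htr.exists_smul_eq b₁ x
          symm
          refine Nat.card_congr (Equiv.subtypeEquiv (g : Equiv.Perm α) ?_)
          intro a
          constructor
          · intro h
            apply Quotient.sound
            have := (hinv g a b₁).mp (Quotient.exact h)
            rw [hg] at this
            exact this
          · intro h
            apply Quotient.sound
            refine (hinv g a b₁).mpr ?_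
            rw [hg]
            exact Quotient.exact h
        have hcard : Nat.card α = Nat.card {a // Quotient.mk r a = Quotient.mk r b₁} *
            Nat.card (Quotient r) := by
          have e := Equiv.sigmaFiberEquiv (Quotient.mk r)
          rw [← Nat.card_congr e]
          have := Fintype.ofFinite (Quotient r)
          rw [Nat.card_sigma, Finset.sum_congr rfl (fun i _ => hfibeq i), Finset.sum_const,
            Finset.card_univ, Nat.card_eq_fintype_card (α := Quotient r), smul_eq_mul, mul_comm]
        have hq2 : 2 ≤ Nat.card (Quotient r) := by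
          by_contra hlt
          have h3 : Subsingleton (Quotient r) := by
            rw [← Finite.card_le_one_iff_subsingleton]
            omega
          apply hBu
          rw [Set.eq_univ_iff_forall]
          intro x
          have h4 : Quotient.mk r b₁ = Quotient.mk r x := Subsingleton.elim _ _
          obtain ⟨g, hg1, hg2⟩ := Quotient.exact h4
          have h5 : g • B = (1 : R) • B :=
            hB.smul_eq_smul_of_nonempty ⟨b₁, hg1, by rw [one_smul]; exact hb₁⟩
          rw [h5, one_smul] at hg2
          exact hg2
        have hf2 : 2 ≤ Nat.card {a // Quotient.mk r a = Quotient.mk r b₁} := by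
          have h6 : Quotient.mk r b₂ = Quotient.mk r b₁ :=
            Quotient.sound ⟨1, by rw [one_smul]; exact hb₂, by rw [one_smul]; exact hb₁⟩
          have : Nontrivial {a // Quotient.mk r a = Quotient.mk r b₁} :=
            ⟨⟨b₁, rfl⟩, ⟨b₂, h6⟩, fun h => hb (congrArg Subtype.val h)⟩
          exact Finite.one_lt_card_iff_nontrivial.mpr this
        have hm1 : Nat.card (Quotient r) ≤ m := by nlinarith
        have hm2 : Nat.card {a // Quotient.mk r a = Quotient.mk r b₁} ≤ m := by nlinarith
        have hk2 : Nat.card (ConjClasses ρ.range) ≤ f (Nat.card (Quotient r)) :=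
          ih.range _ hnq hm1 hR ρ
        have hk1 : Nat.card (ConjClasses ρ.ker) ≤
            f (Nat.card {a // Quotient.mk r a = Quotient.mk r b₁}) ^ Nat.card (Quotient r) := by
          refine (fibre_bound ih _ (R.subtype.comp ρ.ker.subtype)
            (R.subtype_injective.comp ρ.ker.subtype_injective) (Quotient.mk r)
            Quotient.mk_surjective ?_ ?_ ?_ rfl).trans ?_
          · intro g a
            have h2 : ρ g = 1 := g.2
            have h3 := hρ g a
            rw [h2] at h3
            exact h3.symm
          · intro i
            rw [hfibeq]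
            exact hm2
          · intro hs
            have := hR hs
            exact Group.isSolvable_of_isSolvable_injective ρ.ker.subtype_injective
          · have := Fintype.ofFinite (Quotient r)
            rw [finprod_eq_prod_of_fintype, Finset.prod_congr rfl (fun i _ => by rw [hfibeq i]),
              Finset.prod_const, Finset.card_univ, Nat.card_eq_fintype_card (α := Quotient r)]
        refine (KClass.le_ker_mul_range ρ).trans ((Nat.mul_le_mul hk1 hk2).trans ?_)
        rw [hcard]
        exact hmul _ _ hf2 hq2 (by rw [← hcard]; omega)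
    · -- intransitive: the orbits
      let r : Setoid α := orbitRel R α
      have hfin : Finite (Quotient r) := Quotient.finite r
      have hnq : Nonempty (Quotient r) := by
        obtain ⟨a⟩ := hne
        exact ⟨Quotient.mk r a⟩
      have hk : Nat.card (ConjClasses R) ≤
          ∏ᶠ i : Quotient r, f (Nat.card {a // Quotient.mk r a = i}) := by
        refine fibre_bound ih _ R.subtype R.subtype_injective (Quotient.mk r)
            Quotient.mk_surjective ?_ ?_ hR rfl
        · intro g a
          apply Quotient.sound
          exact ⟨g, rfl⟩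
        · intro i
          obtain ⟨a, rfl⟩ := Quotient.mk_surjective i
          have : ∃ x, ¬ (Quotient.mk r x = Quotient.mk r a) := by
            by_contra hcon
            push Not at hcon
            apply htr
            refine ⟨fun x y => ?_⟩
            have h4 : Quotient.mk r y = Quotient.mk r x := (hcon y).trans (hcon x).symm
            obtain ⟨g, hg⟩ := Quotient.exact h4
            exact ⟨g, hg⟩
          obtain ⟨x, hx⟩ := this
          have := Finite.card_subtype_lt (p := fun y => Quotient.mk r y = Quotient.mk r a) hx
          omega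
      refine hk.trans ?_
      have := Fintype.ofFinite (Quotient r)
      have hcard : ∑ i : Quotient r, Nat.card {a // Quotient.mk r a = i} = Nat.card α := by
        rw [← Nat.card_sigma]
        exact Nat.card_congr (Equiv.sigmaFiberEquiv (Quotient.mk r))
      rw [finprod_eq_prod_of_fintype]
      have h5 := prod_le hsum (Finset.univ : Finset (Quotient r)) Finset.univ_nonempty
        (fun i => Nat.card {a // Quotient.mk r a = i}) (fun i => by
          obtain ⟨a, rfl⟩ := Quotient.mk_surjective i
          have : Nonempty {x // Quotient.mk r x = Quotient.mk r a} := ⟨⟨a, rfl⟩⟩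
          exact Nat.card_pos) (by rw [hcard]; omega)
      rw [hcard] at h5
      exact h5

end Cfsg.Agent.H553.PermF
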