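import Mathlib
import Cfsg.Agent.H553.KClass
import Cfsg.Agent.Lib.Cores

/-!
# Bounding the number of conjugacy classes of all subgroups

* `SubB Γ b` : every subgroup of `Γ` has at most `b` conjugacy classes.
* `NB G b` : some nilpotent normal subgroup `N` of `G` has `SubB (G ⧸ N) b`; then
  `SubB (G ⧸ F(G)) b` (`NB.fitting`).
* behaviour under injective maps, quotients, normal subgroups, finite families of homomorphisms.
-/

set_option autoImplicit false

namespace Cfsg.Agent.H553.SB

open Subgroup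

/-- Every subgroup of `Γ` has at most `b` conjugacy classes. -/
def SubB (Γ : Type*) [Group Γ] (b : ℕ) : Prop :=
  ∀ X : Subgroup Γ, Nat.card (ConjClasses X) ≤ b

theorem SubB.mono {Γ : Type*} [Group Γ] {b c : ℕ} (h : SubB Γ b) (hbc : b ≤ c) : SubB Γ c :=
  fun X => (h X).trans hbc

theorem SubB.of_card {Γ : Type*} [Group Γ] [Finite Γ] {b : ℕ} (h : Nat.card Γ ≤ b) : SubB Γ b :=
  fun X => KClass.le_card.trans ((Subgroup.card_le_card_group X).trans h)

theorem SubB.one_le {Γ : Type*} [Group Γ] {b : ℕ} (h : SubB Γ b) : 1 ≤ b := by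
  have h1 := h ⊥
  rwa [KClass.eq_one_of_subsingleton] at h1

theorem SubB.of_injective {Γ Δ : Type*} [Group Γ] [Group Δ] {b : ℕ} (f : Γ →* Δ)
    (hf : Function.Injective f) (h : SubB Δ b) : SubB Γ b := by
  intro X
  rw [KClass.congr (X.equivMapOfInjective f hf)]
  exact h _

theorem SubB.congr {Γ Δ : Type*} [Group Γ] [Group Δ] {b : ℕ} (e : Γ ≃* Δ) (h : SubB Δ b) :
    SubB Γ b := SubB.of_injective e.toMonoidHom e.injective h

theorem SubB.of_surjective {Γ Δ : Type*} [Group Γ] [Group Δ] [Finite Γ] {b : ℕ} (f : Γ →* Δ)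
    (hf : Function.Surjective f) (h : SubB Γ b) : SubB Δ b := by
  intro X
  refine (KClass.le_of_surjective (f.subgroupComap X) ?_).trans (h (X.comap f))
  rintro ⟨x, hx⟩
  obtain ⟨y, rfl⟩ := hf x
  exact ⟨⟨y, hx⟩, rfl⟩

/-- If the kernel and the image are bounded, so is the group. -/
theorem SubB.of_hom {Γ Δ : Type*} [Group Γ] [Group Δ] [Finite Γ] {b c : ℕ} (f : Γ →* Δ)
    (h1 : SubB f.ker b) (h2 : SubB f.range c) : SubB Γ (b * c) := by
  intro X
  refine (KClass.le_ker_mul_range (f.comp X.subtype)).trans (Nat.mul_le_mul ?_ ?_)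
  · -- the kernel embeds in `f.ker`
    let j : (f.comp X.subtype).ker →* f.ker :=
      { toFun := fun x => ⟨((x : X) : Γ), x.2⟩
        map_one' := rfl
        map_mul' := fun _ _ => rfl }
    have hj : Function.Injective j := by
      intro x y hxy
      apply Subtype.ext
      apply Subtype.ext
      exact congrArg (fun z : f.ker => (z : Γ)) hxy
    have h3 := SubB.of_injective j hj h1 ⊤
    rwa [KClass.congr (Subgroup.topEquiv (G := (f.comp X.subtype).ker))] at h3
  · have hle : (f.comp X.subtype).range ≤ f.range := by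
      rintro _ ⟨x, rfl⟩
      exact ⟨_, rfl⟩
    have h3 := SubB.of_injective (Subgroup.inclusion hle) (Subgroup.inclusion_injective hle) h2 ⊤
    rwa [KClass.congr (Subgroup.topEquiv (G := (f.comp X.subtype).range))] at h3

/-- The same for a homomorphism into a bounded group. -/
theorem SubB.of_hom' {Γ Δ : Type*} [Group Γ] [Group Δ] [Finite Γ] {b c : ℕ} (f : Γ →* Δ)
    (h1 : SubB f.ker b) (h2 : SubB Δ c) : SubB Γ (b * c) :=
  SubB.of_hom f h1 (SubB.of_injective f.range.subtype f.range.subtype_injective h2)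

theorem SubB.of_normal {Γ : Type*} [Group Γ] [Finite Γ] {b c : ℕ} (N : Subgroup Γ) [N.Normal]
    (h1 : SubB N b) (h2 : SubB (Γ ⧸ N) c) : SubB Γ (b * c) := by
  refine SubB.of_hom' (QuotientGroup.mk' N) ?_ h2
  rw [QuotientGroup.ker_mk']
  exact h1

/-- `Γ / (A ∩ B)` is bounded if `Γ / A` and `Γ / B` are. -/
theorem SubB.inf {Γ : Type*} [Group Γ] [Finite Γ] {b c : ℕ} (A B C : Subgroup Γ) [A.Normal]
    [B.Normal] [C.Normal] (hC : A ⊓ B ≤ C) (h1 : SubB (Γ ⧸ A) b) (h2 : SubB (Γ ⧸ B) c) :
    SubB (Γ ⧸ C) (b * c) := by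
  -- `Γ ⧸ (A ⊓ B)` embeds in the product
  have key : SubB (Γ ⧸ (A ⊓ B)) (b * c) := by
    let f : Γ ⧸ (A ⊓ B) →* Γ ⧸ B :=
      QuotientGroup.map (A ⊓ B) B (MonoidHom.id Γ) (fun x hx => hx.2)
    refine SubB.of_hom' f ?_ h2
    let g : f.ker →* Γ ⧸ A :=
      (QuotientGroup.map (A ⊓ B) A (MonoidHom.id Γ) (fun x hx => hx.1)).comp f.ker.subtype
    refine SubB.of_injective g ?_ h1
    rw [injective_iff_map_eq_one]
    rintro ⟨x, hx⟩ hgx
    obtain ⟨y, rfl⟩ := QuotientGroup.mk_surjective x
    apply Subtype.ext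
    change (QuotientGroup.mk y : Γ ⧸ (A ⊓ B)) = 1
    rw [QuotientGroup.eq_one_iff]
    refine ⟨?_, ?_⟩
    · have h3 : (QuotientGroup.mk y : Γ ⧸ A) = 1 := hgx
      exact (QuotientGroup.eq_one_iff y).mp h3
    · have h3 : (QuotientGroup.mk y : Γ ⧸ B) = 1 := hx
      exact (QuotientGroup.eq_one_iff y).mp h3
  refine SubB.of_surjective (QuotientGroup.map (A ⊓ B) C (MonoidHom.id Γ) hC) ?_ key
  intro x
  obtain ⟨y, rfl⟩ := QuotientGroup.mk_surjective x
  exact ⟨QuotientGroup.mk y, rfl⟩

theorem SubB.quotient_congr {Γ : Type*} [Group Γ] {b : ℕ} {A B : Subgroup Γ} [A.Normal]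
    [B.Normal] (hAB : A = B) (h : SubB (Γ ⧸ A) b) : SubB (Γ ⧸ B) b := by
  subst hAB
  exact h

/-- Some nilpotent normal subgroup `N` has `SubB (G ⧸ N) b`. -/
def NB (G : Type*) [Group G] (b : ℕ) : Prop :=
  ∃ (N : Subgroup G) (_ : N.Normal), Group.IsNilpotent N ∧ SubB (G ⧸ N) b

theorem NB.mono {G : Type*} [Group G] {b c : ℕ} (h : NB G b) (hbc : b ≤ c) : NB G c := by
  obtain ⟨N, hN, h1, h2⟩ := h
  exact ⟨N, hN, h1, h2.mono hbc⟩

theorem NB.fitting {G : Type*} [Group G] [Finite G] {b : ℕ} (h : NB G b)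
    [(fittingSubgroup G).Normal] : SubB (G ⧸ fittingSubgroup G) b := by
  obtain ⟨N, hN, h1, h2⟩ := h
  have hle : N ≤ fittingSubgroup G := Lib.Cores.le_fittingSubgroup hN h1
  refine SubB.of_surjective (QuotientGroup.map N (fittingSubgroup G) (MonoidHom.id G) hle) ?_ h2
  intro x
  obtain ⟨y, rfl⟩ := QuotientGroup.mk_surjective x
  exact ⟨QuotientGroup.mk y, rfl⟩

/-- Normal subgroups: `NB K b` and `SubB (G ⧸ K) c` give `NB G (b * c)`. -/
theorem NB.of_normal {G : Type*} [Group G] [Finite G] {b c : ℕ} (K : Subgroup G) [hK : K.Normal]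
    (h1 : NB K b) (h2 : SubB (G ⧸ K) c) : NB G (b * c) := by
  have hchar : (fittingSubgroup K).Characteristic := Lib.Cores.fittingSubgroup_characteristic
  have hFn : (fittingSubgroup K).Normal := Lib.Cores.fittingSubgroup_normal
  have h3 := h1.fitting
  set F : Subgroup G := (fittingSubgroup K).map K.subtype with hF
  have hFnorm : F.Normal := inferInstance
  have hFK : F ≤ K := Subgroup.map_subtype_le _
  refine ⟨F, hFnorm, ?_, ?_⟩
  · have : Group.IsNilpotent (fittingSubgroup K) := Lib.Cores.fittingSubgroup_isNilpotent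
    exact Group.nilpotent_of_mulEquiv
      ((fittingSubgroup K).equivMapOfInjective K.subtype K.subtype_injective)
  · let f : G ⧸ F →* G ⧸ K := QuotientGroup.map F K (MonoidHom.id G) hFK
    refine SubB.of_hom' f ?_ h2
    -- `K ⧸ F(K)` maps onto the kernel
    let g₀ : K →* f.ker :=
      { toFun := fun k => ⟨QuotientGroup.mk (k : G), by
          change (QuotientGroup.mk (k : G) : G ⧸ K) = 1
          rw [QuotientGroup.eq_one_iff]
          exact k.2⟩
        map_one' := rfl
        map_mul' := fun _ _ => rfl }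
    have hg₀ : Function.Surjective g₀ := by
      rintro ⟨x, hx⟩
      obtain ⟨y, rfl⟩ := QuotientGroup.mk_surjective x
      have h4 : (QuotientGroup.mk y : G ⧸ K) = 1 := hx
      exact ⟨⟨y, (QuotientGroup.eq_one_iff y).mp h4⟩, rfl⟩
    have hker : fittingSubgroup K ≤ g₀.ker := by
      intro k hk
      apply Subtype.ext
      change (QuotientGroup.mk (k : G) : G ⧸ F) = 1
      rw [QuotientGroup.eq_one_iff]
      exact ⟨k, hk, rfl⟩
    refine SubB.of_surjective (QuotientGroup.lift (fittingSubgroup K) g₀ hker) ?_ h3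
    intro x
    obtain ⟨k, rfl⟩ := hg₀ x
    exact ⟨QuotientGroup.mk k, rfl⟩

/-- A finite family of homomorphisms with trivial common kernel. -/
theorem NB.pi {G ι : Type*} [Group G] [Finite G] [Finite ι] {H : ι → Type*}
    [∀ i, Group (H i)] (b : ι → ℕ) (f : ∀ i, G →* H i)
    (hf : ∀ x : G, (∀ i, f i x = 1) → x = 1) (h : ∀ i, NB (H i) (b i)) :
    NB G (∏ᶠ i, b i) := by
  classical
  have := Fintype.ofFinite ι
  choose N hN hNn hNB using h
  have hNc : ∀ i, ((N i).comap (f i)).Normal := fun i => (hN i).comap (f i)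
  have key : ∀ s : Finset ι, ∃ (C : Subgroup G) (_ : C.Normal),
      (∀ x, x ∈ C ↔ ∀ i ∈ s, f i x ∈ N i) ∧ SubB (G ⧸ C) (∏ i ∈ s, b i) := by
    intro s
    induction s using Finset.induction_on with
    | empty =>
      refine ⟨⊤, inferInstance, by simp, ?_⟩
      refine SubB.of_card ?_
      simp
    | insert i s hi ih =>
      obtain ⟨C, hC, hC1, hC2⟩ := ih
      refine ⟨(N i).comap (f i) ⊓ C, inferInstance, ?_, ?_⟩
      · intro x
        rw [Subgroup.mem_inf, Subgroup.mem_comap, hC1]
        simp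
      · rw [Finset.prod_insert hi]
        refine SubB.inf ((N i).comap (f i)) C _ le_rfl ?_ hC2
        refine SubB.of_injective
          (QuotientGroup.map ((N i).comap (f i)) (N i) (f i) le_rfl) ?_ (hNB i)
        rw [injective_iff_map_eq_one]
        intro x hx
        obtain ⟨y, rfl⟩ := QuotientGroup.mk_surjective x
        have h4 : (QuotientGroup.mk (f i y) : H i ⧸ N i) = 1 := hx
        rw [QuotientGroup.eq_one_iff]
        change f i y ∈ N i
        exact (QuotientGroup.eq_one_iff (f i y)).mp h4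
  obtain ⟨C, hC, hC1, hC2⟩ := key Finset.univ
  refine ⟨C, hC, ?_, ?_⟩
  · let g : C →* (∀ i, N i) :=
      { toFun := fun x i => ⟨f i x, (hC1 x).mp x.2 i (Finset.mem_univ i)⟩
        map_one' := by
          funext i
          exact Subtype.ext (map_one (f i))
        map_mul' := fun x y => by
          funext i
          exact Subtype.ext (map_mul (f i) _ _) }
    have hg : Function.Injective g := by
      rw [injective_iff_map_eq_one]
      intro x hx
      apply Subtype.ext
      apply hf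
      intro i
      exact congrArg Subtype.val (congrFun hx i)
    have : Group.IsNilpotent (∀ i, N i) := inferInstance
    exact Group.nilpotent_of_mulEquiv (MonoidHom.ofInjective hg).symm
  · rw [finprod_eq_prod_of_fintype]
    exact hC2

end Cfsg.Agent.H553.SB
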