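import Mathlib
import Cfsg.Agent.S0547
import Cfsg.Agent.H553.PermF
import Cfsg.Agent.H553.FiveEight
import Cfsg.Agent.H553.SubB

/-!
# Solvable permutation groups: order of primitive ones, number of classes

* `card_le_descFactorial`: a solvable primitive permutation group of degree `n = p ^ d` has order
  at most `n (n - 1) ⋯ (n - d)`.
* `bd_three`: a solvable permutation group of degree `n ≥ 1` has at most `3 ^ (n - 1)` classes.
* `six`: a solvable permutation group of degree 6 has at most 24 classes.
-/

set_option autoImplicit false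

namespace Cfsg.Agent.H553.SolvPerm

open MulAction Subgroup

/-- An irredundant set of elements of a `p`-group. -/
theorem pow_card_le_card_closure {M : Type*} [Group M] [Finite M] {p : ℕ} [Fact p.Prime]
    (hM : IsPGroup p M) (S : Finset M)
    (hS : ∀ s ∈ S, s ∉ closure ((S : Set M) \ {s})) (T : Finset M) (hT : T ⊆ S) :
    p ^ T.card ≤ Nat.card (closure (T : Set M)) := by
  classical
  induction T using Finset.induction_on with
  | empty =>
    rw [Finset.card_empty, pow_zero]
    exact Nat.card_pos
  | insert s T hs ih =>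
    have hTS : T ⊆ S := fun x hx => hT (Finset.mem_insert_of_mem hx)
    have h1 := ih hTS
    have h2 : closure (T : Set M) < closure ((insert s T : Finset M) : Set M) := by
      refine lt_of_le_of_ne (closure_mono (by simp)) (fun h => ?_)
      apply hS s (hT (Finset.mem_insert_self s T))
      have h3 : s ∈ closure ((insert s T : Finset M) : Set M) :=
        subset_closure (by simp)
      rw [← h] at h3
      refine closure_mono ?_ h3
      intro x hx
      refine ⟨hTS hx, ?_⟩
      rintro rfl
      exact hs hx
    rw [Finset.card_insert_of_notMem hs, pow_succ]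
    obtain ⟨a, ha⟩ := IsPGroup.iff_card.mp (hM.to_subgroup (closure (T : Set M)))
    obtain ⟨b, hb⟩ := IsPGroup.iff_card.mp (hM.to_subgroup
      (closure ((insert s T : Finset M) : Set M)))
    have h4 : Nat.card (closure (T : Set M)) <
        Nat.card (closure ((insert s T : Finset M) : Set M)) := by
      have := Subgroup.card_le_of_le h2.le
      refine lt_of_le_of_ne this (fun h => ?_)
      exact h2.ne (Subgroup.eq_of_le_of_card_ge h2.le h.ge)
    rw [ha, hb] at h4
    have h5 : a < b := (Nat.pow_lt_pow_iff_right (Fact.out : p.Prime).one_lt).mp h4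
    rw [hb]
    rw [ha] at h1
    calc p ^ T.card * p ≤ p ^ a * p := Nat.mul_le_mul_right _ h1
      _ = p ^ (a + 1) := (pow_succ _ _).symm
      _ ≤ p ^ b := Nat.pow_le_pow_right (Fact.out : p.Prime).pos h5

/-- A group of order `p ^ d` is generated by at most `d` elements different from `1`. -/
theorem exists_generators {M : Type*} [Group M] [Finite M] {p d : ℕ} (hp : p.Prime)
    (hM : Nat.card M = p ^ d) :
    ∃ S : Finset M, closure (S : Set M) = ⊤ ∧ S.card ≤ d ∧ (1 : M) ∉ S := by
  classical
  have : Fact p.Prime := ⟨hp⟩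
  have := Fintype.ofFinite M
  have hMp : IsPGroup p M := IsPGroup.of_card hM
  -- a generating set with the least number of elements
  have hex : ∃ n, ∃ S : Finset M, closure (S : Set M) = ⊤ ∧ S.card = n :=
    ⟨_, Finset.univ, by simp, rfl⟩
  obtain ⟨S, hS1, hS2⟩ := Nat.find_spec hex
  have hmin : ∀ T : Finset M, closure (T : Set M) = ⊤ → S.card ≤ T.card := by
    intro T hT
    rw [hS2]
    exact Nat.find_min' hex ⟨T, hT, rfl⟩
  have hirr : ∀ s ∈ S, s ∉ closure ((S : Set M) \ {s}) := by
    intro s hs hmem
    have h1 : closure ((S.erase s : Finset M) : Set M) = ⊤ := by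
      rw [eq_top_iff, ← hS1, closure_le]
      intro x hx
      by_cases hxs : x = s
      · rw [hxs, Finset.coe_erase]
        exact hmem
      · refine subset_closure ?_
        rw [Finset.coe_erase]
        exact ⟨hx, hxs⟩
    have h2 := hmin _ h1
    rw [Finset.card_erase_of_mem hs] at h2
    have h3 : 0 < S.card := Finset.card_pos.mpr ⟨s, hs⟩
    omega
  refine ⟨S, hS1, ?_, ?_⟩
  · have h1 := pow_card_le_card_closure hMp S hirr S (Finset.Subset.refl S)
    rw [hS1] at h1
    have h2 : Nat.card (⊤ : Subgroup M) = p ^ d := by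
      rw [Subgroup.card_top, hM]
    rw [h2] at h1
    exact (Nat.pow_le_pow_iff_right hp.one_lt).mp h1
  · intro h1
    exact hirr 1 h1 (one_mem _)

/-- **The order of a solvable primitive permutation group.** -/
theorem card_le_descFactorial {α : Type*} [Finite α] (R : Subgroup (Equiv.Perm α))
    [hs : Group.IsSolvable R] (hR : IsPreprimitive R α) (h2 : 2 ≤ Nat.card α) :
    ∃ p d : ℕ, p.Prime ∧ 0 < d ∧ Nat.card α = p ^ d ∧
      Nat.card R ≤ (Nat.card α).descFactorial (d + 1) := by
  classical
  have := Fintype.ofFinite α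
  have hne : Nonempty α := (Nat.card_pos_iff.mp (by omega)).1
  have hRne : (⊤ : Subgroup R) ≠ ⊥ := by
    intro h
    have hsub : Subsingleton R := by
      rw [subsingleton_iff_forall_eq (1 : R)]
      intro x
      have : x ∈ (⊤ : Subgroup R) := trivial
      rw [h] at this
      exact this
    have htr := hR.toIsPretransitive
    have hsa : Subsingleton α := by
      constructor
      intro a b
      obtain ⟨g, hg⟩ := htr.exists_smul_eq a b
      have : g = 1 := Subsingleton.elim _ _
      rw [this, one_smul] at hg
      exact hg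
    rw [Finite.card_le_one_iff_subsingleton.mpr hsa |>.antisymm (by omega)] at h2
    omega
  -- a minimal normal subgroup
  obtain ⟨M, hM⟩ := (Set.toFinite {N : Subgroup R | N.Normal ∧ N ≠ ⊥}).exists_minimal
    ⟨⊤, inferInstance, hRne⟩
  have hMn : M.Normal := hM.prop.1
  have hM1 : M ≠ ⊥ := hM.prop.2
  have hmin : ∀ K : Subgroup R, K.Normal → K ≤ M → K = ⊥ ∨ K = M := by
    intro K hK hKM
    by_cases hK1 : K = ⊥
    · exact Or.inl hK1
    · exact Or.inr (le_antisymm hKM (hM.le_of_le ⟨hK, hK1⟩ hKM))
  obtain ⟨htr, hst, p, d, hp, hd, hα, hMc⟩ := S0547.result hR M hM1 hmin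
  refine ⟨p, d, hp, hd, hα, ?_⟩
  obtain ⟨S, hS1, hS2, hS3⟩ := exists_generators hp hMc
  obtain ⟨ω⟩ := hne
  -- `m ↦ m • ω` is injective on `M`
  have hinj : ∀ m m' : M, m • ω = m' • ω → m = m' := by
    intro m m' h
    have h3 : m'⁻¹ * m ∈ stabilizer M ω := by
      rw [mem_stabilizer_iff, mul_smul, h, inv_smul_smul]
    rw [hst ω, Subgroup.mem_bot] at h3
    exact (inv_mul_eq_one.mp h3).symm
  let T : Finset M := insert 1 S
  have hTc : T.card = S.card + 1 := Finset.card_insert_of_notMem hS3
  let F : R → (T ↪ α) := fun g => ⟨fun m => g • ((m : M) • ω), by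
    intro m m' h
    exact Subtype.ext (hinj _ _ (smul_left_cancel g h))⟩
  have hF : Function.Injective F := by
    intro g h hgh
    have h3 : ∀ m : M, m ∈ T → (h⁻¹ * g) • (m • ω) = m • ω := by
      intro m hm
      have h4 : g • (m • ω) = h • (m • ω) :=
        congrArg (fun e : T ↪ α => e ⟨m, hm⟩) hgh
      rw [mul_smul, h4, inv_smul_smul]
    set x := h⁻¹ * g with hx
    have hω : x • ω = ω := by
      have := h3 1 (Finset.mem_insert_self _ _)
      rwa [one_smul] at this
    have hcomm : ∀ m : M, x * m * x⁻¹ = (m : R) := by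
      have hle : (⊤ : Subgroup M) ≤ {
          carrier := {m : M | x * m * x⁻¹ = (m : R)}
          one_mem' := by simp
          mul_mem' := by
            intro a b ha hb
            simp only [Set.mem_ofPred_eq] at ha hb ⊢
            calc x * ((a * b : M) : R) * x⁻¹ = (x * a * x⁻¹) * (x * b * x⁻¹) := by
                  simp only [Subgroup.coe_mul]; group
              _ = ((a * b : M) : R) := by rw [ha, hb]; rfl
          inv_mem' := by
            intro a ha
            simp only [Set.mem_ofPred_eq] at ha ⊢
            calc x * ((a⁻¹ : M) : R) * x⁻¹ = (x * a * x⁻¹)⁻¹ := by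
                  simp only [Subgroup.coe_inv]; group
              _ = ((a⁻¹ : M) : R) := by rw [ha]; rfl : Subgroup M } := by
        rw [← hS1, closure_le]
        intro s hs
        change x * s * x⁻¹ = (s : R)
        have h5 := h3 s (Finset.mem_insert_of_mem hs)
        have h6 : (⟨x * s * x⁻¹, hMn.conj_mem _ s.2 x⟩ : M) • ω = s • ω := by
          have h7 : x⁻¹ • ω = ω := by rw [inv_smul_eq_iff, hω]
          calc (⟨x * s * x⁻¹, hMn.conj_mem _ s.2 x⟩ : M) • ω = (x * s * x⁻¹) • ω := rfl
            _ = x • ((s : R) • (x⁻¹ • ω)) := by rw [mul_smul, mul_smul]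
            _ = s • ω := by rw [h7]; exact h5
        exact congrArg Subtype.val (hinj _ _ h6)
      intro m
      exact hle (Subgroup.mem_top m)
    have hx1 : x = 1 := by
      apply Subtype.ext
      apply Equiv.ext
      intro a
      obtain ⟨m, hm⟩ := htr.exists_smul_eq ω a
      have h8 : x • a = a := by
        rw [← hm]
        calc x • (m • ω) = (x * m) • ω := (mul_smul x (m : R) ω).symm
          _ = ((x * m * x⁻¹) * x) • ω := by group
          _ = m • (x • ω) := by rw [hcomm m, mul_smul]; rfl
          _ = m • ω := by rw [hω]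
      exact h8
    rw [hx, inv_mul_eq_one] at hx1
    exact hx1.symm
  have h9 : Nat.card R ≤ (Nat.card α).descFactorial (S.card + 1) := by
    refine (Nat.card_le_card_of_injective F hF).trans (le_of_eq ?_)
    rw [Nat.card_eq_fintype_card, Fintype.card_embedding_eq, Fintype.card_coe, hTc,
      Nat.card_eq_fintype_card]
  refine h9.trans ?_
  -- monotonicity
  have hmono : ∀ k, k < Nat.card α →
      (Nat.card α).descFactorial k ≤ (Nat.card α).descFactorial (k + 1) := by
    intro k hk
    rw [Nat.descFactorial_succ]
    exact Nat.le_mul_of_pos_left _ (by omega)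
  have hdlt : d < Nat.card α := by
    rw [hα]
    exact Nat.lt_pow_self hp.one_lt
  have hmono2 : ∀ k, k ≤ d → ∀ j, j ≤ k →
      (Nat.card α).descFactorial (j + 1) ≤ (Nat.card α).descFactorial (k + 1) := by
    intro k hk j hj
    induction k with
    | zero =>
      have : j = 0 := by omega
      rw [this]
    | succ k ih =>
      rcases Nat.eq_or_lt_of_le hj with h | h
      · rw [h]
      · exact (ih (by omega) (by omega)).trans (hmono (k + 1) (by omega))
  exact hmono2 d le_rfl _ hS2

/-! ### numerical facts -/

theorem num_odd {p : ℕ} (hp : 3 ≤ p) (d : ℕ) (hd : 1 ≤ d) :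
    (p ^ d) ^ (d + 1) ≤ 3 ^ (p ^ d - 1) := by
  have hsq : p ^ 2 ≤ 3 ^ (p - 1) := by
    obtain ⟨k, rfl⟩ : ∃ k, p = k + 3 := ⟨p - 3, by omega⟩
    clear hp
    induction k with
    | zero => norm_num
    | succ k ih =>
      have h1 : k + 1 + 3 - 1 = (k + 3 - 1) + 1 := by omega
      rw [h1, pow_succ 3]
      have h2 : (k + 1 + 3) ^ 2 ≤ (k + 3) ^ 2 * 3 := by
        have : (k + 1 + 3) ^ 2 + (2 * k ^ 2 + 10 * k + 11) = (k + 3) ^ 2 * 3 := by ring
        omega
      exact h2.trans (Nat.mul_le_mul_right 3 ih)
  induction d with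
  | zero => omega
  | succ d ih =>
    rcases Nat.eq_zero_or_pos d with h0 | h0
    · subst h0
      simpa using hsq
    · have h1 := ih h0
      have hpd : 0 < p ^ d := by positivity
      have h2 : p ^ (2 * (d + 1)) ≤ 3 ^ (p ^ d * (p - 1)) := by
        rw [pow_mul]
        refine (Nat.pow_le_pow_left hsq (d + 1)).trans ?_
        rw [← pow_mul, mul_comm]
        apply Nat.pow_le_pow_right (by norm_num)
        apply Nat.mul_le_mul_right
        exact Nat.lt_pow_self (by omega)
      have h3 : p ^ (d + 1) - 1 = (p ^ d - 1) + p ^ d * (p - 1) := by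
        rw [pow_succ, Nat.mul_sub, mul_one]
        have h4 : p ^ d ≤ p ^ d * p := Nat.le_mul_of_pos_right _ (by omega)
        omega
      rw [h3, pow_add 3]
      calc (p ^ (d + 1)) ^ (d + 1 + 1) = (p ^ d) ^ (d + 1) * p ^ (2 * (d + 1)) := by
            rw [← pow_mul, ← pow_mul, ← pow_add]
            congr 1
            ring
        _ ≤ _ := Nat.mul_le_mul h1 h2

theorem num_two (d : ℕ) (hd : 4 ≤ d) : (2 ^ d) ^ (d + 1) ≤ 3 ^ (2 ^ d - 1) := by
  obtain ⟨k, rfl⟩ : ∃ k, d = k + 4 := ⟨d - 4, by omega⟩
  clear hd
  induction k with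
  | zero => norm_num
  | succ k ih =>
    have h2 : 2 ^ (2 * (k + 4 + 1)) ≤ 3 ^ (2 ^ (k + 4)) := by
      have h5 : 2 * (k + 4 + 1) ≤ 2 ^ (k + 4) := by
        clear ih
        induction k with
        | zero => norm_num
        | succ k ih =>
          have : 2 ^ (k + 1 + 4) = 2 * 2 ^ (k + 4) := by ring
          omega
      exact (Nat.pow_le_pow_left (by norm_num) _).trans (Nat.pow_le_pow_right (by norm_num) h5)
    have h3 : 2 ^ (k + 1 + 4) - 1 = (2 ^ (k + 4) - 1) + 2 ^ (k + 4) := by
      have : 2 ^ (k + 1 + 4) = 2 * 2 ^ (k + 4) := by ring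
      have : 0 < 2 ^ (k + 4) := by positivity
      omega
    rw [h3, pow_add 3]
    calc (2 ^ (k + 1 + 4)) ^ (k + 1 + 4 + 1) =
          (2 ^ (k + 4)) ^ (k + 4 + 1) * 2 ^ (2 * (k + 4 + 1)) := by
          rw [← pow_mul, ← pow_mul, ← pow_add]
          congr 1
          ring
      _ ≤ _ := Nat.mul_le_mul ih h2

theorem num {p d : ℕ} (hp : p.Prime) (hd : 0 < d) :
    (p ^ d).descFactorial (d + 1) ≤ 3 ^ (p ^ d - 1) := by
  rcases Nat.lt_or_ge p 3 with h | h
  · have h2 : p = 2 := by
      have := hp.two_le
      omega
    subst h2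
    rcases Nat.lt_or_ge d 4 with h4 | h4
    · interval_cases d <;> decide
    · exact (Nat.descFactorial_le_pow _ _).trans (num_two d h4)
  · exact (Nat.descFactorial_le_pow _ _).trans (num_odd h d hd)

/-- **Solvable permutation groups of degree `n` have at most `3 ^ (n - 1)` classes.** -/
theorem bd_three (n : ℕ) : PermClass.Bd True 3 n := by
  refine PermClass.bd_all (by norm_num) ?_ n
  intro α _ R hR h2 hs
  have := hs trivial
  obtain ⟨p, d, hp, hd, hα, hc⟩ := card_le_descFactorial R hR h2
  refine KClass.le_card.trans (hc.trans ?_)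
  rw [hα]
  exact num hp hd

/-- A solvable group acting on a nonempty finite set: the image satisfies the class bound for
all subgroups. -/
theorem subB_range {G : Type*} [Group G] [Group.IsSolvable G] {α : Type*} [Finite α]
    (hα : Nonempty α) (φ : G →* Equiv.Perm α) :
    SB.SubB φ.range (3 ^ (Nat.card α - 1)) := by
  intro X
  have hX : Group.IsSolvable φ.range :=
    Group.isSolvable_of_surjective φ.rangeRestrict_surjective
  rw [KClass.congr (X.equivMapOfInjective φ.range.subtype φ.range.subtype_injective)]
  refine bd_three (Nat.card α) α (X.map φ.range.subtype) hα le_rfl (fun _ => ?_)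
  exact Group.isSolvable_of_surjective
    (f := (X.equivMapOfInjective φ.range.subtype φ.range.subtype_injective).toMonoidHom)
    (X.equivMapOfInjective φ.range.subtype φ.range.subtype_injective).surjective

/-! ### degree 6 -/

/-- The bounding function in degrees at most 6. -/
def f6 : ℕ → ℕ
  | 0 => 1
  | 1 => 1
  | 2 => 2
  | 3 => 3
  | 4 => 8
  | 5 => 12
  | _ => 24

theorem perm_le (α : Type*) [Finite α] :
    Nat.card (ConjClasses (Equiv.Perm α)) ≤ 2 ^ (Nat.card α - 1) := by
  classical
  have := Fintype.ofFinite α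
  rw [Nat.card_eq_fintype_card (α := α)]
  let f : ConjClasses (Equiv.Perm α) → (Fintype.card α).Partition :=
    Quotient.lift (fun σ : Equiv.Perm α => σ.partition)
      (fun σ τ h => Equiv.Perm.partition_eq_of_isConj.mp h)
  have hf : Function.Injective f := by
    intro C D hCD
    obtain ⟨σ, rfl⟩ := C.exists_rep
    obtain ⟨τ, rfl⟩ := D.exists_rep
    exact ConjClasses.mk_eq_mk_iff_isConj.mpr (Equiv.Perm.partition_eq_of_isConj.mpr hCD)
  refine (Nat.card_le_card_of_injective f hf).trans ?_
  refine (Nat.card_le_card_of_surjective _ (Nat.Partition.ofComposition_surj)).trans ?_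
  rw [Nat.card_eq_fintype_card, composition_card]

/-- A transitive abelian permutation group has order at most its degree. -/
theorem card_le_of_comm {α : Type*} [Finite α] (R : Subgroup (Equiv.Perm α))
    (htr : IsPretransitive R α) (hc : IsMulCommutative R) (hne : Nonempty α) :
    Nat.card R ≤ Nat.card α := by
  obtain ⟨ω⟩ := hne
  refine Nat.card_le_card_of_injective (fun g : R => g • ω) ?_
  intro g h hgh
  apply Subtype.ext
  apply Equiv.ext
  intro a
  obtain ⟨x, rfl⟩ := htr.exists_smul_eq ω a
  have h1 : g • (x • ω) = h • (x • ω) := by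
    rw [← mul_smul, ← mul_smul, hc.is_comm.comm g x, hc.is_comm.comm h x, mul_smul, mul_smul]
    exact congrArg (x • ·) hgh
  exact h1

theorem prim6 (α : Type*) [Finite α] (R : Subgroup (Equiv.Perm α)) (hR : IsPreprimitive R α)
    (h2 : 2 ≤ Nat.card α) (h6 : Nat.card α ≤ 6) (hs : Group.IsSolvable R) :
    Nat.card (ConjClasses R) ≤ f6 (Nat.card α) := by
  have hne : Nonempty α := (Nat.card_pos_iff.mp (by omega)).1
  have hperm : Nat.card (Equiv.Perm α) = (Nat.card α).factorial := Nat.card_perm
  have hdvd : Nat.card R ∣ (Nat.card α).factorial := by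
    rw [← hperm]
    exact Subgroup.card_subgroup_dvd_card R
  by_cases hc : IsMulCommutative R
  · have h1 := KClass.le_card.trans (card_le_of_comm R hR.toIsPretransitive hc hne)
    refine h1.trans ?_
    generalize Nat.card α = n at *
    interval_cases n <;> simp [f6]
  · have h58 := FiveEight.five_eight hc
    obtain ⟨p, d, hp, hd, hα, hcard⟩ := card_le_descFactorial R hR h2
    have h7 : Nat.card α = 2 ∨ Nat.card α = 3 ∨ Nat.card α = 4 ∨ Nat.card α = 5 := by
      have h8 : Nat.card α ≠ 6 := by
        intro h9
        rw [h9] at hα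
        have h10 : p ∣ 6 := by rw [hα]; exact dvd_pow_self p hd.ne'
        have h11 : (2 : ℕ) ∣ p ^ d := by rw [← hα]; norm_num
        have h12 : (3 : ℕ) ∣ p ^ d := by rw [← hα]; norm_num
        have h13 := (Nat.prime_dvd_prime_iff_eq Nat.prime_two hp).mp
          (Nat.prime_two.dvd_of_dvd_pow h11)
        have h14 := (Nat.prime_dvd_prime_iff_eq Nat.prime_three hp).mp
          (Nat.prime_three.dvd_of_dvd_pow h12)
        omega
      omega
    rcases h7 with h7 | h7 | h7 | h7
    · rw [h7] at hdvd ⊢
      have := Nat.le_of_dvd (by decide) hdvd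
      have h15 : Nat.factorial 2 = 2 := rfl
      simp only [f6]
      omega
    · rw [h7] at hdvd ⊢
      have := Nat.le_of_dvd (by decide) hdvd
      have h15 : Nat.factorial 3 = 6 := rfl
      simp only [f6]
      omega
    · rw [h7] at hdvd ⊢
      have h15 : Nat.factorial 4 = 24 := rfl
      rw [h15] at hdvd
      simp only [f6]
      have h16 := Nat.le_of_dvd (by decide) hdvd
      rcases Nat.lt_or_ge (Nat.card R) 13 with h17 | h17
      · omega
      · have h18 : Nat.card R = 24 := by
          obtain ⟨c, hc⟩ := hdvd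
          have : c = 1 := by
            by_contra hc1
            have : c ≠ 0 := by rintro rfl; omega
            have : 2 ≤ c := by omega
            nlinarith
          rw [this] at hc
          omega
        have h19 : R = ⊤ := by
          apply Subgroup.eq_top_of_card_eq
          rw [hperm, h7, h18, h15]
        rw [h19, KClass.congr (Subgroup.topEquiv (G := Equiv.Perm α))]
        have := perm_le α
        rw [h7] at this
        exact this
    · have h20 : d = 1 := by
        rw [h7] at hα
        have h21 : p = 5 := by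
          have h10 : p ∣ 5 := by rw [hα]; exact dvd_pow_self p hd.ne'
          exact (Nat.prime_dvd_prime_iff_eq hp Nat.prime_five).mp h10
        rw [h21] at hα
        by_contra hd1
        have : 2 ≤ d := by omega
        have h22 := Nat.pow_le_pow_right (show 0 < 5 by norm_num) this
        omega
      rw [h7, h20] at hcard
      have h15 : Nat.descFactorial 5 (1 + 1) = 20 := by decide
      rw [h7]
      simp only [f6]
      omega

/-- **A solvable permutation group of degree 6 has at most 24 classes.** -/
theorem six (α : Type*) [Finite α] (hα : Nat.card α = 6) (R : Subgroup (Equiv.Perm α))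
    (hs : Group.IsSolvable R) : Nat.card (ConjClasses R) ≤ 24 := by
  have h : PermF.BdF True f6 6 := by
    refine PermF.bdF_all 6 (by simp [f6]) ?_ ?_ ?_
    · intro a b ha hb hab
      have ha6 : a ≤ 5 := by omega
      have hb6 : b ≤ 5 := by omega
      interval_cases a <;> interval_cases b <;> first | omega | simp [f6]
    · intro a b ha hb hab
      have ha6 : a ≤ 3 := by nlinarith
      have hb6 : b ≤ 3 := by nlinarith
      interval_cases a <;> interval_cases b <;> first | omega | simp [f6]
    · intro β _ R hR h2 h6 hs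
      exact prim6 β R hR h2 h6 (hs trivial)
  have hne : Nonempty α := (Nat.card_pos_iff.mp (by omega)).1
  have := h α R hne hα.le (fun _ => hs)
  rw [hα] at this
  exact this

end Cfsg.Agent.H553.SolvPerm
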