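import Cfsg.Agent.H573.Hall.RadBot

/-!
# Tools for `Inv1` (helper553; for S4350, the Baby Monster, `p = 5`)

* `inv1_quot` : `Inv1 s t` for quotients by central subgroups;
* `comm_mem_cent` : commutators of a `s`-group `S` centralise the `t`-groups `R` with `|S : C_S(R)| ≤ s`;
* `isPGroup_heis`, `exists_lift_group` : groups generated by two elements with central commutator, and their lifts.
-/

set_option autoImplicit false

namespace Cfsg.Agent.H553.BFiveTools

open Subgroup Cfsg Cfsg.Agent.H171.Odd Cfsg.Agent.H573.Hall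

universe u v

/-- `Inv1` for a quotient by a central subgroup -/
theorem inv1_quot {G : Type u} {K : Type v} [Group G] [Group K] [Finite G] (f : G →* K) (hf : Function.Surjective f)
    (hk : f.ker ≤ center G) {s t : ℕ} (hs : s.Prime) (ht : t.Prime) (h : Inv1 s t G) :
    Inv1 s t K := by
  have hsF : Fact s.Prime := ⟨hs⟩
  have htF : Fact t.Prime := ⟨ht⟩
  have hfK : Finite K := Finite.of_surjective f hf
  intro S hS hSi R hR hn
  obtain ⟨P⟩ : Nonempty (Sylow s ↥(S.comap f)) := inferInstance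
  have hS' : IsPGroup s ↥((P : Subgroup ↥(S.comap f)).map (S.comap f).subtype) := P.isPGroup'.map _
  have hSi' : ¬ s ∣ ((P : Subgroup ↥(S.comap f)).map (S.comap f).subtype).index := by
    rw [index_map_subtype]
    intro hd
    rcases hs.dvd_mul.1 hd with h1 | h1
    · exact P.not_dvd_index h1
    · rw [index_comap_of_surjective S hf] at h1
      exact hSi h1
  -- the preimage of `R`
  have hLn : Group.IsNilpotent ↥(R.comap f) := by
    have hRn : Group.IsNilpotent ↥R := hR.isNilpotent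
    refine Subgroup.isNilpotent_of_ker_le_center (f.subgroupComap R) ?_
    intro x hx
    have h1 : f (x : G) = 1 := congrArg Subtype.val (MonoidHom.mem_ker.1 hx)
    rw [mem_center_iff]
    intro g
    exact Subtype.ext (mem_center_iff.1 (hk (MonoidHom.mem_ker.2 h1)) g)
  obtain ⟨T⟩ : Nonempty (Sylow t ↥(R.comap f)) := inferInstance
  have hTn : (T : Subgroup ↥(R.comap f)).Normal := inferInstance
  have hT' : IsPGroup t ↥((T : Subgroup ↥(R.comap f)).map (R.comap f).subtype) := T.isPGroup'.map _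
  have hmem : ∀ l : G, l ∈ R.comap f → ∀ n : ℕ, l ^ t ^ n = 1 →
      l ∈ (T : Subgroup ↥(R.comap f)).map (R.comap f).subtype := by
    intro l hl n hln
    have h0 : IsPGroup t ↥(zpowers (⟨l, hl⟩ : ↥(R.comap f))) := by
      rintro ⟨_, j, rfl⟩
      refine ⟨n, Subtype.ext ?_⟩
      show ((⟨l, hl⟩ : ↥(R.comap f)) ^ j) ^ t ^ n = 1
      rw [← zpow_natCast, ← zpow_mul, mul_comm, zpow_mul, zpow_natCast,
        show (⟨l, hl⟩ : ↥(R.comap f)) ^ t ^ n = 1 from Subtype.ext hln, one_zpow]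
    obtain ⟨T', hT''⟩ := h0.exists_le_sylow
    have : Subsingleton (Sylow t ↥(R.comap f)) := by
      have := Sylow.unique_of_normal T hTn
      infer_instance
    rw [Subsingleton.elim T' T] at hT''
    exact ⟨⟨l, hl⟩, hT'' (mem_zpowers _), rfl⟩
  have hbot : (T : Subgroup ↥(R.comap f)).map (R.comap f).subtype = ⊥ := by
    refine h _ hS' hSi' _ hT' (RadInv.le_normalizer_of_conj ?_)
    rintro _ ⟨g, hg, rfl⟩ _ ⟨l, hl, rfl⟩
    obtain ⟨n, hln⟩ := T.2 ⟨l, hl⟩
    have hln' : (l : G) ^ t ^ n = 1 := congrArg (fun y : ↥(T : Subgroup ↥(R.comap f)) => ((y : ↥(R.comap f)) : G)) hln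
    refine hmem _ ?_ n ?_
    · show f ((g : G) * l * (g : G)⁻¹) ∈ R
      rw [map_mul, map_mul, map_inv]
      exact RadInv.conj_of_le_normalizer hn (f g) g.2 (f l) l.2
    · show ((g : G) * l * (g : G)⁻¹) ^ t ^ n = 1
      rw [conj_pow, hln', mul_one, mul_inv_cancel]
  rw [map_eq_bot_iff_of_injective _ (subtype_injective _)] at hbot
  have h1 : ¬ t ∣ Nat.card ↥(R.comap f) := by
    have h2 := T.not_dvd_index
    rwa [hbot, index_bot] at h2
  have h2 : ¬ t ∣ Nat.card ↥R := by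
    intro h3
    apply h1
    have h4 : Function.Surjective (f.subgroupComap R) := f.subgroupComap_surjective_of_surjective R hf
    exact h3.trans (card_dvd_of_surjective _ h4)
  obtain ⟨k, hk'⟩ := hR.exists_card_eq
  rcases Nat.eq_zero_or_pos k with h3 | h3
  · rw [h3, pow_zero] at hk'
    exact card_eq_one.1 hk'
  · exact absurd (hk' ▸ dvd_pow_self t (by omega)) h2

/-- commutators centralise `R` -/
theorem comm_mem_cent {G : Type u} [Group G] [Finite G] {s : ℕ} [hs : Fact s.Prime] {S R : Subgroup G}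
    (hn : S ≤ normalizer (R : Set G)) (hc : Nat.card ↥S ∣ Nat.card ↥(S ⊓ centralizer (R : Set G)) * s) {a b : G}
    (ha : a ∈ S) (hb : b ∈ S) : a⁻¹ * b⁻¹ * a * b ∈ centralizer (R : Set G) := by
  set K := (S ⊓ centralizer (R : Set G)).subgroupOf S with hK
  have hKn : K.Normal := by
    refine ⟨fun x hx g => ?_⟩
    rw [hK, mem_subgroupOf] at hx ⊢
    refine ⟨(g * x * g⁻¹).2, mem_centralizer_iff.2 fun y hy => ?_⟩
    have h1 : (g : G)⁻¹ * y * g ∈ R := by
      have := (mem_normalizer_iff.1 (hn (S.inv_mem g.2)) y).1 hy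
      simpa using this
    have h3 : (g : G)⁻¹ * y * g * x = x * ((g : G)⁻¹ * y * g) := mem_centralizer_iff.1 hx.2 _ h1
    show y * ((g : G) * x * (g : G)⁻¹) = (g : G) * x * (g : G)⁻¹ * y
    calc y * ((g : G) * x * (g : G)⁻¹) = g * ((g : G)⁻¹ * y * g * x) * (g : G)⁻¹ := by group
      _ = g * (x * ((g : G)⁻¹ * y * g)) * (g : G)⁻¹ := by rw [h3]
      _ = (g : G) * x * (g : G)⁻¹ * y := by group
  have hcK : Nat.card ↥K = Nat.card ↥(S ⊓ centralizer (R : Set G)) := by
    rw [hK]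
    exact Nat.card_congr (subgroupOfEquivOfLe inf_le_left).toEquiv
  have hidx : Nat.card (↥S ⧸ K) ∣ s := by
    have h1 : Nat.card (↥S ⧸ K) * Nat.card ↥K ∣ s * Nat.card ↥K := by
      rw [← K.card_eq_card_quotient_mul_card_subgroup, hcK, mul_comm s]
      exact hc
    exact Nat.dvd_of_mul_dvd_mul_right Nat.card_pos h1
  have hcomm : ∀ x y : ↥S ⧸ K, x * y = y * x := by
    rcases (Nat.dvd_prime hs.out).1 hidx with h1 | h1
    · have := (Nat.card_eq_one_iff_unique.1 h1).1
      intro x y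
      exact Subsingleton.elim _ _
    · have : IsCyclic (↥S ⧸ K) := isCyclic_of_prime_card h1
      intro x y
      exact mul_comm' x y
  have h1 : ((⟨a, ha⟩ : ↥S)⁻¹ * (⟨b, hb⟩ : ↥S)⁻¹ * ⟨a, ha⟩ * ⟨b, hb⟩) ∈ K := by
    rw [← QuotientGroup.eq_one_iff]
    have h2 := hcomm (QuotientGroup.mk (⟨a, ha⟩ : ↥S)) (QuotientGroup.mk (⟨b, hb⟩ : ↥S))
    calc (QuotientGroup.mk ((⟨a, ha⟩ : ↥S)⁻¹ * (⟨b, hb⟩ : ↥S)⁻¹ * ⟨a, ha⟩ * ⟨b, hb⟩) : ↥S ⧸ K)
        = (QuotientGroup.mk (⟨a, ha⟩ : ↥S))⁻¹ * (QuotientGroup.mk (⟨b, hb⟩ : ↥S))⁻¹ *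
          (QuotientGroup.mk (⟨a, ha⟩ : ↥S) * QuotientGroup.mk (⟨b, hb⟩ : ↥S)) := by
          rw [← mul_assoc]; rfl
      _ = 1 := by rw [h2]; group
  exact (mem_subgroupOf.1 h1).2

/-- `⟨a, b⟩` with central commutator `c` -/
theorem isPGroup_heis {K : Type u} [Group K] {p : ℕ} [Fact p.Prime] {a b c : K} (ha : a ^ p = 1) (hb : b ^ p = 1)
    (hc : c ^ p = 1) (hac : a * c = c * a) (hbc : b * c = c * b) (hab : a * b = b * a * c) :
    IsPGroup p ↥(closure ({a, b} : Set K)) := by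
  have hz : ∀ g : K, g ^ p = 1 → IsPGroup p ↥(zpowers g) := by
    rintro g hg ⟨_, j, rfl⟩
    refine ⟨1, Subtype.ext ?_⟩
    show (g ^ j) ^ p ^ 1 = 1
    rw [pow_one, ← zpow_natCast, ← zpow_mul, mul_comm, zpow_mul, zpow_natCast, hg, one_zpow]
  set U := zpowers c ⊔ zpowers a with hU
  have hUp : IsPGroup p ↥U := by
    refine (hz c hc).to_sup_of_normal_left' (hz a ha) (zpowers_le.2 ?_)
    rw [mem_normalizer_iff]
    intro x
    have h1 : ∀ x ∈ zpowers c, a * x = x * a := by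
      rintro _ ⟨j, rfl⟩
      exact ((show Commute a c from hac).zpow_right j).eq
    constructor
    · intro hx
      rw [h1 x hx, mul_inv_cancel_right]
      exact hx
    · intro hx
      have h2 := h1 _ hx
      have h3 : a * x * a⁻¹ = x := by
        have h4 : a * (a * x * a⁻¹) = a * x := by rw [h2]; group
        exact mul_left_cancel h4
      rwa [h3] at hx
  have hcU : c ∈ U := mem_sup_left (mem_zpowers c)
  have haU : a ∈ U := mem_sup_right (mem_zpowers a)
  have hbb : b⁻¹ * a * b = a * c := by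
    rw [mul_assoc, hab]
    group
  have hbc' : b⁻¹ * c * b = c := by rw [mul_assoc, ← hbc]; group
  have hbc'' : b * c * b⁻¹ = c := by rw [hbc]; group
  have hbb' : b * a * b⁻¹ = a * c⁻¹ := by
    have h1 : b * (b⁻¹ * a * b) * b⁻¹ = b * (a * c) * b⁻¹ := by rw [hbb]
    have h2 : a = (b * a * b⁻¹) * (b * c * b⁻¹) := by
      calc a = b * (b⁻¹ * a * b) * b⁻¹ := by group
        _ = b * (a * c) * b⁻¹ := h1
        _ = _ := by group
    rw [hbc''] at h2
    rw [eq_mul_inv_iff_mul_eq]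
    exact h2.symm
  have h1 : U ≤ U.comap (MulAut.conj b).toMonoidHom := by
    rw [hU, sup_le_iff, zpowers_le, zpowers_le, mem_comap, mem_comap]
    constructor
    · show b * c * b⁻¹ ∈ U
      rw [hbc'']; exact hcU
    · show b * a * b⁻¹ ∈ U
      rw [hbb']; exact U.mul_mem haU (U.inv_mem hcU)
  have h2 : U ≤ U.comap (MulAut.conj b⁻¹).toMonoidHom := by
    rw [hU, sup_le_iff, zpowers_le, zpowers_le, mem_comap, mem_comap]
    constructor
    · show b⁻¹ * c * b⁻¹⁻¹ ∈ U
      rw [inv_inv, hbc']; exact hcU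
    · show b⁻¹ * a * b⁻¹⁻¹ ∈ U
      rw [inv_inv, hbb]; exact U.mul_mem haU hcU
  have hW : IsPGroup p ↥(U ⊔ zpowers b : Subgroup K) := by
    refine hUp.to_sup_of_normal_left' (hz b hb) (zpowers_le.2 ?_)
    rw [mem_normalizer_iff]
    intro x
    constructor
    · intro hx
      exact h1 hx
    · intro hx
      have h3 : b⁻¹ * (b * x * b⁻¹) * b⁻¹⁻¹ ∈ U := h2 hx
      have h4 : b⁻¹ * (b * x * b⁻¹) * b⁻¹⁻¹ = x := by group
      rwa [h4] at h3
  refine hW.to_le ?_
  rw [closure_le]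
  rintro x (rfl | rfl)
  · exact mem_sup_left haU
  · exact mem_sup_right (mem_zpowers _)

/-- lifting a `p`-group generated by two elements -/
theorem exists_lift_group {Γ : Type u} {K : Type v} [Group Γ] [Group K] [Finite Γ] {p : ℕ} [hp : Fact p.Prime]
    (π : Γ →* K) {a b : K} (hF : IsPGroup p ↥(closure ({a, b} : Set K))) (ha : a ∈ π.range) (hb : b ∈ π.range) :
    ∃ F : Subgroup Γ, IsPGroup p ↥F ∧ ∃ x ∈ F, ∃ y ∈ F, π x = a ∧ π y = b := by
  set L := closure ({a, b} : Set K) with hL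
  have hle : L ≤ π.range := by
    rw [hL, closure_le]
    rintro x (rfl | rfl)
    · exact ha
    · exact hb
  let φ : ↥(L.comap π) →* ↥L := π.subgroupComap L
  have hφ : Function.Surjective φ := by
    rintro ⟨l, hl⟩
    obtain ⟨g, rfl⟩ := hle hl
    exact ⟨⟨g, hl⟩, rfl⟩
  have hfL : Finite ↥L := Finite.of_surjective φ hφ
  obtain ⟨P⟩ : Nonempty (Sylow p ↥(L.comap π)) := inferInstance
  have hm : (P : Subgroup ↥(L.comap π)).map φ = ⊤ := by
    have h1 := (P.mapSurjective hφ).not_dvd_index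
    rw [Sylow.coe_mapSurjective] at h1
    obtain ⟨k, hk⟩ := hF.exists_card_eq
    have h2 : ((P : Subgroup ↥(L.comap π)).map φ).index ∣ p ^ k := by
      rw [← hk]
      exact index_dvd_card _
    obtain ⟨j, -, hj⟩ := (Nat.dvd_prime_pow hp.out).1 h2
    rcases Nat.eq_zero_or_pos j with h3 | h3
    · rw [h3, pow_zero] at hj
      exact index_eq_one.1 hj
    · exact absurd (hj ▸ dvd_pow_self p (by omega)) h1
  refine ⟨(P : Subgroup ↥(L.comap π)).map (L.comap π).subtype, P.isPGroup'.map _, ?_⟩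
  have haL : a ∈ L := subset_closure (Or.inl rfl)
  have hbL : b ∈ L := subset_closure (Or.inr rfl)
  obtain ⟨x, hx, hxa⟩ : (⟨a, haL⟩ : ↥L) ∈ (P : Subgroup ↥(L.comap π)).map φ := by rw [hm]; trivial
  obtain ⟨y, hy, hyb⟩ : (⟨b, hbL⟩ : ↥L) ∈ (P : Subgroup ↥(L.comap π)).map φ := by rw [hm]; trivial
  exact ⟨x, ⟨x, hx, rfl⟩, y, ⟨y, hy, rfl⟩, congrArg Subtype.val hxa, congrArg Subtype.val hyb⟩

end Cfsg.Agent.H553.BFiveTools
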