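import Cfsg.Agent.H553.BFiveRad
import Cfsg.Agent.H553.BFiveTools
import Cfsg.Agent.BpSpor.MFiveHA
import Cfsg.Agent.BpSpor.MBigEleven
import Cfsg.Agent.CpAutBFive.Final
import Cfsg.Agent.H573.Spor.BFive
import Cfsg.Agent.H665.SporJ2

/-!
# The Baby Monster, `p = 5` (helper553; for S4350)

* `no_zero` : `x` of order 5 and fixed rank 0, `t` an involution commuting with `x`, not conjugate to `z`: no element of order
  7, 11, 13, 31 commutes with `x` and `t`;
* `no_four` : the same for fixed rank 4;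
* `exists_comm` : a commutator of fixed rank 4 in a 5-subgroup of `C(t)`, `t = ι p`, `p` short;
* `inv_b` : `Inv1 5 r` for the Baby Monster, `r = 7, 11, 13, 31`.
-/

set_option autoImplicit false
set_option maxRecDepth 100000

namespace Cfsg.Agent.H553.BFiveInv

open Cfsg Cfsg.Agent.H171.Odd Cfsg.Agent.H573.Hall Cfsg.Agent.H573.Spor Cfsg.Agent.H553.BFiveRad
open Cfsg.Agent.H553.BFiveTools
open Cfsg.Agent.MonsterU Cfsg.Agent.MFive
open Cfsg.Agent.LThreeMB (fr XX zD toXX self KChart.Cent KChart.pi KChart.chart)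
open Cfsg.Agent.MonsterU.Ch
open Cfsg.Agent.MonsterU.Lam2 (L2)
open Cfsg.Spor (Co1)
open Cfsg.Agent.LThreeB (XT mem_XT)
open Subgroup (centralizer mem_centralizer_singleton_iff center normalizer)

universe u

local instance : Fact (Nat.Prime 5) := ⟨Nat.prime_five⟩

/-! ### Involutions of `J₂` -/

theorem j2_inv {S : Type u} [Group S] (h : Spor.IsoJ2 S) (a : S) (ha : a * a = 1) (ha1 : a ≠ 1) :
    5 ∣ Nat.card ↥(centralizer ({a} : Set S)) ∧ ¬ 7 ∣ Nat.card ↥(centralizer ({a} : Set S)) := by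
  have hf : Finite S := by
    obtain ⟨e⟩ := h
    exact Nat.finite_of_card_ne_zero (by
      rw [Nat.card_congr e.toEquiv, Cfsg.Agent.J2Sylow.SporSylow.card_J2]; norm_num)
  obtain ⟨t0, u0, Q0, v0, ρ0, Dt0⟩ := Cfsg.Agent.KFacts.J2.Facts.exists_dat_of h
  rcases H665.SporJ2.card_cent Dt0 ha ha1 with h1 | h1 <;> rw [h1] <;> norm_num

theorem card_j2 {S : Type u} [Group S] (h : Spor.IsoJ2 S) : Nat.card S = 604800 := by
  obtain ⟨e⟩ := h
  rw [Nat.card_congr e.toEquiv, Cfsg.Agent.J2Sylow.SporSylow.card_J2]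

section chart

variable {G : Type u} [Group G] {Q : Subgroup G} {z : G} {eta : G → L2}
  {pi : Subgroup.centralizer ({z} : Set G) →* Co1}

/-- the orders of centralizers in a centralizer -/
theorem card_cent_dvd [Finite G] {x : G} (s : ↥(centralizer ({x} : Set G))) :
    Nat.card ↥(centralizer ({s} : Set ↥(centralizer ({x} : Set G)))) ∣ Nat.card ↥(centralizer ({(s : G)} : Set G)) := by
  have h1 : Nat.card ↥(centralizer ({s} : Set ↥(centralizer ({x} : Set G)))) =
      Nat.card ↥((centralizer ({s} : Set ↥(centralizer ({x} : Set G)))).map (centralizer ({x} : Set G)).subtype) :=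
    (Subgroup.card_map_of_injective (Subgroup.subtype_injective _)).symm
  rw [h1]
  apply Subgroup.card_dvd_of_le
  rintro _ ⟨c, hc, rfl⟩
  rw [mem_centralizer_singleton_iff]
  exact congrArg Subtype.val (mem_centralizer_singleton_iff.1 hc)

/-- **fixed rank 0** -/
theorem no_zero [Finite G] (h : Chart Q z eta pi) (htr : TrNe 5 z pi)
    {x : Subgroup.centralizer ({z} : Set G)} (hx : orderOf x = 5) (hfr : fr (pi x) = 1)
    (hJ : Spor.IsoJ2 (XX (pi x))) {k : G} (hkx : k * (x : G) = x * k) (hkk : k * k = z)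
    (h7 : ∀ s : G, s * s = 1 → s ≠ 1 → ¬ 7 ^ 3 ∣ Nat.card ↥(centralizer ({s} : Set G)))
    (h11 : ¬ 11 ^ 3 ∣ Nat.card G) (h13 : ¬ 13 ^ 4 ∣ Nat.card G) (h31 : ¬ 31 ^ 2 ∣ Nat.card G)
    {t : G} (ht : orderOf t = 2) (hxt : (x : G) * t = t * x) (hnt : ∀ d : G, d * t * d⁻¹ ≠ z) {r : ℕ}
    (hr : r = 7 ∨ r = 11 ∨ r = 13 ∨ r = 31) {y : G} (hy : orderOf y = r) (hyx : y * x = x * y) (hyt : y * t = t * y) :
    False := by
  obtain ⟨f1, f2, f3, -⟩ := BpSpor.M5.j2_facts hJ
  have hc := card_j2 hJ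
  obtain ⟨N, hN⟩ := BpSpor.M5.exists_rad h (by norm_num) hx hfr (fun d hd hc => isolated h htr hx hfr d hd hc) f1 f2
  have hkz : k * z = z * k := by rw [← hkk, mul_assoc]
  let kk : ↥(centralizer ({zD x} : Set ↥(centralizer ({(x : G)} : Set G)))) :=
    ⟨⟨k, mem_centralizer_singleton_iff.2 hkx⟩, mem_centralizer_singleton_iff.2 (Subtype.ext hkz)⟩
  have hkk' : (kk : ↥(centralizer ({(x : G)} : Set G))) * kk = zD x := Subtype.ext hkk
  let yD : ↥(centralizer ({(x : G)} : Set G)) := ⟨y, mem_centralizer_singleton_iff.2 hyx⟩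
  have hyD : orderOf yD = r := by rw [← Subgroup.orderOf_coe]; exact hy
  let tD : ↥(centralizer ({(x : G)} : Set G)) := ⟨t, mem_centralizer_singleton_iff.2 hxt.symm⟩
  have htt : t * t = 1 := by rw [← pow_two, ← ht, pow_orderOf_eq_one]
  have ht1 : t ≠ 1 := by
    rintro rfl
    rw [orderOf_one] at ht
    norm_num at ht
  have hsub : ∀ n : ℕ, ¬ n ∣ Nat.card G → ¬ n ∣ Nat.card ↥(centralizer ({(x : G)} : Set G)) :=
    fun n hn h1 => hn (h1.trans (Subgroup.card_subgroup_dvd_card _))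
  rcases hr with rfl | rfl | rfl | rfl
  · refine no_seven hN f3 hkk' (fun a ha ha1 => j2_inv hJ a ha ha1) ?_ (t := tD) (Subtype.ext htt)
      (fun h1 => ht1 (congrArg Subtype.val h1)) (fun g hg => hnt (g : G) (congrArg Subtype.val hg)) (y := yD) hyD
      (Subtype.ext hyt)
    intro s hs hs1 hd
    exact h7 (s : G) (congrArg Subtype.val hs) (fun h1 => hs1 (Subtype.ext h1)) (hd.trans (card_cent_dvd s))
  · exact no_elt hN f3 (by norm_num) hkk' (r := 11) (b := 2) (by norm_num) (by norm_num) (by norm_num)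
      (by rw [hc]; norm_num) (hsub _ h11) (s := 3) (e := 3) Nat.prime_three (by norm_num) (by rw [hc]; norm_num)
      (fun _ => 1) (by decide) (by decide) hyD
  · exact no_elt hN f3 (by norm_num) hkk' (r := 13) (b := 3) (by norm_num) (by norm_num) (by norm_num)
      (by rw [hc]; norm_num) (hsub _ h13) (s := 5) (e := 2) Nat.prime_five (by norm_num) (by rw [hc]; norm_num)
      (fun _ => 0) (by decide) (by decide) hyD
  · exact no_elt hN f3 (by norm_num) hkk' (r := 31) (b := 1) (by norm_num) (by norm_num) (by norm_num)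
      (by rw [hc]; norm_num) (hsub _ h31) (s := 3) (e := 3) Nat.prime_three (by norm_num) (by rw [hc]; norm_num)
      (fun _ => 1) (by decide) (by decide) hyD

/-- **fixed rank 4** -/
theorem no_four [Finite G] (h : Chart Q z eta pi) (htr : TrNe 5 z pi) (I : CoFive) (h8 : HNEight z pi)
    (hpr : HasPair 5 z pi)
    (h0 : ∀ (x : Subgroup.centralizer ({z} : Set G)) (t y : G) (r : ℕ), orderOf x = 5 → fr (pi x) = 1 → orderOf t = 2 →
      (x : G) * t = t * x → (∀ d : G, d * t * d⁻¹ ≠ z) → (r = 7 ∨ r = 11 ∨ r = 13 ∨ r = 31) → orderOf y = r →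
      y * x = x * y → y * t = t * y → False)
    {x : Subgroup.centralizer ({z} : Set G)} (hx : orderOf x = 5) (hfr : fr (pi x) = 2 ^ 4)
    {t : G} (ht : orderOf t = 2) (hxt : (x : G) * t = t * x) (hnt : ∀ d : G, d * t * d⁻¹ ≠ z) {r : ℕ}
    (hr : r = 7 ∨ r = 11 ∨ r = 13 ∨ r = 31) {y : G} (hy : orderOf y = r) (hyx : y * x = x * y) (hyt : y * t = t * y) :
    False := by
  have hp : Nat.Prime 5 := Nat.prime_five
  obtain ⟨x₀, u, g, hx₀, hfr₀, huz, hux, hne, hg⟩ := hpr
  obtain ⟨k, i, hk⟩ := conj_pair h hp (by decide) htr (R := fun n => n = 2 ^ 8) I.ranks I.four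
    (fun x hx h2 => ⟨(simple_of_isoHN (h8 x hx h2)).1, (simple_of_isoHN (h8 x hx h2)).2.1⟩) hx₀ hfr₀ huz hux
    hne hg hx hfr
  have hx₀' : orderOf (x₀ : G) = 5 := by rw [Subgroup.orderOf_coe, hx₀]
  have hoi : orderOf ((x₀ : G) ^ i) = 5 := by
    rw [← hk, ← hx, ← Subgroup.orderOf_coe]
    exact MulEquiv.orderOf_eq (MulAut.conj k) (x : G)
  have hcen := centralizer_pow hp hx₀' hoi
  have key : ∀ s : G, s * (x : G) = x * s → (k * s * k⁻¹) * (x₀ : G) = x₀ * (k * s * k⁻¹) := by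
    intro s hs
    have h1 : (k * s * k⁻¹) * (x₀ : G) ^ i = (x₀ : G) ^ i * (k * s * k⁻¹) := by
      rw [← hk]
      calc k * s * k⁻¹ * (k * x * k⁻¹) = k * (s * x) * k⁻¹ := by group
        _ = k * (x * s) * k⁻¹ := by rw [hs]
        _ = _ := by group
    have h2 : k * s * k⁻¹ ∈ centralizer ({(x₀ : G)} : Set G) := by
      rw [← hcen]
      exact mem_centralizer_singleton_iff.2 h1
    exact mem_centralizer_singleton_iff.1 h2
  refine h0 x₀ (k * t * k⁻¹) (k * y * k⁻¹) r hx₀ hfr₀ ?_ (key t hxt.symm).symm ?_ hr ?_ (key y hyx) ?_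
  · rw [← ht]
    exact MulEquiv.orderOf_eq (MulAut.conj k) t
  · intro d hd
    refine hnt (d * k) ?_
    rw [← hd]
    group
  · rw [← hy]
    exact MulEquiv.orderOf_eq (MulAut.conj k) y
  · calc k * y * k⁻¹ * (k * t * k⁻¹) = k * (y * t) * k⁻¹ := by group
      _ = k * (t * y) * k⁻¹ := by rw [hyt]
      _ = _ := by group

end chart

/-! ### The model of the Monster -/

open Cfsg.Agent.MonsterX Cfsg.Agent.MonsterX.InstData Cfsg.Agent.MonsterX.MainPack
open Cfsg.Agent.MonsterX.Model Cfsg.Agent.MonsterX.MainSimple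
open Cfsg.Agent.MonsterX.MainBasic Cfsg.Agent.MonsterP Cfsg.Agent.MonsterN
open Cfsg.Agent.CpAutBFive.Closed (HJ coFive hnEight)
open Cfsg.Agent.BpSpor.M5 (HA trNe hasPair)
open Cfsg.Agent.MonsterU.Lam2

/-- the 7-part of the centralizers of the involutions -/
theorem not_seven {s : ↥InstData.M.G} (hs : s * s = 1) (hs1 : s ≠ 1) :
    ¬ 7 ^ 3 ∣ Nat.card ↥(centralizer ({s} : Set ↥InstData.M.G)) := by
  have hF : Fact (Nat.Prime 2) := ⟨Nat.prime_two⟩
  have ho : orderOf s = 2 := orderOf_eq_prime (by rw [pow_two, hs]) hs1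
  rcases BpSpor.MBigModel.cls ho with ⟨g, hg⟩ | h
  · rw [BpSpor.card_cent_of_conj hg, BpSpor.MBigModel.card_cent_z]
    norm_num
  · rw [BpSpor.MBigModel.card_cent_t h]
    norm_num

theorem no_zero_model (x : centralizer ({KDone.K.z} : Set ↥InstData.M.G)) (t y : ↥InstData.M.G) (r : ℕ)
    (hx : orderOf x = 5) (hfr : fr (KChart.pi MFive.Row.hc x) = 1) (ht : orderOf t = 2)
    (hxt : (x : ↥InstData.M.G) * t = t * x) (hnt : ∀ d : ↥InstData.M.G, d * t * d⁻¹ ≠ KDone.K.z)
    (hr : r = 7 ∨ r = 11 ∨ r = 13 ∨ r = 31) (hy : orderOf y = r) (hyx : y * x = x * y) (hyt : y * t = t * y) : False := by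
  have := MFive.Row.finite_model
  have h := KChart.chart KDone.lft MFive.Row.hc
  obtain ⟨x₁, k₁, hx₁, hfr₁, hkx₁, hkk₁⟩ := BpSpor.M5.exists_k BpSpor.M5.hA
  obtain ⟨k, hkx, hkk⟩ := BpSpor.M5.exists_sq h Nat.prime_five (by decide) (CoFive.Ranks.wclassOf _) hx₁ hfr₁ hkx₁ hkk₁
    hx hfr
  have hcard := Monster.card_model
  exact no_zero h trNe hx hfr (CpAutBFive.Final.hJ _ (orderOf_pi h Nat.prime_five (by decide) hx) hfr) hkx hkk
    (fun s hs hs1 => not_seven hs hs1) (by rw [hcard]; norm_num) (by rw [hcard]; norm_num) (by rw [hcard]; norm_num)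
    ht hxt hnt hr hy hyx hyt

theorem no_four_model (x : centralizer ({KDone.K.z} : Set ↥InstData.M.G)) (t y : ↥InstData.M.G) (r : ℕ)
    (hx : orderOf x = 5) (hfr : fr (KChart.pi MFive.Row.hc x) = 2 ^ 4) (ht : orderOf t = 2)
    (hxt : (x : ↥InstData.M.G) * t = t * x) (hnt : ∀ d : ↥InstData.M.G, d * t * d⁻¹ ≠ KDone.K.z)
    (hr : r = 7 ∨ r = 11 ∨ r = 13 ∨ r = 31) (hy : orderOf y = r) (hyx : y * x = x * y) (hyt : y * t = t * y) : False := by
  have := MFive.Row.finite_model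
  exact no_four (KChart.chart KDone.lft MFive.Row.hc) trNe CpAutBFive.Final.coFive hnEight hasPair
    no_zero_model hx hfr ht hxt hnt hr hy hyx hyt

end Cfsg.Agent.H553.BFiveInv
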