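import Cfsg.Agent.H573.Hall.RadBot
import Cfsg.Agent.H794.MonSec
import Cfsg.Agent.BpSpor.BFiveZero

/-!
# Elements of order `r` of `D = N C_D(z)` (helper553; for S4350, the Baby Monster, `p = 5`)

In the situation `Rad p z x N f` with `z` a square:

* `not_mem` : elements of order `r` are not in `N`, if `C_D(V)` is not solvable for the normal `r`-subgroups `V ≤ N`;
* `not_solvable_seven` : `p = 5`, `r = 7`: `C_D(V)` is not solvable, from the centralizers of involutions;
* `no_seven` : no element of order 7 commutes with an involution not conjugate to `z`.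
-/

set_option autoImplicit false

namespace Cfsg.Agent.H553.BFiveRad

open Subgroup Cfsg Cfsg.Agent.BpSpor.M5 Cfsg.Agent.H171.Odd Cfsg.Agent.H573.Hall

universe u v

variable {D : Type u} [Group D] [Finite D] {p : ℕ} [hp : Fact p.Prime] {z x : D} {N : Subgroup D} {A : Type v} [Group A]
  {f : ↥(centralizer ({z} : Set D)) →* A}

/-- the normal `r`-subgroup of `N` -/
theorem exists_V (h : Rad p z x N f) (hp2 : p ≠ 2) {r : ℕ} (hr : r.Prime) (hrp : r ≠ p) {y : D} (hy : orderOf y = r)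
    (hyN : y ∈ N) :
    ∃ V : Subgroup D, V.Normal ∧ IsPGroup r ↥V ∧ y ∈ V ∧ V ≤ N ∧ N ≤ centralizer (V : Set D) ∧
      ∀ v ∈ V, z * v * z⁻¹ = v⁻¹ := by
  have hrF : Fact r.Prime := ⟨hr⟩
  have hN := h.nN
  have hnil : Group.IsNilpotent ↥N := h.isNilpotent hp2
  obtain ⟨P⟩ : Nonempty (Sylow r ↥N) := inferInstance
  have hPn : (P : Subgroup ↥N).Normal := inferInstance
  have hPc : (P : Subgroup ↥N).Characteristic := Sylow.characteristic_of_normal P hPn
  let V : Subgroup D := (P : Subgroup ↥N).map N.subtype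
  have hVn : V.Normal := ConjAct.normal_of_characteristic_of_normal
  have hVp : IsPGroup r ↥V := P.isPGroup'.map _
  have hVN : V ≤ N := map_subtype_le _
  have hyV : y ∈ V := by
    have h0 : IsPGroup r ↥(zpowers y) := IsPGroup.of_card (n := 1) (by rw [Nat.card_zpowers, hy, pow_one])
    have h1 : IsPGroup r ↥((zpowers y).subgroupOf N) := h0.comap_of_injective N.subtype N.subtype_injective
    obtain ⟨P', hP'⟩ := h1.exists_le_sylow
    have : Subsingleton (Sylow r ↥N) := by
      have := Sylow.unique_of_normal P hPn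
      infer_instance
    rw [Subsingleton.elim P' P] at hP'
    exact ⟨⟨y, hyN⟩, hP' (mem_subgroupOf.2 (mem_zpowers y)), rfl⟩
  have hVx : ∀ i : ℤ, x ^ i ∈ V → x ^ i = 1 := by
    intro i hi
    obtain ⟨k, hk⟩ := hVp ⟨x ^ i, hi⟩
    have h1 : (x ^ i) ^ r ^ k = 1 := congrArg Subtype.val hk
    have h2 : (x ^ i) ^ p = 1 := by
      rw [← zpow_natCast, ← zpow_mul, mul_comm, zpow_mul, zpow_natCast, ← h.ox, pow_orderOf_eq_one, one_zpow]
    have h3 : orderOf (x ^ i) ∣ Nat.gcd (r ^ k) p := Nat.dvd_gcd (orderOf_dvd_of_pow_eq_one h1) (orderOf_dvd_of_pow_eq_one h2)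
    have h4 : Nat.gcd (r ^ k) p = 1 := Nat.Coprime.pow_left k ((Nat.coprime_primes hr hp.out).2 hrp)
    rw [h4, Nat.dvd_one, orderOf_eq_one_iff] at h3
    exact h3
  refine ⟨V, hVn, hVp, hyV, hVN, ?_, ?_⟩
  · intro n hn
    rw [mem_centralizer_iff]
    intro v hv
    obtain ⟨i, hi⟩ := h.comm hp2 hn (hVN hv)
    have h1 : x ^ i = v⁻¹ * (n * v * n⁻¹) := by rw [hi]; group
    have h2 : x ^ i = 1 := hVx i (by
      rw [h1]
      exact V.mul_mem (V.inv_mem hv) (hVn.conj_mem v hv n))
    rw [h2, mul_one] at hi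
    exact (mul_inv_eq_iff_eq_mul.1 hi).symm
  · intro v hv
    obtain ⟨i, hi⟩ := h.inv hp2 (hVN hv)
    have h1 : x ^ i = v * (z * v * z⁻¹) := by rw [hi]; group
    have h2 : x ^ i = 1 := hVx i (by
      rw [h1]
      exact V.mul_mem hv (hVn.conj_mem v hv z))
    rw [h2, mul_one] at hi
    exact hi

variable [hA : IsSimpleGroup A]

/-- **no element of order `r` in `N`** -/
theorem not_mem (h : Rad p z x N f) (hp2 : p ≠ 2) {k : ↥(centralizer ({z} : Set D))} (hk : (k : D) * k = z) {r : ℕ}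
    (hr : r.Prime) (hr2 : r ≠ 2) (hrp : r ≠ p) {y : D} (hy : orderOf y = r)
    (hs : ∀ V : Subgroup D, V.Normal → IsPGroup r ↥V → (∀ v ∈ V, z * v * z⁻¹ = v⁻¹) →
      ¬ Group.IsSolvable ↥(centralizer (V : Set D))) : y ∉ N := by
  intro hyN
  obtain ⟨V, hV, hVr, hyV, -, hNV, hz⟩ := exists_V h hp2 hr hrp hy hyN
  have h1 := RadInv.no_V h hp2 hk hr hr2 hV hVr hNV hz (hs V hV hVr hz)
  rw [h1, mem_bot] at hyV
  rw [hyV, orderOf_one] at hy
  exact hr.one_lt.ne hy

/-- no element of order `r` in `D`, `r` prime to `|A|` -/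
theorem no_elt (h : Rad p z x N f) (hAc : ¬ Group.IsSolvable A) (hp2 : p ≠ 2) {k : ↥(centralizer ({z} : Set D))}
    (hk : (k : D) * k = z) {r b : ℕ} (hr : r.Prime) (hr2 : r ≠ 2) (hrp : r ≠ p) (hrA : ¬ r ∣ Nat.card A)
    (hb : ¬ r ^ (b + 1) ∣ Nat.card D) {s e : ℕ} (hs : s.Prime) (hsr : s ≠ r) (he : s ^ e ∣ Nat.card A) (w : ℕ → ℕ)
    (hw : ∀ k, 1 ≤ k → k ≤ b → ¬ s ^ (w k + 1) ∣ r ^ k - 1) (hW : ∑ i ∈ Finset.range b, w (i + 1) < e) {y : D}
    (hy : orderOf y = r) : False := by
  obtain ⟨ψ, hψ, -, -, hψk⟩ := RadInv.exists_map h hAc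
  have hfA : Finite A := Finite.of_surjective ψ hψ
  have hyr : y ^ r = 1 := by rw [← hy, pow_orderOf_eq_one]
  have h1 : ψ y = 1 := by
    have h2 : orderOf (ψ y) ∣ r := orderOf_dvd_of_pow_eq_one (by rw [← map_pow, hyr, map_one])
    rcases (Nat.dvd_prime hr).1 h2 with h3 | h3
    · exact orderOf_eq_one_iff.1 h3
    · exact absurd (h3 ▸ orderOf_dvd_natCard (ψ y)) hrA
  exact not_mem h hp2 hk hr hr2 hrp hy (fun V hV hVr _ => RadInv.not_solvable h hAc hr hb hs hsr he w hw hW hV hVr)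
    (RadInv.mem_of_odd h (hψk y h1) (hr.odd_of_ne_two hr2) hyr)

/-! ### `p = 5`, `r = 7` -/

omit [Finite D] in
theorem pow_half {v y : D} {n : ℕ} (hn : Odd n) (hv : v ^ n = 1) (h : y * v ^ 2 = v ^ 2 * y) : y * v = v * y := by
  obtain ⟨m, rfl⟩ := hn
  have h1 : v = (v ^ 2) ^ (m + 1) := by
    rw [← pow_mul, show 2 * (m + 1) = 2 * m + 1 + 1 by ring, pow_succ, hv, one_mul]
  have h2 : Commute y (v ^ 2) := h
  rw [h1]
  exact (h2.pow_right (m + 1)).eq

/-- `C_D(V)` is not solvable, `V` a normal 7-subgroup -/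
theorem not_solvable_seven {z x : D} {N : Subgroup D} {f : ↥(centralizer ({z} : Set D)) →* A} (h : Rad 5 z x N f)
    (hAc : ¬ Group.IsSolvable A) {t : ↥(centralizer ({z} : Set D))} (htt : (t : D) * t = 1)
    (h5 : 5 ∣ Nat.card ↥(centralizer ({f t} : Set A))) (hc1 : ¬ 7 ^ 3 ∣ Nat.card ↥(centralizer ({(t : D)} : Set D)))
    (hc2 : ¬ 7 ^ 3 ∣ Nat.card ↥(centralizer ({(t : D) * z} : Set D))) {V : Subgroup D} (hV : V.Normal)
    (hVr : IsPGroup 7 ↥V) (hz : ∀ v ∈ V, z * v * z⁻¹ = v⁻¹) : ¬ Group.IsSolvable ↥(centralizer (V : Set D)) := by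
  have hF5 : Fact (Nat.Prime 5) := ⟨Nat.prime_five⟩
  have hF7 : Fact (Nat.Prime 7) := ⟨by norm_num⟩
  obtain ⟨ψ, hψ, hψf, -, hψk⟩ := RadInv.exists_map h hAc
  have hfA : Finite A := Finite.of_surjective ψ hψ
  have htz : (t : D) * z = z * t := mem_centralizer_singleton_iff.1 t.2
  -- an element of order 5 of `C_A(f t)` and its lift
  obtain ⟨a, ha⟩ := exists_prime_orderOf_dvd_card' 5 h5
  obtain ⟨y₀, hy₀⟩ := h.surj (a : A)
  have hao : orderOf (f y₀) = 5 := by rw [hy₀, Subgroup.orderOf_coe, ha]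
  have hat : f y₀ * f t = f t * f y₀ := by
    rw [hy₀]
    exact mem_centralizer_singleton_iff.1 a.2
  obtain ⟨e, m, hm, hem⟩ := Nat.exists_eq_pow_mul_and_not_dvd (orderOf_pos y₀).ne' 5 (by norm_num)
  set y := y₀ ^ m with hy
  have hye : y ^ 5 ^ e = 1 := by
    rw [hy, ← pow_mul, mul_comm, ← hem, pow_orderOf_eq_one]
  have hfy : f y ≠ 1 := by
    intro h1
    rw [hy, map_pow] at h1
    exact hm (hao ▸ orderOf_dvd_of_pow_eq_one h1)
  have hyt0 : f y * f t = f t * f y := by
    rw [hy, map_pow]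
    exact ((show Commute (f y₀) (f t) from hat).pow_left m).eq
  have hyz : (y : D) * z = z * y := mem_centralizer_singleton_iff.1 y.2
  -- `y` commutes with `t`
  have hyt : (y : D) * t = t * y := by
    have hc : f (y * t * y⁻¹ * t⁻¹) = 1 := by
      rw [map_mul, map_mul, map_mul, map_inv, map_inv, hyt0]
      group
    set c := y * t * y⁻¹ * t⁻¹ with hcd
    have hcc := h.ker_central hc
    have hyty : y * t * y⁻¹ = c * t := by rw [hcd]; group
    have htt' : t * t = 1 := Subtype.ext htt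
    have hc2' : c * c = 1 := by
      have h1 : (c * t) * (c * t) = 1 := by
        rw [← hyty]
        calc y * t * y⁻¹ * (y * t * y⁻¹) = y * (t * t) * y⁻¹ := by group
          _ = 1 := by rw [htt']; group
      calc c * c = c * c * (t * t) := by rw [htt', mul_one]
        _ = c * (c * t) * t := by group
        _ = c * (t * c) * t := by rw [hcc t]
        _ = (c * t) * (c * t) := by group
        _ = 1 := h1
    -- `y ^ 2` commutes with `t`
    have h2 : y * y * t * (y * y)⁻¹ = t := by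
      calc y * y * t * (y * y)⁻¹ = y * (y * t * y⁻¹) * y⁻¹ := by group
        _ = y * (c * t) * y⁻¹ := by rw [hyty]
        _ = (y * c) * t * y⁻¹ := by group
        _ = (c * y) * t * y⁻¹ := by rw [hcc y]
        _ = c * (y * t * y⁻¹) := by group
        _ = c * c * t := by rw [hyty]; group
        _ = t := by rw [hc2', one_mul]
    have h3 : t * y ^ 2 = y ^ 2 * t := by
      rw [pow_two]
      exact (mul_inv_eq_iff_eq_mul.1 h2).symm
    have h4 := pow_half (n := 5 ^ e) ((by decide : Odd 5).pow) hye h3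
    exact (congrArg Subtype.val h4).symm
  -- `y` centralizes `C_V(t)` and `C_V(t z)`
  have hyD : (y : D) ^ 5 ^ e = 1 := congrArg Subtype.val hye
  have key : ∀ s : D, (y : D) * s = s * y → ¬ 7 ^ 3 ∣ Nat.card ↥(centralizer ({s} : Set D)) →
      ∀ v ∈ V, v * s = s * v → (y : D) * v = v * y := by
    intro s hys hs v hv hvs
    have hle : V ⊓ centralizer ({s} : Set D) ≤ V := inf_le_left
    have hW : IsPGroup 7 ↥(V ⊓ centralizer ({s} : Set D) : Subgroup D) := hVr.to_le hle
    obtain ⟨j, hj⟩ := hW.exists_card_eq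
    have hj2 : j ≤ 2 := by
      by_contra hlt
      apply hs
      refine (pow_dvd_pow 7 (by omega : 3 ≤ j)).trans ?_
      rw [← hj]
      exact card_dvd_of_le inf_le_right
    have h1 := H794.MonSec.acts_trivially_pow (p := 7) (q := 5) (m := 2) (by norm_num) (by decide) hW
      (by rw [hj]; exact pow_dvd_pow 7 hj2) (u := (y : D)) (f := e) hyD (fun g hg => by
        refine mem_inf.2 ⟨hV.conj_mem g hg.1 y, mem_centralizer_singleton_iff.2 ?_⟩
        have h2 := mem_centralizer_singleton_iff.1 hg.2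
        have h3 : (y : D)⁻¹ * s = s * (y : D)⁻¹ := by
          rw [eq_mul_inv_iff_mul_eq, mul_assoc, ← hys, inv_mul_cancel_left]
        calc (y : D) * g * (y : D)⁻¹ * s = y * g * ((y : D)⁻¹ * s) := by group
          _ = y * (g * s) * (y : D)⁻¹ := by rw [h3]; group
          _ = (y * s) * g * (y : D)⁻¹ := by rw [h2]; group
          _ = s * (y * g * (y : D)⁻¹) := by rw [hys]; group) v ⟨hv, mem_centralizer_singleton_iff.2 hvs⟩
    exact mul_inv_eq_iff_eq_mul.1 h1
  have hzz : z * z = 1 := h.zz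
  have hVc : ∀ v ∈ V, ∀ w ∈ V, v * w = w * v := by
    intro v hv w hw
    have h1 := hz _ (V.mul_mem hv hw)
    have h2 : z * (v * w) * z⁻¹ = (z * v * z⁻¹) * (z * w * z⁻¹) := by group
    rw [h2, hz v hv, hz w hw, mul_inv_rev] at h1
    have h3 := congrArg (·⁻¹) h1
    simp only [mul_inv_rev, inv_inv] at h3
    exact h3.symm
  have hyV : (y : D) ∈ centralizer (V : Set D) := by
    rw [mem_centralizer_iff]
    intro v hv
    have hw : (t : D) * v * (t : D)⁻¹ ∈ V := hV.conj_mem v hv t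
    set w := (t : D) * v * (t : D)⁻¹ with hwd
    have hti : (t : D)⁻¹ = t := inv_eq_of_mul_eq_one_left htt
    have htw : (t : D) * w * (t : D)⁻¹ = v := by
      rw [hwd]
      calc (t : D) * (t * v * (t : D)⁻¹) * (t : D)⁻¹ = (t * t) * v * ((t : D) * t)⁻¹ := by group
        _ = v := by rw [htt]; group
    have h1 : (y : D) * (v * w) = (v * w) * y := by
      refine key t hyt hc1 _ (V.mul_mem hv hw) ?_
      have h2 : (t : D) * (v * w) * (t : D)⁻¹ = v * w := by
        calc (t : D) * (v * w) * (t : D)⁻¹ = (t * v * (t : D)⁻¹) * (t * w * (t : D)⁻¹) := by group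
          _ = w * v := by rw [htw]
          _ = v * w := hVc w hw v hv
      exact (mul_inv_eq_iff_eq_mul.1 h2).symm
    have h2 : (y : D) * (v * w⁻¹) = (v * w⁻¹) * y := by
      refine key (t * z) ?_ hc2 _ (V.mul_mem hv (V.inv_mem hw)) ?_
      · calc (y : D) * (t * z) = (y * t) * z := by group
          _ = t * (y * z) := by rw [hyt]; group
          _ = t * z * y := by rw [hyz]; group
      · have h3 := hz _ (V.mul_mem hv (V.inv_mem hw))
        have h4 : ((t : D) * z) * (v * w⁻¹) * ((t : D) * z)⁻¹ = v * w⁻¹ := by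
          calc ((t : D) * z) * (v * w⁻¹) * ((t : D) * z)⁻¹ = t * (z * (v * w⁻¹) * z⁻¹) * (t : D)⁻¹ := by group
            _ = (t * w * (t : D)⁻¹) * (t * v * (t : D)⁻¹)⁻¹ := by rw [h3]; group
            _ = v * w⁻¹ := by rw [htw]
        exact (mul_inv_eq_iff_eq_mul.1 h4).symm
    have h3 : v ^ 2 = (v * w) * (v * w⁻¹) := by
      calc v ^ 2 = v * v * (w * w⁻¹) := by rw [mul_inv_cancel, mul_one, pow_two]
        _ = v * (v * w) * w⁻¹ := by group
        _ = v * (w * v) * w⁻¹ := by rw [hVc v hv w hw]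
        _ = _ := by group
    have h4 : (y : D) * v ^ 2 = v ^ 2 * y := by
      rw [h3]
      exact ((show Commute (y : D) (v * w) from h1).mul_right h2).eq
    obtain ⟨j, hj⟩ := hVr ⟨v, hv⟩
    exact (pow_half (n := 7 ^ j) ((by decide : Odd 7).pow) (congrArg Subtype.val hj) h4).symm
  -- the image of `C_D(V)` is not trivial
  intro hsol
  have hCn : (centralizer (V : Set D)).Normal := inferInstance
  have h1 : (centralizer (V : Set D)).map ψ = ⊥ := by
    rcases (hCn.map ψ hψ).eq_bot_or_eq_top with h2 | h2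
    · exact h2
    · exfalso
      apply hAc
      have h3 : Group.IsSolvable ↥((centralizer (V : Set D)).map ψ) :=
        Group.isSolvable_of_surjective (ψ.subgroupMap_surjective _)
      rw [h2] at h3
      exact Group.isSolvable_of_surjective (f := (Subgroup.topEquiv (G := A)).toMonoidHom) (Subgroup.topEquiv (G := A)).surjective
  have h2 : ψ (y : D) ∈ (centralizer (V : Set D)).map ψ := mem_map_of_mem ψ hyV
  rw [h1, mem_bot, hψf] at h2
  exact hfy h2

/-- **no element of order 7 commutes with the involution `t`** -/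
theorem no_seven {z x : D} {N : Subgroup D} {f : ↥(centralizer ({z} : Set D)) →* A} (h : Rad 5 z x N f)
    (hAc : ¬ Group.IsSolvable A) {k : ↥(centralizer ({z} : Set D))} (hk : (k : D) * k = z)
    (hinv : ∀ a : A, a * a = 1 → a ≠ 1 → 5 ∣ Nat.card ↥(centralizer ({a} : Set A)) ∧
      ¬ 7 ∣ Nat.card ↥(centralizer ({a} : Set A)))
    (hc : ∀ s : D, s * s = 1 → s ≠ 1 → ¬ 7 ^ 3 ∣ Nat.card ↥(centralizer ({s} : Set D))) {t : D} (htt : t * t = 1)
    (ht1 : t ≠ 1) (hnt : ∀ g : D, g * t * g⁻¹ ≠ z) {y : D} (hy : orderOf y = 7) (hyt : y * t = t * y) : False := by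
  have hF5 : Fact (Nat.Prime 5) := ⟨Nat.prime_five⟩
  have hF7 : Fact (Nat.Prime 7) := ⟨by norm_num⟩
  obtain ⟨ψ, hψ, hψf, -, hψk⟩ := RadInv.exists_map h hAc
  have hfA : Finite A := Finite.of_surjective ψ hψ
  obtain ⟨g, hg⟩ := BpSpor.B5.exists_comm h htt
  set t' := g⁻¹ * t * g with ht'
  set y' := g⁻¹ * y * g with hy'
  have htz : t' * z = z * t' := by
    calc t' * z = g⁻¹ * (t * (g * z * g⁻¹)) * g := by rw [ht']; group
      _ = g⁻¹ * ((g * z * g⁻¹) * t) * g := by rw [hg]
      _ = z * t' := by rw [ht']; group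
  have htt' : t' * t' = 1 := by
    calc t' * t' = g⁻¹ * (t * t) * g := by rw [ht']; group
      _ = 1 := by rw [htt]; group
  have ht1' : t' ≠ 1 := by
    intro h1
    apply ht1
    calc t = g * t' * g⁻¹ := by rw [ht']; group
      _ = 1 := by rw [h1]; group
  have htz' : t' ≠ z := by
    intro h1
    apply hnt g⁻¹
    rw [inv_inv]
    exact h1
  have hyt' : y' * t' = t' * y' := by
    calc y' * t' = g⁻¹ * (y * t) * g := by rw [hy', ht']; group
      _ = g⁻¹ * (t * y) * g := by rw [hyt]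
      _ = t' * y' := by rw [hy', ht']; group
  have hyo : orderOf y' = 7 := by
    rw [← hy, hy']
    have h1 := MulEquiv.orderOf_eq (MulAut.conj g⁻¹) y
    rw [MulAut.conj_apply, inv_inv] at h1
    exact h1
  let τ : ↥(centralizer ({z} : Set D)) := ⟨t', mem_centralizer_singleton_iff.2 htz⟩
  have hfτ : f τ ≠ 1 := by
    intro h1
    have hzc : ∀ i : ℤ, z * x ^ i = x ^ i * z := fun i => h.xzc i z
    obtain ⟨i, hi | hi⟩ := h.ker τ h1
    · have hi' : t' = x ^ i := hi
      rw [hi'] at htt' ht1'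
      exact ht1' (h.sq_one (by norm_num) htt')
    · have hi' : t' = x ^ i * z := hi
      have h2 : x ^ i * x ^ i = 1 := by
        calc x ^ i * x ^ i = x ^ i * x ^ i * (z * z) := by rw [h.zz, mul_one]
          _ = x ^ i * (x ^ i * z) * z := by group
          _ = x ^ i * (z * x ^ i) * z := by rw [hzc]
          _ = (x ^ i * z) * (x ^ i * z) := by group
          _ = 1 := by rw [← hi', htt']
      rw [h.sq_one (by norm_num) h2, one_mul] at hi'
      exact htz' hi'
  have hfτ2 : f τ * f τ = 1 := by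
    rw [← map_mul, show τ * τ = 1 from Subtype.ext htt', map_one]
  obtain ⟨h5, h7⟩ := hinv (f τ) hfτ2 hfτ
  have hy7 : y' ^ 7 = 1 := by rw [← hyo, pow_orderOf_eq_one]
  -- the image of `y'` is trivial
  have hψy : ψ y' = 1 := by
    by_contra h1
    have h2 : orderOf (ψ y') = 7 := orderOf_eq_prime (by rw [← map_pow, hy7, map_one]) h1
    apply h7
    have h3 : ψ y' ∈ centralizer ({f τ} : Set A) := by
      rw [mem_centralizer_singleton_iff, ← hψf τ]
      show ψ y' * ψ t' = ψ t' * ψ y'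
      rw [← map_mul, ← map_mul, hyt']
    have h4 := orderOf_dvd_natCard (⟨ψ y', h3⟩ : ↥(centralizer ({f τ} : Set A)))
    rwa [Subgroup.orderOf_mk, h2] at h4
  have htz1 : t' * z ≠ 1 := by
    intro h1
    apply htz'
    calc t' = t' * (z * z) := by rw [h.zz, mul_one]
      _ = (t' * z) * z := by group
      _ = z := by rw [h1, one_mul]
  have htz2 : t' * z * (t' * z) = 1 := by
    calc t' * z * (t' * z) = t' * (z * t') * z := by group
      _ = t' * (t' * z) * z := by rw [htz]
      _ = (t' * t') * (z * z) := by group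
      _ = 1 := by rw [htt', h.zz, one_mul]
  exact not_mem h (by norm_num) hk (by norm_num) (by norm_num) (by norm_num) hyo
    (fun V hV hVr hzV => not_solvable_seven h hAc (t := τ) htt' h5 (hc _ htt' ht1') (hc _ htz2 htz1) hV hVr hzV)
    (RadInv.mem_of_odd h (hψk y' hψy) (by decide : Odd 7) hy7)

end Cfsg.Agent.H553.BFiveRad
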