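import Cfsg.Agent.H553.BFiveFin
import Cfsg.Agent.H171.Odd.Cert

/-!
# The row `B` of S4350 (helper553)
-/

set_option autoImplicit false

namespace Cfsg.Agent.H553.BRow

open Cfsg Cfsg.Agent.H171.Odd Cfsg.Agent.H573.Hall Cfsg.Agent.H553.OddHall

universe u

/-- the row `B`, from `Inv1 3 r` -/
theorem oddC_b_of (h3 : ∀ r : ℕ, r ∈ [5, 7, 11, 13, 23, 31] → Inv1 3 r Cfsg.Spor.BabyMonster)
    {G : Type u} [Group G] [Finite G] [IsSimpleGroup G] (hna : ¬ IsMulCommutative G) (hind : OddInd G)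
    (h : Cfsg.Spor.IsoB G) : OddC G := by
  obtain ⟨e⟩ := h
  have h3' : ∀ r : ℕ, r ∈ [5, 7, 11, 13, 23, 31] → Inv1 3 r G := fun r hr => Inv1.congr e (h3 r hr)
  have h5' : ∀ r : ℕ, (r = 7 ∨ r = 11 ∨ r = 13 ∨ r = 31) → Inv1 5 r G := fun r hr =>
    Inv1.congr e (BFiveInv.inv_b hr)
  refine oddC_of_cert hna hind ((Nat.card_congr e.toEquiv).trans Cfsg.Agent.H573.Spor.card_baby)
    (L := [(3, 13), (5, 6), (7, 2), (11, 1), (13, 1), (17, 1), (19, 1), (23, 1), (31, 1), (47, 1)])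
    (T := [(3, 5), (3, 7), (3, 11), (3, 13), (3, 23), (3, 31), (5, 7), (5, 11), (5, 13), (5, 31)]) ?_ ?_
    (by decide +kernel)
  · simp; norm_num
  · simp only [List.mem_cons, List.not_mem_nil, or_false]
    rintro x (rfl | rfl | rfl | rfl | rfl | rfl | rfl | rfl | rfl | rfl)
    exacts [h3' 5 (by simp), h3' 7 (by simp), h3' 11 (by simp), h3' 13 (by simp), h3' 23 (by simp), h3' 31 (by simp),
      h5' 7 (by simp), h5' 11 (by simp), h5' 13 (by simp), h5' 31 (by simp)]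

end Cfsg.Agent.H553.BRow
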