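import Mathlib
import Cfsg.Agent.S0752
import Cfsg.Agent.LieClassical.SympCount
import Cfsg.Agent.H553.SubB

/-!
# Finite groups acting on symplectic spaces over the prime field

* `SR p W S`: a faithful irreducible symplectic representation of `S` on `W` over `ZMod p`.
* `SR.exists_embedding`: embedding in `Matrix.symplecticGroup`.
-/

set_option autoImplicit false

namespace Cfsg.Agent.H553.Sy

open Module SB

universe u

/-- A faithful irreducible symplectic representation over the prime field. -/
structure SR (p : ℕ) [Fact p.Prime] (W : Type u) [AddCommGroup W] [Module (ZMod p) W]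
    (S : Type u) [Group S] where
  ρ : S →* Module.End (ZMod p) W
  inj : Function.Injective ρ
  B : LinearMap.BilinForm (ZMod p) W
  alt : ∀ v, B v v = 0
  nd : ∀ v, (∀ w, B v w = 0) → v = 0
  inv : ∀ s v w, B (ρ s v) (ρ s w) = B v w
  irr : ∀ U : Submodule (ZMod p) W, (∀ s, ∀ u ∈ U, ρ s u ∈ U) → U = ⊥ ∨ U = ⊤

variable {p : ℕ} [Fact p.Prime] {W : Type u} [AddCommGroup W] [Module (ZMod p) W] [Finite W]

/-- A symplectic basis in the convention of `Matrix.J`. -/
theorem exists_basis (B : LinearMap.BilinForm (ZMod p) W) (alt : ∀ v, B v v = 0)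
    (nd : ∀ v, (∀ w, B v w = 0) → v = 0) :
    ∃ (n : ℕ) (c : Basis (Fin n ⊕ Fin n) (ZMod p) W),
      LinearMap.BilinForm.toMatrix c B = Matrix.J (Fin n) (ZMod p) := by
  classical
  have : FiniteDimensional (ZMod p) W := Module.Finite.of_finite
  obtain ⟨m, k, b, h1, h2, h3, h4⟩ := S0752.result B alt
  have hk : IsEmpty (Fin k) := by
    constructor
    intro j
    exact b.ne_zero (Sum.inr j) (nd _ (h4 j))
  have hsw : ∀ v w, B v w = - B w v := by
    intro v w
    have := alt (v + w)
    simp only [map_add, LinearMap.add_apply, alt, zero_add, add_zero] at this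
    exact eq_neg_of_add_eq_zero_right this
  refine ⟨m, b.reindex ((Equiv.sumEmpty _ _).trans (Equiv.sumComm _ _)), ?_⟩
  ext i j
  rw [LinearMap.BilinForm.toMatrix_apply, Basis.reindex_apply, Basis.reindex_apply]
  rcases i with i | i <;> rcases j with j | j
  · simp only [Matrix.J, Matrix.fromBlocks_apply₁₁, Matrix.zero_apply]
    exact h3 i j
  · simp only [Matrix.J, Matrix.fromBlocks_apply₁₂, Matrix.neg_apply, Matrix.one_apply]
    change B (b (Sum.inl (Sum.inr i))) (b (Sum.inl (Sum.inl j))) = _
    rw [hsw, h1]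
    simp [eq_comm]
  · simp only [Matrix.J, Matrix.fromBlocks_apply₂₁, Matrix.one_apply]
    exact h1 i j
  · simp only [Matrix.J, Matrix.fromBlocks_apply₂₂, Matrix.zero_apply]
    exact h2 i j

theorem exists_embedding {S : Type*} [Group S] (ρ : S →* Module.End (ZMod p) W)
    (hρ : Function.Injective ρ) (B : LinearMap.BilinForm (ZMod p) W) (alt : ∀ v, B v v = 0)
    (nd : ∀ v, (∀ w, B v w = 0) → v = 0) (inv : ∀ s v w, B (ρ s v) (ρ s w) = B v w) :
    ∃ n : ℕ, Nat.card W = p ^ (2 * n) ∧
      ∃ f : S →* Matrix.symplecticGroup (Fin n) (ZMod p), Function.Injective f := by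
  classical
  obtain ⟨n, c, hc⟩ := exists_basis B alt nd
  refine ⟨n, ?_, ?_⟩
  · rw [Nat.card_congr c.equivFun.toEquiv]
    simp [two_mul]
  · have hmem : ∀ s, LinearMap.toMatrix c c (ρ s) ∈ Matrix.symplecticGroup (Fin n) (ZMod p) := by
      intro s
      rw [SymplecticGroup.mem_iff']
      have h1 : B.comp (ρ s) (ρ s) = B := by
        ext v w
        exact inv s v w
      have h2 := LinearMap.BilinForm.toMatrix_comp c c B (ρ s) (ρ s)
      rw [h1, hc] at h2
      exact h2.symm
    let g : S →* Matrix (Fin n ⊕ Fin n) (Fin n ⊕ Fin n) (ZMod p) :=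
      (LinearMap.toMatrixAlgEquiv c).toAlgHom.toRingHom.toMonoidHom.comp ρ
    have hg : Function.Injective g :=
      (LinearMap.toMatrixAlgEquiv c).injective.comp hρ
    refine ⟨g.codRestrict _ hmem, ?_⟩
    intro s t hst
    exact hg (congrArg Subtype.val hst)

end Cfsg.Agent.H553.Sy
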