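import Mathlib
import Cfsg.Agent.H553.Symp
import Cfsg.Agent.H553.FiveEight

/-!
# Symplectic representations: the numerical cases and dimension 2

* `card_sp_le`, `num_gen`: `|Sp_{2n}(p)| ≤ p ^ (2n² + n) ≤ 3 ^ (p ^ n - 1)` in most cases.
* `bound_one`: dimension 2.
-/

set_option autoImplicit false

namespace Cfsg.Agent.H553.Sy

open Module SB Subgroup

theorem cube_le (p : ℕ) : p ^ 3 ≤ 3 ^ p := by
  have h : ∀ k : ℕ, (k + 3) ^ 3 ≤ 3 ^ (k + 3) := by
    intro k
    induction k with
    | zero => norm_num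
    | succ k ih =>
      have h1 : (k + 1 + 3) ^ 3 ≤ 3 * (k + 3) ^ 3 := by ring_nf; nlinarith [sq_nonneg k]
      calc (k + 1 + 3) ^ 3 ≤ 3 * (k + 3) ^ 3 := h1
        _ ≤ 3 * 3 ^ (k + 3) := Nat.mul_le_mul_left _ ih
        _ = 3 ^ (k + 1 + 3) := by ring
  rcases Nat.lt_or_ge p 3 with h3 | h3
  · interval_cases p <;> norm_num
  · obtain ⟨k, rfl⟩ := Nat.exists_eq_add_of_le' h3
    exact h k

theorem lin_le (p n : ℕ) (h : (n = 2 ∧ 5 ≤ p) ∨ (3 ≤ n ∧ 3 ≤ p) ∨ (6 ≤ n ∧ 2 ≤ p)) :
    p * (2 * n ^ 2 + n) + 3 ≤ 3 * p ^ n := by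
  have hstep : ∀ m : ℕ, 3 ≤ m → 2 ≤ p → p * (2 * m ^ 2 + m) + 3 ≤ 3 * p ^ m →
      p * (2 * (m + 1) ^ 2 + (m + 1)) + 3 ≤ 3 * p ^ (m + 1) := by
    intro m hm hp hi
    have h1 : 2 * (m + 1) ^ 2 + (m + 1) ≤ p * (2 * m ^ 2 + m) := by nlinarith
    calc p * (2 * (m + 1) ^ 2 + (m + 1)) + 3 ≤ p * (p * (2 * m ^ 2 + m)) + p * 3 :=
          Nat.add_le_add (Nat.mul_le_mul_left _ h1) (by omega)
      _ = p * (p * (2 * m ^ 2 + m) + 3) := by ring
      _ ≤ p * (3 * p ^ m) := Nat.mul_le_mul_left _ hi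
      _ = 3 * p ^ (m + 1) := by ring
  rcases h with ⟨rfl, h⟩ | ⟨h1, h2⟩ | ⟨h1, h2⟩
  · nlinarith
  · induction n, h1 using Nat.le_induction with
    | base => nlinarith [Nat.pow_le_pow_left h2 2, Nat.pow_le_pow_left h2 3, mul_le_mul h2 (Nat.pow_le_pow_left h2 2) (by positivity) (by positivity)]
    | succ m hm ih => exact hstep m hm (by omega) ih
  · induction n, h1 using Nat.le_induction with
    | base =>
      have h3 : 2 ^ 5 ≤ p ^ 5 := Nat.pow_le_pow_left h2 5
      have h4 : p ^ 6 = p * p ^ 5 := by ring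
      rw [h4]
      nlinarith
    | succ m hm ih => exact hstep m (by omega) (by omega) ih

theorem num_gen (p n : ℕ) (h : (n = 2 ∧ 5 ≤ p) ∨ (3 ≤ n ∧ 3 ≤ p) ∨ (6 ≤ n ∧ 2 ≤ p)) :
    p ^ (2 * n ^ 2 + n) ≤ 3 ^ (p ^ n - 1) := by
  have h1 := lin_le p n h
  refine (Nat.pow_le_pow_iff_left (n := 3) (by norm_num)).mp ?_
  calc (p ^ (2 * n ^ 2 + n)) ^ 3 = (p ^ 3) ^ (2 * n ^ 2 + n) := by ring
    _ ≤ (3 ^ p) ^ (2 * n ^ 2 + n) := Nat.pow_le_pow_left (cube_le p) _
    _ = 3 ^ (p * (2 * n ^ 2 + n)) := (pow_mul _ _ _).symm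
    _ ≤ 3 ^ (3 * (p ^ n - 1)) := Nat.pow_le_pow_right (by norm_num) (by omega)
    _ = (3 ^ (p ^ n - 1)) ^ 3 := by rw [← pow_mul]; ring_nf

theorem card_sp_le (p n : ℕ) [Fact p.Prime] :
    Nat.card (Matrix.symplecticGroup (Fin n) (ZMod p)) ≤ p ^ (2 * n ^ 2 + n) := by
  rw [LieClassical.SympCount.card_symplecticGroup, ZMod.card]
  calc p ^ n ^ 2 * ∏ i ∈ Finset.range n, (p ^ (2 * (i + 1)) - 1)
      ≤ p ^ n ^ 2 * ∏ i ∈ Finset.range n, p ^ (2 * (i + 1)) :=
        Nat.mul_le_mul_left _ (Finset.prod_le_prod' fun i _ => Nat.sub_le _ _)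
    _ = p ^ (2 * n ^ 2 + n) := by
        rw [Finset.prod_pow_eq_pow_sum, ← pow_add]
        congr 1
        rw [← Finset.mul_sum, Finset.sum_add_distrib]
        simp only [Finset.sum_const, Finset.card_range, smul_eq_mul, mul_one]
        have h2 := Finset.sum_range_id_mul_two n
        cases n with
        | zero => simp
        | succ m =>
          simp only [Nat.add_sub_cancel] at h2
          nlinarith

/-- `k(Y) |Y|` is the number of commuting pairs. -/
theorem comm_sum (Y : Type*) [Group Y] [Fintype Y] :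
    Nat.card (ConjClasses Y) * Nat.card Y = ∑ x : Y, Nat.card (centralizer ({x} : Set Y)) := by
  classical
  rw [← card_comm_eq_card_conjClasses_mul_card Y, ← Nat.card_sigma]
  refine Nat.card_congr ⟨fun p => ⟨p.1.1, ⟨p.1.2, ?_⟩⟩, fun q => ⟨(q.1, q.2.1), ?_⟩, ?_, ?_⟩
  · rw [mem_centralizer_singleton_iff]
    exact p.2.symm
  · have := q.2.2
    rw [mem_centralizer_singleton_iff] at this
    exact (show Commute q.2.1 q.1 from this).symm
  · intro p
    rfl
  · intro q
    rfl

/-- Few elements with a large centralizer. -/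
theorem card_conj_lt {Y : Type*} [Group Y] [Finite Y] (P : Y → Prop) (h1 : P 1) (c d : ℕ)
    (hd : 0 < d) (hc : Nat.card {y // P y} ≤ c)
    (hC : ∀ y, ¬ P y → Nat.card (centralizer ({y} : Set Y)) ≤ d) :
    Nat.card (ConjClasses Y) < c + d := by
  classical
  have := Fintype.ofFinite Y
  have hs := comm_sum Y
  have hpos : 0 < Nat.card Y := Nat.card_pos
  have h2 : ∑ x : Y, Nat.card (centralizer ({x} : Set Y)) ≤
      ∑ x : Y, ((if P x then Nat.card Y else 0) + (if x = 1 then 0 else d)) := by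
    refine Finset.sum_le_sum fun x _ => ?_
    by_cases hx : P x
    · rw [if_pos hx]
      exact (Subgroup.card_le_card_group _).trans (Nat.le_add_right _ _)
    · have hx1 : x ≠ 1 := fun h => hx (h ▸ h1)
      rw [if_neg hx, if_neg hx1, zero_add]
      exact hC x hx
  rw [Finset.sum_add_distrib] at h2
  have h3 : ∑ x : Y, (if P x then Nat.card Y else 0) ≤ c * Nat.card Y := by
    rw [← Finset.sum_filter, Finset.sum_const, smul_eq_mul]
    refine Nat.mul_le_mul_right _ ?_
    rw [← Fintype.card_subtype, ← Nat.card_eq_fintype_card]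
    exact hc
  have h4 : ∑ x : Y, (if x = 1 then 0 else d) < d * Nat.card Y := by
    have h5 : ∑ x : Y, (if x = 1 then 0 else d) < ∑ _x : Y, d := by
      refine Finset.sum_lt_sum (fun x _ => ?_) ⟨1, Finset.mem_univ _, ?_⟩
      · split_ifs <;> omega
      · rw [if_pos rfl]
        exact hd
    rw [Finset.sum_const, smul_eq_mul, Finset.card_univ, ← Nat.card_eq_fintype_card] at h5
    rwa [mul_comm] at h5
  have h6 : Nat.card (ConjClasses Y) * Nat.card Y < (c + d) * Nat.card Y := by
    rw [hs, add_mul]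
    omega
  exact lt_of_mul_lt_mul_right h6 (Nat.zero_le _)

/-- An upper bound for the centralizer of a set of operators with few generators. -/
theorem card_le_of_gen {K W S ι : Type*} [Field K] [AddCommGroup W] [Module K W] [Finite W]
    [Group S] [Finite ι] (ρ : S →* Module.End K W) (hρ : Function.Injective ρ)
    (C : Subgroup S) (X : Set S) (comm : ∀ c ∈ C, ∀ x ∈ X, c * x = x * c) (t : ι → W)
    (hgen : ∀ U : Submodule K W, (∀ x ∈ X, ∀ u ∈ U, ρ x u ∈ U) → (∀ i, t i ∈ U) → U = ⊤)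
    (T : ι → Set W) (hT : ∀ i, ∀ c ∈ C, ρ c (t i) ∈ T i) :
    Nat.card C ≤ Nat.card (∀ i, T i) := by
  let f : C → ∀ i, T i := fun c i => ⟨ρ c (t i), hT i c c.2⟩
  have hf : Function.Injective f := by
    intro c d hcd
    apply Subtype.ext
    apply hρ
    have h1 : LinearMap.ker (ρ c - ρ d) = ⊤ := by
      refine hgen _ ?_ ?_
      · intro x hx u hu
        rw [LinearMap.mem_ker, LinearMap.sub_apply, sub_eq_zero] at hu ⊢
        rw [← Module.End.mul_apply, ← Module.End.mul_apply, ← map_mul, ← map_mul,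
          comm c c.2 x hx, comm d d.2 x hx, map_mul, map_mul, Module.End.mul_apply,
          Module.End.mul_apply, hu]
      · intro i
        rw [LinearMap.mem_ker, LinearMap.sub_apply, sub_eq_zero]
        exact congrArg (fun g : ∀ i, T i => ((g i : T i) : W)) hcd
    rw [LinearMap.ker_eq_top, sub_eq_zero] at h1
    exact h1
  exact Nat.card_le_card_of_injective f hf

theorem neg_one_zmod_two : (-1 : ZMod 2) = 1 := by decide

theorem sq_le (p : ℕ) (h3 : 3 ≤ p) : p ^ 2 ≤ 3 ^ (p - 1) := by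
  obtain ⟨k, rfl⟩ := Nat.exists_eq_add_of_le' h3
  change (k + 3) ^ 2 ≤ 3 ^ (k + 2)
  clear * -
  induction k with
  | zero => norm_num
  | succ k ih =>
    calc (k + 1 + 3) ^ 2 ≤ 3 * (k + 3) ^ 2 := by nlinarith [Nat.zero_le (k * k)]
      _ ≤ 3 * 3 ^ (k + 2) := Nat.mul_le_mul_left _ ih
      _ = 3 ^ (k + 1 + 2) := by ring

/-- Dimension 2. -/
theorem bound_one {p : ℕ} [Fact p.Prime] {W : Type*} [AddCommGroup W] [Module (ZMod p) W]
    [Finite W] {Y : Type*} [Group Y] [Finite Y] (hW : Nat.card W = p ^ 2)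
    (ρ : Y →* Module.End (ZMod p) W) (hρ : Function.Injective ρ)
    (B : LinearMap.BilinForm (ZMod p) W) (nd : ∀ v, (∀ w, B v w = 0) → v = 0)
    (inv : ∀ s v w, B (ρ s v) (ρ s w) = B v w) :
    Nat.card (ConjClasses Y) ≤ 3 ^ (p - 1) := by
  classical
  have hp : p.Prime := Fact.out
  have hfd : FiniteDimensional (ZMod p) W := Module.Finite.of_finite
  have hrk : finrank (ZMod p) W = 2 := by
    have h1 := Module.natCard_eq_pow_finrank (K := ZMod p) (V := W)
    rw [Nat.card_zmod, hW] at h1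
    exact (Nat.pow_right_injective hp.two_le h1).symm
  have hnt : Nontrivial W := Module.nontrivial_of_finrank_pos (R := ZMod p) (by omega)
  obtain ⟨v₀, hv₀⟩ := exists_ne (0 : W)
  have hB : ∃ w₀, B v₀ w₀ ≠ 0 := by
    by_contra h
    push Not at h
    exact hv₀ (nd _ h)
  obtain ⟨w₀, hw₀⟩ := hB
  let P : Y → Prop := fun y => ∃ a : ZMod p, ρ y = a • 1
  have hP1 : P 1 := ⟨1, by simp⟩
  have hsq : ∀ (y : Y) (a : ZMod p), ρ y = a • 1 → a = 1 ∨ a = -1 := by
    intro y a hy
    have h2 := inv y v₀ w₀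
    rw [hy] at h2
    simp only [LinearMap.smul_apply, Module.End.one_apply, map_smul, smul_eq_mul] at h2
    have h3 : (a * a - 1) * B v₀ w₀ = 0 := by linear_combination h2
    have h4 : a * a - 1 = 0 := (mul_eq_zero.mp h3).resolve_right hw₀
    have h5 : (a - 1) * (a + 1) = 0 := by linear_combination h4
    rcases mul_eq_zero.mp h5 with h5 | h5
    · exact Or.inl (sub_eq_zero.mp h5)
    · exact Or.inr (eq_neg_of_add_eq_zero_left h5)
  have hPcard : Nat.card {y // P y} ≤ if p = 2 then 1 else 2 := by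
    let g : {y // P y} → ({1, -1} : Finset (ZMod p)) := fun y =>
      ⟨y.2.choose, by
        rcases hsq y.1 _ y.2.choose_spec with h | h <;> rw [h] <;> simp⟩
    have hg : Function.Injective g := by
      intro y z hyz
      apply Subtype.ext
      apply hρ
      have h1 : y.2.choose = z.2.choose := congrArg Subtype.val hyz
      rw [y.2.choose_spec, z.2.choose_spec, h1]
    have h2 := Nat.card_le_card_of_injective g hg
    refine h2.trans ?_
    rw [Nat.card_eq_fintype_card, Fintype.card_coe]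
    split_ifs with h
    · subst h
      have h3 : (-1 : ZMod 2) = 1 := neg_one_zmod_two
      have h4 : ({1, -1} : Finset (ZMod 2)) ⊆ {1} := by
        intro x hx
        rcases Finset.mem_insert.mp hx with hx | hx
        · rw [hx]; exact Finset.mem_singleton_self _
        · rw [Finset.mem_singleton.mp hx, Finset.mem_singleton]
          exact h3
      exact (Finset.card_le_card h4).trans (by simp)
    · exact Finset.card_le_two
  have hC : ∀ y, ¬ P y → Nat.card (centralizer ({y} : Set Y)) ≤ p ^ 2 - 1 := by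
    intro y hy
    have h1 : ∃ v, LinearIndependent (ZMod p) ![v, ρ y v] := by
      by_contra h
      push Not at h
      exact hy (LinearMap.exists_eq_smul_id_of_forall_notLinearIndependent h)
    obtain ⟨v, hv⟩ := h1
    have hv0 : v ≠ 0 := hv.ne_zero 0
    have h2 := card_le_of_gen (ι := Unit) ρ hρ (centralizer ({y} : Set Y)) {y}
      (fun c hc x hx => by
        rw [Set.mem_singleton_iff] at hx
        rw [hx]
        exact (mem_centralizer_singleton_iff.mp hc))
      (fun _ => v) (fun U hU1 hU2 => by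
        have h3 : Submodule.span (ZMod p) (Set.range ![v, ρ y v]) = ⊤ :=
          hv.span_eq_top_of_card_eq_finrank (by simp [hrk])
        rw [eq_top_iff, ← h3, Submodule.span_le]
        rintro _ ⟨i, rfl⟩
        fin_cases i
        · exact hU2 ()
        · exact hU1 y rfl v (hU2 ()))
      (fun _ => {w : W | w ≠ 0}) (fun _ c _ h => hv0 (by
        have h4 : ρ c⁻¹ (ρ c v) = v := by
          rw [← Module.End.mul_apply, ← map_mul, inv_mul_cancel, map_one, Module.End.one_apply]
        rw [← h4, h, map_zero]))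
    refine h2.trans ?_
    have := Fintype.ofFinite W
    rw [Nat.card_pi, Finset.prod_const, Finset.card_univ, Fintype.card_unit, pow_one]
    rw [Nat.card_eq_fintype_card] at hW
    rw [← hW, Nat.card_eq_fintype_card]
    have h5 := Fintype.card_subtype_compl (fun w : W => w = 0)
    rw [Fintype.card_subtype_eq] at h5
    exact h5.le
  have hpos : 0 < p ^ 2 - 1 := by
    have := Nat.pow_le_pow_left hp.two_le 2
    omega
  have h := card_conj_lt P hP1 _ _ hpos hPcard hC
  split_ifs at h with h2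
  · subst h2
    norm_num at h ⊢
    omega
  · have h3 : 3 ≤ p := by have := hp.two_le; omega
    have h4 := sq_le p h3
    omega

end Cfsg.Agent.H553.Sy
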