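import Mathlib
import Cfsg.Agent.H553.SympNum
import Cfsg.Agent.H553.SolvPerm
import Cfsg.Agent.Lib.Cores
import Cfsg.Agent.S0043
import Cfsg.Agent.S0044
import Cfsg.Agent.SolvableStructure.MinimalNormal
import Cfsg.Agent.PLocal.SectionFrattini
import Cfsg.Agent.Lib.FrattiniPGroup
import Cfsg.Agent.Lib.ElemAbGL
import Cfsg.Agent.SigZeroU5.Symp

/-!
# Orders of solvable irreducible symplectic groups: tools
-/

set_option autoImplicit false

namespace Cfsg.Agent.H553.Sy

open Module SB Subgroup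

universe u

variable {p : ℕ} [Fact p.Prime] {W : Type u} [AddCommGroup W] [Module (ZMod p) W] [Finite W]
  {S : Type u} [Group S] [Finite S]

omit [Finite W] [Finite S] in
theorem SR.apply_mul (R : SR p W S) (s t : S) (w : W) : R.ρ (s * t) w = R.ρ s (R.ρ t w) := by
  rw [map_mul, Module.End.mul_apply]

omit [Finite W] [Finite S] in
theorem SR.apply_one (R : SR p W S) (w : W) : R.ρ 1 w = w := by
  rw [map_one, Module.End.one_apply]

/-- Non-trivial normal subgroups fix no non-zero vector. -/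
theorem SR.fix_eq_zero (R : SR p W S) (N : Subgroup S) (hNn : N.Normal) (hN : N ≠ ⊥) (w : W)
    (hw : ∀ x ∈ N, R.ρ x w = w) : w = 0 := by
  let U : Submodule (ZMod p) W :=
    { carrier := {w | ∀ x ∈ N, R.ρ x w = w}
      add_mem' := fun {a b} ha hb x hx => by rw [map_add, ha x hx, hb x hx]
      zero_mem' := fun x _ => map_zero _
      smul_mem' := fun c a ha x hx => by rw [map_smul, ha x hx] }
  have hU : ∀ s, ∀ u ∈ U, R.ρ s u ∈ U := by
    intro s u hu x hx
    rw [← R.apply_mul, show x * s = s * (s⁻¹ * x * s) by group, R.apply_mul]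
    congr 1
    exact hu _ (by simpa using hNn.conj_mem x hx s⁻¹)
  rcases R.irr U hU with h | h
  · have : w ∈ U := hw
    rw [h] at this
    exact this
  · exfalso
    apply hN
    rw [eq_bot_iff]
    intro x hx
    rw [mem_bot]
    apply R.inj
    rw [map_one]
    ext v
    have : v ∈ U := by rw [h]; trivial
    exact this x hx

/-- Invariant subspaces of a fixed point free `q`-group have order `1` modulo `q`. -/
theorem SR.card_modEq (R : SR p W S) {q : ℕ} [Fact q.Prime] (Q : Subgroup S)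
    (hQ : IsPGroup q Q) (hfix : ∀ w, (∀ x ∈ Q, R.ρ x w = w) → w = 0)
    (U : Submodule (ZMod p) W) (hU : ∀ x ∈ Q, ∀ u ∈ U, R.ρ x u ∈ U) :
    Nat.card U ≡ 1 [MOD q] := by
  let _ : MulAction Q U :=
    { smul := fun x u => ⟨R.ρ x u, hU x x.2 u u.2⟩
      one_smul := fun u => Subtype.ext (R.apply_one _)
      mul_smul := fun x y u => Subtype.ext (R.apply_mul _ _ _) }
  have h1 := hQ.card_modEq_card_fixedPoints U
  have h2 : Nat.card (MulAction.fixedPoints Q U) = 1 := by
    rw [Nat.card_eq_one_iff_unique]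
    refine ⟨⟨?_⟩, ⟨⟨0, fun x => Subtype.ext (map_zero _)⟩⟩⟩
    have key : ∀ a : MulAction.fixedPoints Q U, (a : U) = 0 := by
      intro a
      apply Subtype.ext
      apply hfix
      intro x hx
      exact congrArg Subtype.val (a.2 ⟨x, hx⟩)
    intro a b
    apply Subtype.ext
    rw [key a, key b]
  rwa [h2] at h1

theorem SR.dvd_of_pCore (R : SR p W S) {q : ℕ} [Fact q.Prime] (hq : pCore q S ≠ ⊥) :
    Nat.card W ≡ 1 [MOD q] := by
  have h := R.card_modEq (pCore q S) (Lib.Cores.pCore_isPGroup q)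
    (R.fix_eq_zero _ (Lib.Cores.pCore_normal q) hq) ⊤ (fun _ _ _ _ => trivial)
  rwa [Nat.card_congr (Submodule.topEquiv (R := ZMod p) (M := W)).toEquiv] at h

/-- The automorphism group of a group of order `q ^ d`. -/
theorem card_mulAut_le {N : Type*} [Group N] [Finite N] {q d : ℕ} (hq : q.Prime)
    (hN : Nat.card N = q ^ d) (hd : 0 < d) : Nat.card (MulAut N) ≤ (q ^ d - 1) ^ d := by
  classical
  obtain ⟨T, hT1, hT2, hT3⟩ := SolvPerm.exists_generators hq hN
  let f : MulAut N → (T → {n : N // n ≠ 1}) := fun α t => ⟨α t, fun h => hT3 (by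
    have h1 : (t : N) = 1 := (map_eq_one_iff α α.injective).mp h
    rw [← h1]; exact t.2)⟩
  have hf : Function.Injective f := by
    intro α β h
    have h1 : α.toMonoidHom.eqLocus β.toMonoidHom = ⊤ := by
      rw [eq_top_iff, ← hT1, closure_le]
      intro t ht
      exact congrArg Subtype.val (congrFun h ⟨t, ht⟩)
    ext x
    have h2 : x ∈ α.toMonoidHom.eqLocus β.toMonoidHom := by rw [h1]; trivial
    exact h2
  have := Fintype.ofFinite N
  have h3 := Nat.card_le_card_of_injective f hf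
  have h4 : Nat.card {n : N // n ≠ 1} = q ^ d - 1 := by
    rw [Nat.card_eq_fintype_card, Fintype.card_subtype_compl, Fintype.card_subtype_eq,
      ← Nat.card_eq_fintype_card, hN]
  rw [Nat.card_fun, h4, Nat.card_eq_fintype_card (α := T), Fintype.card_coe] at h3
  have h5 : 2 ≤ q ^ d := hq.two_le.trans (Nat.le_self_pow hd.ne' q)
  exact h3.trans (Nat.pow_le_pow_right (by omega) hT2)

theorem card_le_centralizer {N : Subgroup S} (hNn : N.Normal) {q d : ℕ} (hq : q.Prime)
    (hN : Nat.card N = q ^ d) (hd : 0 < d) :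
    Nat.card S ≤ Nat.card (centralizer (N : Set S)) * (q ^ d - 1) ^ d := by
  have h1 := Subgroup.card_mul_index (MulAut.conjNormal (H := N)).ker
  rw [Subgroup.index_ker] at h1
  rw [← h1]
  refine Nat.mul_le_mul ?_ ?_
  · refine Subgroup.card_le_of_le ?_
    intro x hx
    rw [mem_centralizer_iff]
    intro n hn
    have h2 : (MulAut.conjNormal x : MulAut N) = 1 := hx
    have h3 := congrArg (fun α : MulAut N => ((α ⟨n, hn⟩ : N) : S)) h2
    simp only [MulAut.conjNormal_apply, MulAut.one_apply] at h3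
    calc n * x = (x * n * x⁻¹) * x := by rw [h3]
      _ = x * n := by group
  · exact (Subgroup.card_le_card_group _).trans (card_mulAut_le hq hN hd)

/-- A minimal normal subgroup inside `O_q`. -/
theorem exists_min [Group.IsSolvable S] {q : ℕ} [hqf : Fact q.Prime] (hq : pCore q S ≠ ⊥) :
    ∃ (N : Subgroup S) (d : ℕ), N.Normal ∧ N ≠ ⊥ ∧ 0 < d ∧ Nat.card N = q ^ d ∧
      (∀ x ∈ N, x ^ q = 1) ∧ (∀ x ∈ N, ∀ y ∈ N, x * y = y * x) := by
  obtain ⟨N, hN⟩ := (Set.toFinite {N : Subgroup S | N.Normal ∧ N ≠ ⊥ ∧ N ≤ pCore q S}).exists_minimal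
    ⟨pCore q S, Lib.Cores.pCore_normal q, hq, le_rfl⟩
  have hNn : N.Normal := hN.prop.1
  have hN1 : N ≠ ⊥ := hN.prop.2.1
  have hNq : N ≤ pCore q S := hN.prop.2.2
  have hmin : ∀ K : Subgroup S, K.Normal → K ≤ N → K = ⊥ ∨ K = N := by
    intro K hK hKN
    by_cases hK1 : K = ⊥
    · exact Or.inl hK1
    · exact Or.inr (le_antisymm hKN (hN.le_of_le ⟨hK, hK1, hKN.trans hNq⟩ hKN))
  obtain ⟨r, d, hr, hd, hc, hex⟩ :=
    SolvableStructure.MinimalNormal.exists_prime_of_minimal_normal N hN1 hmin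
  obtain ⟨hcomm, -⟩ := S0043.result N hN1 hmin
  have hp : IsPGroup q N := (Lib.Cores.pCore_isPGroup q).to_le hNq
  have hrq : r = q := by
    obtain ⟨e, he⟩ := IsPGroup.iff_card.mp hp
    rw [hc] at he
    have h1 : r ∣ q ^ e := by
      rw [← he]
      exact dvd_pow_self r hd.ne'
    exact (Nat.prime_dvd_prime_iff_eq hr hqf.out).mp (hr.dvd_of_dvd_pow h1)
  subst hrq
  exact ⟨N, d, hNn, hN1, hd, hc, hex, fun x hx y hy =>
    congrArg Subtype.val (hcomm.is_comm.comm ⟨x, hx⟩ ⟨y, hy⟩)⟩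

/-- `|X|` divides `|Q| |GL_d(p)|`, for a normal `p`-subgroup `Q` with `C(Q) ≤ Q`, maximal among the
normal `p`-subgroups, with `|Q : Φ(Q)| = p ^ d`. -/
theorem card_dvd_frat {X : Type*} [Group X] [Finite X] {q : ℕ} [Fact q.Prime]
    (hc : centralizer (pCore q X : Set X) ≤ pCore q X) :
    ∃ d, Nat.card (pCore q X ⧸ frattini (pCore q X)) = q ^ d ∧
      Nat.card X ∣ Nat.card (pCore q X) * Nat.card (GL (Fin d) (ZMod q)) := by
  classical
  have hQn : (pCore q X).Normal := Lib.Cores.pCore_normal q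
  have hQ : IsPGroup q (pCore q X) := Lib.Cores.pCore_isPGroup q
  have hker := PLocal.SectionFrattini.isPGroup_sectionKernel_frattini (pCore q X) hQ hc
  set Q : Subgroup X := pCore q X with hQdef
  have hsq : ∀ v : Q ⧸ frattini Q, v ^ q = 1 := by
    intro v
    obtain ⟨y, rfl⟩ := QuotientGroup.mk'_surjective _ v
    rw [← map_pow]
    exact (QuotientGroup.eq_one_iff _).2 (Lib.FrattiniPGroup.pow_mem_frattini hQ y)
  have hcomm : ∀ x y : Q ⧸ frattini Q, x * y = y * x := by
    intro x y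
    obtain ⟨x, rfl⟩ := QuotientGroup.mk'_surjective _ x
    obtain ⟨y, rfl⟩ := QuotientGroup.mk'_surjective _ y
    rw [← commutatorElement_eq_one_iff_mul_comm, ← map_commutatorElement]
    exact (QuotientGroup.eq_one_iff _).2 (Lib.FrattiniPGroup.commutator_mem_frattini hQ x y)
  obtain ⟨d, hd⟩ := IsPGroup.iff_card.mp (hQ.to_quotient (frattini Q))
  let _ : CommGroup (Q ⧸ frattini Q) := { (inferInstance : Group (Q ⧸ frattini Q)) with
    mul_comm := hcomm }
  obtain ⟨e⟩ := Lib.ElemAbGL.mulAut_equiv_GL (V := Q ⧸ frattini Q) q d hsq hd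
  refine ⟨d, hd, ?_⟩
  -- the action on the Frattini quotient
  have hchar : ∀ φ : MulAut Q, (frattini Q).map φ.toMonoidHom = frattini Q := by
    intro φ
    exact Subgroup.characteristic_iff_map_eq.1 inferInstance φ
  let act : MulAut Q →* MulAut (Q ⧸ frattini Q) :=
    { toFun := fun φ => QuotientGroup.congr _ _ φ (hchar φ)
      map_one' := by
        ext v
        obtain ⟨q, rfl⟩ := QuotientGroup.mk'_surjective _ v
        rfl
      map_mul' := by
        intro φ ψ
        ext v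
        obtain ⟨q, rfl⟩ := QuotientGroup.mk'_surjective _ v
        rfl }
  let ρ : X →* MulAut (Q ⧸ frattini Q) := act.comp (MulAut.conjNormal (H := Q))
  have hρ : ∀ (x : X) (y : Q), ρ x (QuotientGroup.mk y) = QuotientGroup.mk (MulAut.conjNormal x y) :=
    fun x y => rfl
  have hρker : ρ.ker ≤ Q := by
    have hle : ρ.ker ≤ sectionKernel Q ((frattini Q).map Q.subtype) := by
      intro x hx
      rw [PLocal.SectionFrattini.mem_sectionKernel]
      intro k hk
      have h1 : ρ x (QuotientGroup.mk ⟨k, hk⟩⁻¹) = QuotientGroup.mk ⟨k, hk⟩⁻¹ := by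
        rw [MonoidHom.mem_ker.1 hx]
        rfl
      rw [hρ, QuotientGroup.eq] at h1
      have h2 := (frattini Q).inv_mem h1
      refine ⟨_, h2, ?_⟩
      simp only [Subgroup.subtype_apply, Subgroup.coe_inv, Subgroup.coe_mul,
        MulAut.conjNormal_apply, commutatorElement_def]
      group
    exact Lib.Cores.le_pCore inferInstance (hker.to_le hle)
  have h1 := Subgroup.card_mul_index ρ.ker
  rw [Subgroup.index_ker] at h1
  rw [← h1]
  refine Nat.mul_dvd_mul (Subgroup.card_dvd_of_le hρker) ?_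
  rw [← Nat.card_congr e.toEquiv]
  exact Subgroup.card_subgroup_dvd_card _

/-- In a solvable group with `O_r(S) = 1` for all primes `r ≠ q`, `C(O_q(S)) ≤ O_q(S)`. -/
theorem centralizer_pCore_le [Group.IsSolvable S] {q : ℕ} [Fact q.Prime]
    (h : ∀ r : ℕ, r.Prime → r ≠ q → pCore r S = ⊥) :
    centralizer (pCore q S : Set S) ≤ pCore q S := by
  have h1 : fittingSubgroup S = pCore q S := by
    apply le_antisymm
    · rw [Lib.Cores.fittingSubgroup_eq_iSup_pCore]
      refine iSup_le fun r => ?_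
      by_cases hr : (r : ℕ) = q
      · rw [hr]
      · rw [h r r.2 hr]
        exact bot_le
    · exact Lib.Cores.pCore_le_fittingSubgroup q
  have h2 := S0044.result (G := S)
  rwa [h1] at h2

/-- The centralizer of `N` when `W` has length at most 2 as an `N`-module. -/
theorem SR.card_centralizer_le (R : SR p W S) (N : Subgroup S)
    (hlen : ∀ U₁ U₂ : Submodule (ZMod p) W, (∀ x ∈ N, ∀ u ∈ U₁, R.ρ x u ∈ U₁) →
      (∀ x ∈ N, ∀ u ∈ U₂, R.ρ x u ∈ U₂) → U₁ ≠ ⊥ → U₁ < U₂ → U₂ = ⊤)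
    (W₁ W₂ : Submodule (ZMod p) W) (h1 : W₁ ≠ ⊥) (hi1 : ∀ x ∈ N, ∀ u ∈ W₁, R.ρ x u ∈ W₁)
    (hc1 : ∀ c ∈ centralizer (N : Set S), ∀ u ∈ W₁, R.ρ c u ∈ W₁)
    (hc2 : ∀ c ∈ centralizer (N : Set S), ∀ u ∈ W₂, R.ρ c u ∈ W₂)
    (h2 : ∀ U ≤ W₁, U = ⊤ ∨ ¬ W₂ ≤ U) :
    Nat.card (centralizer (N : Set S)) ≤ Nat.card W₁ * Nat.card W₂ := by
  classical
  obtain ⟨U₁, hU₁⟩ := (Set.toFinite {U : Submodule (ZMod p) W | U ≠ ⊥ ∧ U ≤ W₁ ∧
    ∀ x ∈ N, ∀ u ∈ U, R.ρ x u ∈ U}).exists_minimal ⟨W₁, h1, le_rfl, hi1⟩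
  obtain ⟨hne, hle, hinv⟩ := hU₁.prop
  obtain ⟨t₁, ht₁, ht₁0⟩ := Submodule.exists_mem_ne_zero_of_ne_bot hne
  have ht₂ : ∃ t₂ ∈ W₂, U₁ = ⊤ ∨ t₂ ∉ U₁ := by
    rcases h2 U₁ hle with h | h
    · exact ⟨0, zero_mem _, Or.inl h⟩
    · obtain ⟨t, ht, htU⟩ := SetLike.not_le_iff_exists.mp h
      exact ⟨t, ht, Or.inr htU⟩
  obtain ⟨t₂, ht₂, ht₂U⟩ := ht₂
  have h3 := card_le_of_gen (ι := Fin 2) R.ρ R.inj (centralizer (N : Set S)) N
    (fun c hc x hx => (mem_centralizer_iff.mp hc x hx).symm) ![t₁, t₂]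
    (fun U hU1 hU2 => by
      have h4 : t₁ ∈ U := hU2 0
      have h5 : t₂ ∈ U := hU2 1
      have h6 : U₁ ≤ U := by
        have h7 : U₁ ≤ U₁ ⊓ U := by
          refine hU₁.le_of_le ⟨?_, inf_le_left.trans hle, ?_⟩ inf_le_left
          · intro hbot
            have h8 : t₁ ∈ U₁ ⊓ U := ⟨ht₁, h4⟩
            rw [hbot] at h8
            exact ht₁0 h8
          · intro x hx u hu
            exact ⟨hinv x hx u hu.1, hU1 x hx u hu.2⟩
        exact h7.trans inf_le_right
      rcases ht₂U with h | h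
      · rw [eq_top_iff, ← h]
        exact h6
      · refine hlen U₁ U hinv hU1 hne (lt_of_le_of_ne h6 ?_)
        intro heq
        rw [heq] at h
        exact h h5)
    ![(W₁ : Set W), (W₂ : Set W)]
    (fun i c hc => by
      fin_cases i
      · exact hc1 c hc t₁ (hle ht₁)
      · exact hc2 c hc t₂ ht₂)
  rw [Nat.card_pi, Fin.prod_univ_two] at h3
  exact h3

end Cfsg.Agent.H553.Sy
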