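import Mathlib
import Cfsg.Agent.H553.SympFit
import Cfsg.Agent.H363.Frat

/-!
# Solvable irreducible subgroups of `Sp_{2n}(2)`, `n = 3, 4, 5`
-/

set_option autoImplicit false

namespace Cfsg.Agent.H553.Sy

open Module SB Subgroup

universe u

instance fact_two : Fact (Nat.Prime 2) := ⟨Nat.prime_two⟩

variable {W : Type u} [AddCommGroup W] [Module (ZMod 2) W] [Finite W]
  {S : Type u} [Group S] [Finite S]

theorem SR.finrank_eq {n : ℕ} (hW : Nat.card W = 2 ^ n) : finrank (ZMod 2) W = n := by
  have h1 := Module.natCard_eq_pow_finrank (K := ZMod 2) (V := W)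
  rw [Nat.card_zmod, hW] at h1
  exact (Nat.pow_right_injective le_rfl h1).symm

theorem card_submodule (U : Submodule (ZMod 2) W) : Nat.card U = 2 ^ finrank (ZMod 2) U := by
  have h1 := Module.natCard_eq_pow_finrank (K := ZMod 2) (V := U)
  rwa [Nat.card_zmod] at h1

/-- `W` has length at most two under a fixed point free `q`-group, for suitable numbers. -/
theorem SR.len_le (R : SR 2 W S) {q n : ℕ} [Fact q.Prime] (hW : Nat.card W = 2 ^ n)
    (hnum : ∀ a b, 0 < a → a < b → b ≤ n → 2 ^ a ≡ 1 [MOD q] → 2 ^ b ≡ 1 [MOD q] → b = n)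
    (N : Subgroup S) (hN : IsPGroup q N) (hfix : ∀ w, (∀ x ∈ N, R.ρ x w = w) → w = 0)
    (U₁ U₂ : Submodule (ZMod 2) W) (h1 : ∀ x ∈ N, ∀ u ∈ U₁, R.ρ x u ∈ U₁)
    (h2 : ∀ x ∈ N, ∀ u ∈ U₂, R.ρ x u ∈ U₂) (hne : U₁ ≠ ⊥) (hlt : U₁ < U₂) : U₂ = ⊤ := by
  have : FiniteDimensional (ZMod 2) W := Module.Finite.of_finite
  have h3 := R.card_modEq N hN hfix U₁ h1
  have h4 := R.card_modEq N hN hfix U₂ h2
  rw [card_submodule] at h3 h4
  have h5 := Submodule.finrank_lt_finrank_of_lt hlt
  have h6 : 0 < finrank (ZMod 2) U₁ := by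
    rw [Nat.pos_iff_ne_zero, Ne, Submodule.finrank_eq_zero]
    exact hne
  have h7 := Submodule.finrank_le U₂
  have hWr := SR.finrank_eq hW
  rw [hWr] at h7
  refine Submodule.eq_top_of_finrank_eq ?_
  rw [hWr]
  exact hnum _ _ h6 h5 h7 h3 h4

/-- The general bound for a normal `q`-subgroup. -/
theorem SR.card_le_len (R : SR 2 W S) {q n d : ℕ} [hq : Fact q.Prime] (hW : Nat.card W = 2 ^ n)
    (hn : 0 < n)
    (hnum : ∀ a b, 0 < a → a < b → b ≤ n → 2 ^ a ≡ 1 [MOD q] → 2 ^ b ≡ 1 [MOD q] → b = n)
    (N : Subgroup S) (hNn : N.Normal) (hN1 : N ≠ ⊥) (hd : 0 < d) (hN : Nat.card N = q ^ d) :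
    Nat.card S ≤ (2 ^ n * 2 ^ n) * (q ^ d - 1) ^ d := by
  have hNp : IsPGroup q N := IsPGroup.of_card hN
  have hfix := R.fix_eq_zero N hNn hN1
  refine (card_le_centralizer hNn hq.out hN hd).trans (Nat.mul_le_mul_right _ ?_)
  have hnt : Nontrivial W := by
    rw [← Finite.one_lt_card_iff_nontrivial, hW]
    exact Nat.one_lt_two_pow hn.ne'
  refine (R.card_centralizer_le N (R.len_le hW hnum N hNp hfix) ⊤ ⊤ top_ne_bot
    (fun _ _ _ _ => trivial) (fun _ _ _ _ => trivial) (fun _ _ _ _ => trivial) ?_).trans ?_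
  · intro U _
    by_cases h : U = ⊤
    · exact Or.inl h
    · exact Or.inr (fun h1 => h (top_le_iff.mp h1))
  · rw [Nat.card_congr (Submodule.topEquiv (R := ZMod 2) (M := W)).toEquiv, hW]

omit [Finite S] in
theorem card_dvd_sp {n : ℕ} (R : SR 2 W S) (hW : Nat.card W = 2 ^ (2 * n)) :
    Nat.card S ∣ 2 ^ (n ^ 2) * ∏ i ∈ Finset.range n, (2 ^ (2 * (i + 1)) - 1) := by
  obtain ⟨m, hm, f, hf⟩ := exists_embedding R.ρ R.inj R.B R.alt R.nd R.inv
  rw [hW] at hm
  have h1 : 2 * n = 2 * m := Nat.pow_right_injective le_rfl hm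
  have h2 : n = m := by omega
  subst h2
  have h3 := LieClassical.SympCount.card_symplecticGroup (F := ZMod 2) n
  rw [ZMod.card] at h3
  rw [← h3]
  exact Subgroup.card_dvd_of_injective f hf

/-- The case that `O_r(S) = 1` for all `r ≠ 3`. -/
theorem SR.three_case [Group.IsSolvable S] (R : SR 2 W S) {n : ℕ}
    (hW : Nat.card W = 2 ^ (2 * n)) (h : ∀ r : ℕ, r.Prime → r ≠ 3 → pCore r S = ⊥) :
    ∃ b d : ℕ, 3 ^ b ∣ Nat.card S ∧ (d ≤ n ∨ d < b) ∧ d ≤ b ∧
      Nat.card S ∣ 3 ^ b * ∏ i : Fin d, (3 ^ d - 3 ^ (i : ℕ)) := by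
  have h3 : Fact (Nat.Prime 3) := ⟨Nat.prime_three⟩
  have : FiniteDimensional (ZMod 2) W := Module.Finite.of_finite
  have hc := centralizer_pCore_le h
  obtain ⟨d, hd, hdvd⟩ := card_dvd_frat hc
  have hP : IsPGroup 3 (pCore 3 S) := Lib.Cores.pCore_isPGroup 3
  obtain ⟨b, hb⟩ := IsPGroup.iff_card.mp hP
  rw [hb, Matrix.card_GL_field, ZMod.card] at hdvd
  have hdb : d ≤ b := by
    have h4 : Nat.card (pCore 3 S ⧸ frattini (pCore 3 S)) ∣ Nat.card (pCore 3 S) :=
      Subgroup.card_quotient_dvd_card _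
    rw [hd, hb] at h4
    exact (Nat.pow_dvd_pow_iff_le_right (by norm_num)).mp h4
  refine ⟨b, d, ?_, ?_, hdb, hdvd⟩
  · rw [← hb]
    exact Subgroup.card_subgroup_dvd_card _
  · rcases Nat.lt_or_ge d b with h5 | h5
    · exact Or.inr h5
    · left
      have h6 : d = b := le_antisymm hdb h5
      -- `Φ(P) = 1`
      have hF : frattini (pCore 3 S) = ⊥ := by
        have h7 := Subgroup.card_mul_index (frattini (pCore 3 S))
        have h8 : (frattini (pCore 3 S)).index = 3 ^ d := hd
        rw [h8, hb, h6] at h7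
        have h9 : Nat.card (frattini (pCore 3 S)) = 1 := by
          have : 0 < 3 ^ b := by positivity
          exact Nat.eq_of_mul_eq_mul_right this (by rw [h7, one_mul])
        exact Subgroup.card_eq_one.mp h9
      have hpow : ∀ x : pCore 3 S, x ^ 3 = 1 := by
        intro x
        have := Lib.FrattiniPGroup.pow_mem_frattini hP x
        rwa [hF, mem_bot] at this
      have hcomm : ∀ x y : pCore 3 S, x * y = y * x := by
        intro x y
        have := Lib.FrattiniPGroup.commutator_mem_frattini hP x y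
        rw [hF, mem_bot] at this
        exact commutatorElement_eq_one_iff_mul_comm.mp this
      let _ : CommGroup (pCore 3 S) := { (inferInstance : Group (pCore 3 S)) with
        mul_comm := hcomm }
      have h10 := SigZeroU5.card_sq_le_of_symp (K := ZMod 2) Nat.prime_three (by decide)
        (2 * n) W (SR.finrank_eq hW) R.B R.alt R.nd (pCore 3 S) hpow
        (R.ρ.comp (pCore 3 S).subtype) (R.inj.comp (pCore 3 S).subtype_injective)
        (fun a v w => R.inv a v w)
      rw [hb, ← pow_mul] at h10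
      have h11 := (Nat.pow_le_pow_iff_right (by norm_num : 1 < 3)).mp h10
      omega

/-- The primes `q` with `O_q(S) ≠ 1` divide `|W| - 1`. -/
theorem SR.prime_dvd (R : SR 2 W S) {n q : ℕ} (hW : Nat.card W = 2 ^ n) (hq : q.Prime)
    (h : pCore q S ≠ ⊥) : q ∣ 2 ^ n - 1 := by
  have : Fact q.Prime := ⟨hq⟩
  have h1 := R.dvd_of_pCore h
  rw [hW] at h1
  exact (Nat.modEq_iff_dvd' Nat.one_le_two_pow).mp h1.symm

/-- `n = 5`. -/
theorem SR.five [Group.IsSolvable S] (R : SR 2 W S) (hW : Nat.card W = 2 ^ (2 * 5)) :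
    Nat.card S ≤ 3 ^ (2 ^ 5 - 1) := by
  have hdvd := card_dvd_sp R hW
  norm_num [Finset.prod_range_succ] at hdvd
  by_cases hq : ∃ q : ℕ, q.Prime ∧ q ≠ 3 ∧ pCore q S ≠ ⊥
  · obtain ⟨q, hqp, hq3, hqc⟩ := hq
    have : Fact q.Prime := ⟨hqp⟩
    have h1 := R.prime_dvd hW hqp hqc
    have h2 : q = 3 ∨ q = 11 ∨ q = 31 := by
      have h3 : q ∣ 3 * (11 * 31) := by norm_num at h1 ⊢; exact h1
      rcases hqp.dvd_mul.mp h3 with h3 | h3
      · exact Or.inl ((Nat.prime_dvd_prime_iff_eq hqp (by norm_num)).mp h3)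
      · rcases hqp.dvd_mul.mp h3 with h3 | h3
        · exact Or.inr (Or.inl ((Nat.prime_dvd_prime_iff_eq hqp (by norm_num)).mp h3))
        · exact Or.inr (Or.inr ((Nat.prime_dvd_prime_iff_eq hqp (by norm_num)).mp h3))
    obtain ⟨N, d, hNn, hN1, hd, hNc, hNex, hNcomm⟩ := exists_min hqc
    have h4 : q ^ d ∣ 24815256521932800 := by
      rw [← hNc]
      exact (Subgroup.card_subgroup_dvd_card N).trans hdvd
    rcases h2 with rfl | rfl | rfl
    · exact absurd rfl hq3
    · have hd1 : d = 1 := by
        by_contra hne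
        have h5 : 11 ^ 2 ∣ 24815256521932800 := (pow_dvd_pow 11 (by omega)).trans h4
        norm_num at h5
      subst hd1
      refine (R.card_le_len hW (by norm_num) ?_ N hNn hN1 hd hNc).trans (by norm_num)
      intro a b ha hab hb h6 h7
      have hb2 : 2 ≤ b := by omega
      interval_cases b <;> first | rfl | (revert h7; decide)
    · have hd1 : d = 1 := by
        by_contra hne
        have h5 : 31 ^ 2 ∣ 24815256521932800 := (pow_dvd_pow 31 (by omega)).trans h4
        norm_num at h5
      subst hd1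
      refine (R.card_le_len hW (by norm_num) ?_ N hNn hN1 hd hNc).trans (by norm_num)
      intro a b ha hab hb h6 h7
      interval_cases b <;> interval_cases a <;> first | rfl | (revert h7; decide) | (revert h6; decide)
  · push Not at hq
    obtain ⟨b, d, h1, h2, h3, h4⟩ := R.three_case hW hq
    have hb : b ≤ 6 := by
      by_contra hne
      have h5 : 3 ^ 7 ∣ 24815256521932800 := ((pow_dvd_pow 3 (by omega)).trans h1).trans hdvd
      norm_num at h5
    have h5 : Nat.card S ∣ 3 ^ 6 * ∏ i : Fin d, (3 ^ d - 3 ^ (i : ℕ)) :=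
      h4.trans (Nat.mul_dvd_mul_right (pow_dvd_pow 3 hb) _)
    have hd : d ≤ 6 := h3.trans hb
    have h6 := Nat.dvd_gcd hdvd h5
    have h7 := Nat.le_of_dvd (Nat.gcd_pos_of_pos_left _ (by norm_num)) h6
    refine h7.trans ?_
    clear h6 h7 h5 h4 h2 h1 h3
    interval_cases d <;> norm_num [Fin.prod_univ_succ]

/-- `n = 4`. -/
theorem SR.four [Group.IsSolvable S] (R : SR 2 W S) (hW : Nat.card W = 2 ^ (2 * 4)) :
    Nat.card S ≤ 3 ^ (2 ^ 4 - 1) := by
  classical
  have hdvd := card_dvd_sp R hW
  norm_num [Finset.prod_range_succ] at hdvd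
  by_cases hq : ∃ q : ℕ, q.Prime ∧ q ≠ 3 ∧ pCore q S ≠ ⊥
  · obtain ⟨q, hqp, hq3, hqc⟩ := hq
    have : Fact q.Prime := ⟨hqp⟩
    have h1 := R.prime_dvd hW hqp hqc
    have h2 : q = 3 ∨ q = 5 ∨ q = 17 := by
      have h3 : q ∣ 3 * (5 * 17) := by norm_num at h1 ⊢; exact h1
      rcases hqp.dvd_mul.mp h3 with h3 | h3
      · exact Or.inl ((Nat.prime_dvd_prime_iff_eq hqp (by norm_num)).mp h3)
      · rcases hqp.dvd_mul.mp h3 with h3 | h3
        · exact Or.inr (Or.inl ((Nat.prime_dvd_prime_iff_eq hqp (by norm_num)).mp h3))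
        · exact Or.inr (Or.inr ((Nat.prime_dvd_prime_iff_eq hqp (by norm_num)).mp h3))
    obtain ⟨N, d, hNn, hN1, hd, hNc, hNex, hNcomm⟩ := exists_min hqc
    have h4 : q ^ d ∣ 47377612800 := by
      rw [← hNc]
      exact (Subgroup.card_subgroup_dvd_card N).trans hdvd
    rcases h2 with rfl | rfl | rfl
    · exact absurd rfl hq3
    · have hnum : ∀ a b, 0 < a → a < b → b ≤ 2 * 4 → 2 ^ a ≡ 1 [MOD 5] → 2 ^ b ≡ 1 [MOD 5] →
          b = 2 * 4 := by
        intro a b ha hab hb h6 h7
        interval_cases b <;> interval_cases a <;>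
          first | rfl | (revert h7; decide) | (revert h6; decide)
      have hd2 : d ≤ 2 := by
        by_contra hne
        have h5 : 5 ^ 3 ∣ 47377612800 := (pow_dvd_pow 5 (by omega)).trans h4
        norm_num at h5
      have hd3 : d = 1 ∨ d = 2 := by omega
      rcases hd3 with rfl | rfl
      · exact (R.card_le_len hW (by norm_num) hnum N hNn hN1 hd hNc).trans (by norm_num)
      · -- `|N| = 25`: some element of `N` has fixed points
        have hNp : IsPGroup 5 N := IsPGroup.of_card hNc
        have hfix := R.fix_eq_zero N hNn hN1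
        have hx : ∃ x ∈ N, x ≠ 1 ∧ ∃ w, w ≠ 0 ∧ R.ρ x w = w := by
          by_contra hcon
          push Not at hcon
          let _ : MulAction N {w : W // w ≠ 0} :=
            { smul := fun x w => ⟨R.ρ x w, fun h => w.2 (by
                have h5 : R.ρ (x : S)⁻¹ (R.ρ x w) = w := by
                  rw [← R.apply_mul, inv_mul_cancel, R.apply_one]
                rw [← h5, h, map_zero])⟩
              one_smul := fun w => Subtype.ext (R.apply_one _)
              mul_smul := fun x y w => Subtype.ext (R.apply_mul _ _ _) }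
          have h5 := H363.Frat.card_dvd_of_free (A := N) (Y := {w : W // w ≠ 0}) (by
            intro a y hay
            by_contra ha
            exact hcon a a.2 (fun h => ha (Subtype.ext h)) y y.2 (congrArg Subtype.val hay))
          have := Fintype.ofFinite W
          rw [hNc, Nat.card_eq_fintype_card, Fintype.card_subtype_compl, Fintype.card_subtype_eq,
            ← Nat.card_eq_fintype_card, hW] at h5
          norm_num at h5
        obtain ⟨x, hxN, hx1, w, hw0, hw⟩ := hx
        let W₁ : Submodule (ZMod 2) W := LinearMap.ker (R.ρ x - 1)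
        have hmem : ∀ v, v ∈ W₁ ↔ R.ρ x v = v := by
          intro v
          change v ∈ LinearMap.ker (R.ρ x - 1) ↔ _
          rw [LinearMap.mem_ker, LinearMap.sub_apply, Module.End.one_apply, sub_eq_zero]
        have hne : W₁ ≠ ⊥ := by
          intro h
          have h5 : w ∈ W₁ := (hmem w).mpr hw
          rw [h] at h5
          exact hw0 h5
        have hinv : ∀ c : S, c * x = x * c → ∀ u ∈ W₁, R.ρ c u ∈ W₁ := by
          intro c hc u hu
          rw [hmem] at hu ⊢
          rw [← R.apply_mul, ← hc, R.apply_mul, hu]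
        have hi1 : ∀ y ∈ N, ∀ u ∈ W₁, R.ρ y u ∈ W₁ := fun y hy => hinv y (hNcomm y hy x hxN)
        have hnt : W₁ ≠ ⊤ := by
          intro h
          apply hx1
          apply R.inj
          rw [map_one]
          ext v
          exact (hmem v).mp (by rw [h]; trivial)
        have hlt : W₁ < ⊤ := lt_top_iff_ne_top.mpr hnt
        have : FiniteDimensional (ZMod 2) W := Module.Finite.of_finite
        have h5 := R.card_modEq N hNp hfix W₁ hi1
        rw [card_submodule] at h5
        have h6 := Submodule.finrank_lt (lt_top_iff_ne_top.mp hlt)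
        rw [SR.finrank_eq hW] at h6
        have h7 : Nat.card W₁ ≤ 16 := by
          rw [card_submodule]
          have h8 : finrank (ZMod 2) W₁ ≤ 4 := by
            by_contra h9
            push Not at h9
            generalize finrank (ZMod 2) W₁ = r at *
            interval_cases r <;> (revert h5; decide)
          exact Nat.pow_le_pow_right (by norm_num) h8
        have h8 := R.card_centralizer_le N (R.len_le hW hnum N hNp hfix) W₁ ⊤ hne hi1
          (fun c hc => hinv c (mem_centralizer_iff.mp hc x hxN).symm)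
          (fun _ _ _ _ => trivial) (by
            intro U hU
            right
            intro h9
            exact hnt (top_le_iff.mp (h9.trans hU)))
        rw [Nat.card_congr (Submodule.topEquiv (R := ZMod 2) (M := W)).toEquiv, hW] at h8
        have h9 := card_le_centralizer hNn hqp hNc hd
        refine h9.trans ?_
        have h10 := h8.trans (Nat.mul_le_mul_right _ h7)
        exact (Nat.mul_le_mul_right _ h10).trans (by norm_num)
    · have hd1 : d = 1 := by
        by_contra hne
        have h5 : 17 ^ 2 ∣ 47377612800 := (pow_dvd_pow 17 (by omega)).trans h4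
        norm_num at h5
      subst hd1
      refine (R.card_le_len hW (by norm_num) ?_ N hNn hN1 hd hNc).trans (by norm_num)
      intro a b ha hab hb h6 h7
      have hb2 : 2 ≤ b := by omega
      interval_cases b <;> first | rfl | (revert h7; decide)
  · push Not at hq
    obtain ⟨b, d, h1, h2, h3, h4⟩ := R.three_case hW hq
    have hb : b ≤ 5 := by
      by_contra hne
      have h5 : 3 ^ 6 ∣ 47377612800 := ((pow_dvd_pow 3 (by omega)).trans h1).trans hdvd
      norm_num at h5
    have h5 : Nat.card S ∣ 3 ^ 5 * ∏ i : Fin d, (3 ^ d - 3 ^ (i : ℕ)) :=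
      h4.trans (Nat.mul_dvd_mul_right (pow_dvd_pow 3 hb) _)
    have hd : d ≤ 4 := by omega
    have h6 := Nat.dvd_gcd hdvd h5
    have h7 := Nat.le_of_dvd (Nat.gcd_pos_of_pos_left _ (by norm_num)) h6
    refine h7.trans ?_
    clear h6 h7 h5 h4 h2 h1 h3
    interval_cases d <;> norm_num [Fin.prod_univ_succ]

omit [Finite W] [Finite S] in
/-- An element of order 7 preserving a symplectic form in characteristic 2 does not satisfy
`X³ + X + 1`. -/
theorem SR.seven_aux (R : SR 2 W S) {x : S} (hx : x ^ 7 = 1) (hx1 : x ≠ 1) :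
    ¬ ∀ v, R.ρ x (R.ρ x (R.ρ x v)) = R.ρ x v + v := by
  intro h
  have h2 : ∀ a : ZMod 2, a + a = 0 := by decide
  have h2W : ∀ w : W, w + w = 0 := by
    intro w
    have : (2 : ZMod 2) • w = 0 := by
      rw [show (2 : ZMod 2) = 0 by decide, zero_smul]
    rwa [two_smul] at this
  have e1 : ∀ v w, R.B v w = R.B (R.ρ x v) w + R.B v (R.ρ x w) := by
    intro v w
    have h3 := R.inv x (R.ρ x (R.ρ x v)) (R.ρ x (R.ρ x w))
    rw [h, h, R.inv, R.inv] at h3
    simp only [map_add, LinearMap.add_apply, R.inv] at h3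
    linear_combination h3 - h2 (R.B (R.ρ x v) w) - h2 (R.B v (R.ρ x w))
  have e2 : ∀ v w, R.B v (R.ρ x w + w + R.ρ x (R.ρ x w)) = 0 := by
    intro v w
    have h3 := e1 v (R.ρ x w)
    rw [R.inv] at h3
    simp only [map_add]
    have h4 := h2 (R.B v (R.ρ x w))
    linear_combination h4 - h3
  have e3 : ∀ w, R.ρ x w + w + R.ρ x (R.ρ x w) = 0 := by
    intro w
    apply R.nd
    intro v
    have hsw : ∀ v w, R.B v w = - R.B w v := by
      intro v w
      have := R.alt (v + w)
      simp only [map_add, LinearMap.add_apply, R.alt, zero_add, add_zero] at this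
      exact eq_neg_of_add_eq_zero_right this
    rw [hsw, e2, neg_zero]
  -- `x ^ 3 = 1`
  have e4 : x ^ 3 = 1 := by
    apply R.inj
    rw [map_one]
    ext w
    rw [pow_succ, pow_two, R.apply_mul, R.apply_mul, h, Module.End.one_apply]
    have h3 := e3 w
    have h4 := e3 (R.ρ x w)
    rw [h] at h4
    have h5 := h2W w
    have h6 := h2W (R.ρ x w)
    have h7 : R.ρ x (R.ρ x w) = - (R.ρ x w + w) := (neg_eq_of_add_eq_zero_right h3).symm
    rw [h7] at h4
    have h8 : R.ρ x w = 0 := by
      have : -(R.ρ x w + w) + R.ρ x w + (R.ρ x w + w) = R.ρ x w := by abel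
      rwa [this] at h4
    rw [h8, zero_add]
  apply hx1
  calc x = x ^ 7 * (x ^ 3)⁻¹ * (x ^ 3)⁻¹ := by group
    _ = 1 := by rw [hx, e4]; simp

/-- `n = 3`. -/
theorem SR.three [Group.IsSolvable S] (R : SR 2 W S) (hW : Nat.card W = 2 ^ (2 * 3)) :
    Nat.card S ≤ 2592 := by
  classical
  have hdvd := card_dvd_sp R hW
  norm_num [Finset.prod_range_succ] at hdvd
  by_cases hq : ∃ q : ℕ, q.Prime ∧ q ≠ 3 ∧ pCore q S ≠ ⊥
  · obtain ⟨q, hqp, hq3, hqc⟩ := hq
    have : Fact q.Prime := ⟨hqp⟩
    have h1 := R.prime_dvd hW hqp hqc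
    have h2 : q = 7 := by
      have h3 : q ∣ 3 * (3 * 7) := by norm_num at h1 ⊢; exact h1
      rcases hqp.dvd_mul.mp h3 with h3 | h3
      · exact absurd ((Nat.prime_dvd_prime_iff_eq hqp (by norm_num)).mp h3) hq3
      · rcases hqp.dvd_mul.mp h3 with h3 | h3
        · exact absurd ((Nat.prime_dvd_prime_iff_eq hqp (by norm_num)).mp h3) hq3
        · exact (Nat.prime_dvd_prime_iff_eq hqp (by norm_num)).mp h3
    subst h2
    obtain ⟨N, d, hNn, hN1, hd, hNc, hNex, hNcomm⟩ := exists_min hqc
    have h4 : 7 ^ d ∣ 1451520 := by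
      rw [← hNc]
      exact (Subgroup.card_subgroup_dvd_card N).trans hdvd
    have hd1 : d = 1 := by
      by_contra hne
      have h5 : 7 ^ 2 ∣ 1451520 := (pow_dvd_pow 7 (by omega)).trans h4
      norm_num at h5
    subst hd1
    have hnum : ∀ a b, 0 < a → a < b → b ≤ 2 * 3 → 2 ^ a ≡ 1 [MOD 7] → 2 ^ b ≡ 1 [MOD 7] →
        b = 2 * 3 := by
      intro a b ha hab hb h6 h7
      interval_cases b <;> interval_cases a <;>
        first | rfl | (revert h7; decide) | (revert h6; decide)
    have hNp : IsPGroup 7 N := IsPGroup.of_card hNc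
    have hfix := R.fix_eq_zero N hNn hN1
    obtain ⟨x, hxN, hx1⟩ := (Subgroup.bot_or_exists_ne_one N).resolve_left hN1
    have hx7 : x ^ 7 = 1 := hNex x hxN
    have hxord : orderOf x = 7 := orderOf_eq_prime hx7 hx1
    have hNz : N = zpowers x := by
      symm
      apply Subgroup.eq_of_le_of_card_ge (zpowers_le.mpr hxN)
      rw [hNc, Nat.card_zpowers, hxord, pow_one]
    have hfix' : ∀ w, R.ρ x w = w → w = 0 := by
      intro w hw
      apply hfix
      let St : Subgroup S :=
        { carrier := {s | R.ρ s w = w}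
          mul_mem' := fun {s t} hs ht => by
            change R.ρ (s * t) w = w
            rw [R.apply_mul, show R.ρ t w = w from ht, show R.ρ s w = w from hs]
          one_mem' := R.apply_one w
          inv_mem' := fun {s} hs => by
            change R.ρ s⁻¹ w = w
            have h5 : R.ρ s⁻¹ (R.ρ s w) = w := by
              rw [← R.apply_mul, inv_mul_cancel, R.apply_one]
            rwa [show R.ρ s w = w from hs] at h5 }
      intro y hy
      rw [hNz] at hy
      have h5 : zpowers x ≤ St := zpowers_le.mpr hw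
      exact h5 hy
    have h2W : ∀ w : W, w + w = 0 := by
      intro w
      have : (2 : ZMod 2) • w = 0 := by
        rw [show (2 : ZMod 2) = 0 by decide, zero_smul]
      rwa [two_smul] at this
    let T := R.ρ x
    have hT7 : ∀ v, T (T (T (T (T (T (T v)))))) = v := by
      intro v
      have h5 : R.ρ (x ^ 7) v = v := by rw [hx7, R.apply_one]
      simpa only [pow_succ, pow_zero, one_mul, R.apply_mul] using h5
    have hsum : ∀ v, T (T (T (T (T (T v))))) + T (T (T (T (T v)))) + T (T (T (T v))) + T (T (T v)) +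
        T (T v) + T v + v = 0 := by
      intro v
      apply hfix'
      change T _ = _
      simp only [map_add]
      rw [hT7]
      abel
    let f : Module.End (ZMod 2) W := T * T * T + T + 1
    let g : Module.End (ZMod 2) W := T * T * T + T * T + 1
    have hf : ∀ v, f v = T (T (T v)) + T v + v := fun v => rfl
    have hg : ∀ v, g v = T (T (T v)) + T (T v) + v := fun v => rfl
    have hfg : ∀ v, f (g v) = 0 := by
      intro v
      rw [hf, hg]
      simp only [map_add]
      have h5 := hsum v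
      have h6 := h2W (T (T (T v)))
      calc _ = (T (T (T (T (T (T v))))) + T (T (T (T (T v)))) + T (T (T (T v))) + T (T (T v)) +
        T (T v) + T v + v) + (T (T (T v)) + T (T (T v))) := by abel
        _ = 0 := by rw [h5, h6, add_zero]
    have hgf : ∀ v, g (f v) = 0 := by
      intro v
      rw [← hfg v]
      simp only [hf, hg, map_add]
      abel
    have hfne : ¬ ∀ v, f v = 0 := by
      intro h
      refine R.seven_aux hx7 hx1 (fun v => ?_)
      have h5 := h v
      rw [hf] at h5
      have h6 := h2W (T v + v)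
      have h7 : T (T (T v)) = - (T v + v) := by
        apply eq_neg_of_add_eq_zero_left
        rw [← h5]
        abel
      change T (T (T v)) = T v + v
      rw [h7]
      exact neg_eq_of_add_eq_zero_left h6
    have hgne : ¬ ∀ v, g v = 0 := by
      intro h
      refine R.seven_aux (x := x⁻¹) (by rw [inv_pow, hx7, inv_one]) (by simpa using hx1) (fun v => ?_)
      have hTi : ∀ u, T (R.ρ x⁻¹ u) = u := by
        intro u
        change R.ρ x (R.ρ x⁻¹ u) = u
        rw [← R.apply_mul, mul_inv_cancel, R.apply_one]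
      have h5 := h (R.ρ x⁻¹ (R.ρ x⁻¹ (R.ρ x⁻¹ v)))
      rw [hg, hTi, hTi, hTi] at h5
      have h6 := h2W (R.ρ x⁻¹ v + v)
      have h7 : R.ρ x⁻¹ (R.ρ x⁻¹ (R.ρ x⁻¹ v)) = - (R.ρ x⁻¹ v + v) := by
        apply eq_neg_of_add_eq_zero_left
        rw [← h5]
        abel
      rw [h7]
      exact neg_eq_of_add_eq_zero_left h6
    -- commutation
    have hcT : ∀ c : S, c * x = x * c → ∀ v, R.ρ c (T v) = T (R.ρ c v) := by
      intro c hc v
      change R.ρ c (R.ρ x v) = R.ρ x (R.ρ c v)
      rw [← R.apply_mul, hc, R.apply_mul]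
    have hcf : ∀ c : S, c * x = x * c → ∀ v, f (R.ρ c v) = R.ρ c (f v) := by
      intro c hc v
      simp only [hf, map_add, hcT c hc]
    have hcg : ∀ c : S, c * x = x * c → ∀ v, g (R.ρ c v) = R.ρ c (g v) := by
      intro c hc v
      simp only [hg, map_add, hcT c hc]
    have hinv1 : ∀ c : S, c * x = x * c → ∀ u ∈ LinearMap.ker f, R.ρ c u ∈ LinearMap.ker f := by
      intro c hc u hu
      rw [LinearMap.mem_ker] at hu ⊢
      rw [hcf c hc, hu, map_zero]
    have hinv2 : ∀ c : S, c * x = x * c → ∀ u ∈ LinearMap.ker g, R.ρ c u ∈ LinearMap.ker g := by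
      intro c hc u hu
      rw [LinearMap.mem_ker] at hu ⊢
      rw [hcg c hc, hu, map_zero]
    have hNx : ∀ y ∈ N, y * x = x * y := fun y hy => hNcomm y hy x hxN
    have hftop : LinearMap.ker f ≠ ⊤ := fun h => hfne (fun v => by
      have h5 : v ∈ LinearMap.ker f := by rw [h]; trivial
      exact h5)
    have hgtop : LinearMap.ker g ≠ ⊤ := fun h => hgne (fun v => by
      have h5 : v ∈ LinearMap.ker g := by rw [h]; trivial
      exact h5)
    have hfbot : LinearMap.ker f ≠ ⊥ := fun h => hgne (fun v => by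
      have h5 : g v ∈ LinearMap.ker f := hfg v
      rw [h] at h5
      exact h5)
    have hgbot : LinearMap.ker g ≠ ⊥ := fun h => hfne (fun v => by
      have h5 : f v ∈ LinearMap.ker g := hgf v
      rw [h] at h5
      exact h5)
    have : FiniteDimensional (ZMod 2) W := Module.Finite.of_finite
    have hcard : ∀ U : Submodule (ZMod 2) W, (∀ y ∈ N, ∀ u ∈ U, R.ρ y u ∈ U) → U ≠ ⊤ →
        Nat.card U ≤ 8 := by
      intro U hU hU1
      have h5 := R.card_modEq N hNp hfix U hU
      rw [card_submodule] at h5 ⊢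
      have h6 := Submodule.finrank_lt hU1
      rw [SR.finrank_eq hW] at h6
      have h8 : finrank (ZMod 2) U ≤ 3 := by
        by_contra h9
        push Not at h9
        generalize finrank (ZMod 2) U = r at *
        interval_cases r <;> (revert h5; decide)
      exact Nat.pow_le_pow_right (n := 2) (by norm_num) h8
    have h8 := R.card_centralizer_le N (R.len_le hW hnum N hNp hfix) (LinearMap.ker f)
      (LinearMap.ker g) hfbot (fun y hy => hinv1 y (hNx y hy))
      (fun c hc => hinv1 c (mem_centralizer_iff.mp hc x hxN).symm)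
      (fun c hc => hinv2 c (mem_centralizer_iff.mp hc x hxN).symm) (by
        intro U hU
        right
        intro h9
        obtain ⟨w, hw, hw0⟩ := Submodule.exists_mem_ne_zero_of_ne_bot hgbot
        apply hw0
        have h10 : f w = 0 := (h9.trans hU) hw
        have h11 : g w = 0 := hw
        rw [hf] at h10
        rw [hg] at h11
        apply hfix'
        have h12 : T (T w) = T w := by
          have h13 : T (T (T w)) + T (T w) + w = T (T (T w)) + T w + w := by rw [h10, h11]
          exact add_left_cancel (add_right_cancel h13)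
        have h14 : ∀ u v, T u = T v → u = v := by
          intro u v huv
          have h15 : R.ρ x⁻¹ (R.ρ x u) = R.ρ x⁻¹ (R.ρ x v) := congrArg _ huv
          rwa [← R.apply_mul, ← R.apply_mul, inv_mul_cancel, R.apply_one, R.apply_one] at h15
        exact h14 _ _ h12)
    have h9 := card_le_centralizer hNn hqp hNc hd
    refine h9.trans ?_
    have h10 := h8.trans (Nat.mul_le_mul (hcard _ (fun y hy => hinv1 y (hNx y hy)) hftop)
      (hcard _ (fun y hy => hinv2 y (hNx y hy)) hgtop))
    exact (Nat.mul_le_mul_right _ h10).trans (by norm_num)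
  · push Not at hq
    obtain ⟨b, d, h1, h2, h3, h4⟩ := R.three_case hW hq
    have hb : b ≤ 4 := by
      by_contra hne
      have h5 : 3 ^ 5 ∣ 1451520 := ((pow_dvd_pow 3 (by omega)).trans h1).trans hdvd
      norm_num at h5
    have h5 : Nat.card S ∣ 3 ^ 4 * ∏ i : Fin d, (3 ^ d - 3 ^ (i : ℕ)) :=
      h4.trans (Nat.mul_dvd_mul_right (pow_dvd_pow 3 hb) _)
    have hd : d ≤ 3 := by omega
    have h6 := Nat.dvd_gcd hdvd h5
    have h7 := Nat.le_of_dvd (Nat.gcd_pos_of_pos_left _ (by norm_num)) h6
    refine h7.trans ?_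
    clear h6 h7 h5 h4 h2 h1 h3
    interval_cases d <;> norm_num [Fin.prod_univ_succ]

end Cfsg.Agent.H553.Sy
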