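import Mathlib
import Cfsg.Agent.H553.SympTwo
import Cfsg.Agent.LieClassical.SympSimple
import Cfsg.Agent.LieClassical.SympPerfect
import Cfsg.Agent.LieClassical.SpFourTwo
import Cfsg.Agent.S0246
import Cfsg.Agent.S0765

/-!
# Classes of solvable irreducible symplectic groups

`SR.subB`: if the finite solvable group `S` acts faithfully and irreducibly on the symplectic space
`W` of order `p ^ (2 n)`, every subgroup of `S` has at most `3 ^ (p ^ n - 1)` conjugacy classes.
-/

set_option autoImplicit false

namespace Cfsg.Agent.H553.Sy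

open Module SB Subgroup

universe u

/-- A solvable subgroup of `Sp_4(3)` has index at least 8. -/
theorem card_le_quasi {S X : Type*} [Group S] [Finite S] [Group.IsSolvable S] [Group X] [Finite X]
    (hcard : Nat.card X = 51840) (hcen : Nat.card (center X) = 2) (hperf : commutator X = ⊤)
    (hsimp : ∀ N : Subgroup X, N.Normal → ¬ N ≤ center X → commutator X ≤ N)
    (f : S →* X) (hf : Function.Injective f) : Nat.card S ≤ 6561 := by
  classical
  have hR : Nat.card f.range = Nat.card S :=
    (Nat.card_congr (MonoidHom.ofInjective hf).toEquiv).symm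
  have hRs : Group.IsSolvable f.range := Group.isSolvable_of_surjective f.rangeRestrict_surjective
  have hidx := Subgroup.card_mul_index f.range
  rw [hR, hcard] at hidx
  by_contra hlt
  push Not at hlt
  have hi : f.range.index ≤ 7 := by
    by_contra h
    push Not at h
    have := Nat.mul_le_mul hlt.le h
    omega
  have h1 : f.range.normalCore.index ∣ f.range.index.factorial := by
    rw [normalCore_eq_ker, index_ker, index_eq_card, ← Nat.card_perm]
    exact card_subgroup_dvd_card (MulAction.toPermHom X (X ⧸ f.range)).range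
  have h2 : f.range.normalCore.index ≤ 5040 :=
    (Nat.le_of_dvd (Nat.factorial_pos _) h1).trans (Nat.factorial_le hi)
  have h3 := Subgroup.card_mul_index f.range.normalCore
  rw [hcard] at h3
  by_cases hc : f.range.normalCore ≤ center X
  · have h4 : Nat.card f.range.normalCore ≤ 2 := by
      rw [← hcen]
      exact Subgroup.card_le_of_le hc
    have := Nat.mul_le_mul h4 h2
    omega
  · have h5 := hsimp _ inferInstance hc
    have h6 : f.range = ⊤ := by
      rw [eq_top_iff, ← hperf]
      exact h5.trans (Subgroup.normalCore_le _)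
    -- `X` would be solvable
    have h7 : Group.IsSolvable (⊤ : Subgroup X) := by rw [← h6]; exact hRs
    have h8 : Group.IsSolvable X :=
      Group.isSolvable_of_surjective (f := (⊤ : Subgroup X).subtype) (fun x => ⟨⟨x, trivial⟩, rfl⟩)
    have h9 : Nontrivial X := by
      rw [← Finite.one_lt_card_iff_nontrivial, hcard]
      norm_num
    have h10 := Group.IsSolvable.commutator_lt_top_of_nontrivial X
    exact h10.ne hperf

theorem card_le_sp43 {S : Type*} [Group S] [Finite S] [Group.IsSolvable S] [Fact (Nat.Prime 3)]
    (f : S →* Matrix.symplecticGroup (Fin 2) (ZMod 3)) (hf : Function.Injective f) :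
    Nat.card S ≤ 6561 := by
  have hcard : Nat.card (Matrix.symplecticGroup (Fin 2) (ZMod 3)) = 51840 := by
    rw [LieClassical.SympCount.card_symplecticGroup, ZMod.card]
    norm_num [Finset.prod_range_succ]
  have hcen : Nat.card (center (Matrix.symplecticGroup (Fin 2) (ZMod 3))) = 2 := by
    rw [S0246.result (F := ZMod 3) (ZMod.card 3) 2 (by norm_num)]
    norm_num
  exact card_le_quasi hcard hcen
    (LieClassical.SympPerfect.commutator_eq_top (Or.inr (Or.inl ⟨rfl, by rw [ZMod.card]⟩)))
    (fun N hN hc =>
      have := hN
      LieClassical.SympSimple.commutator_le_of_not_le_center (S0765.result 2) _ hc) f hf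

/-- A solvable subgroup of `Sp_4(2)` has at most 24 classes. -/
theorem le_sp42 {S : Type*} [Group S] [Finite S] [Group.IsSolvable S] [Fact (Nat.Prime 2)]
    (f : S →* Matrix.symplecticGroup (Fin 2) (ZMod 2)) (hf : Function.Injective f) :
    Nat.card (ConjClasses S) ≤ 24 := by
  obtain ⟨e⟩ := LieClassical.SpFourTwo.nonempty_equiv_perm (F := ZMod 2) (ZMod.card 2)
  have hinj : Function.Injective (e.toMonoidHom.comp f) := e.injective.comp hf
  rw [KClass.congr (MonoidHom.ofInjective hinj)]
  exact SolvPerm.six (Fin 6) (by simp) _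
    (Group.isSolvable_of_surjective (MonoidHom.rangeRestrict_surjective (e.toMonoidHom.comp f)))

/-- `n = 3`, the number of classes. -/
theorem SR.subB_three {W : Type u} [AddCommGroup W] [Module (ZMod 2) W] [Finite W]
    {S : Type u} [Group S] [Finite S] [Group.IsSolvable S] (R : SR 2 W S)
    (hW : Nat.card W = 2 ^ (2 * 3)) : SubB S 2187 := by
  intro X
  have hS := R.three hW
  by_cases h1 : Nat.card X ≤ 2187
  · exact KClass.le_card.trans h1
  push Not at h1
  have h2 : Nat.card X ≤ Nat.card S := Subgroup.card_le_card_group X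
  by_cases hc : IsMulCommutative X
  · exfalso
    -- `X = S` is abelian, so has order at most 64
    have hXt : X = ⊤ := by
      have h3 := Subgroup.card_mul_index X
      rw [← Subgroup.index_eq_one]
      by_contra h4
      have h5 : X.index ≠ 0 := Subgroup.index_ne_zero_of_finite
      have h6 : 2 ≤ X.index := by omega
      have h7 := Nat.mul_le_mul h1 h6
      omega
    subst hXt
    have hnt : Nontrivial W := by
      rw [← Finite.one_lt_card_iff_nontrivial, hW]
      norm_num
    obtain ⟨w, hw⟩ := exists_ne (0 : W)
    have h3 := card_le_of_gen (ι := Unit) R.ρ R.inj ⊤ Set.univ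
      (fun c _ x _ => congrArg Subtype.val
        (hc.is_comm.comm (⟨c, trivial⟩ : (⊤ : Subgroup S)) ⟨x, trivial⟩))
      (fun _ => w) (fun U hU1 hU2 => by
        rcases R.irr U (fun s u hu => hU1 s trivial u hu) with h | h
        · have h4 := hU2 ()
          rw [h] at h4
          exact absurd h4 hw
        · exact h)
      (fun _ => Set.univ) (fun _ _ _ => trivial)
    rw [Nat.card_pi, Finset.prod_const, Finset.card_univ, Fintype.card_unit, pow_one,
      Nat.card_congr (Equiv.Set.univ W), hW] at h3
    omega
  · have h3 := FiveEight.five_eight hc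
    omega

/-- **Classes of solvable irreducible symplectic groups.** -/
theorem SR.subB {p : ℕ} [hp : Fact p.Prime] {W : Type u} [AddCommGroup W] [Module (ZMod p) W]
    [Finite W] {S : Type u} [Group S] [Finite S] [Group.IsSolvable S] (R : SR p W S)
    (hW : Nontrivial W) :
    ∃ n : ℕ, 1 ≤ n ∧ Nat.card W = p ^ (2 * n) ∧ SubB S (3 ^ (p ^ n - 1)) := by
  obtain ⟨n, hn, f, hf⟩ := exists_embedding R.ρ R.inj R.B R.alt R.nd R.inv
  have h0 : 1 ≤ n := by
    by_contra h
    have h1 : n = 0 := by omega
    subst h1
    rw [← Finite.one_lt_card_iff_nontrivial, hn] at hW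
    norm_num at hW
  refine ⟨n, h0, hn, ?_⟩
  by_cases hgen : (n = 2 ∧ 5 ≤ p) ∨ (3 ≤ n ∧ 3 ≤ p) ∨ (6 ≤ n ∧ 2 ≤ p)
  · have hfin : Finite (Matrix.symplecticGroup (Fin n) (ZMod p)) := inferInstance
    exact SubB.of_card ((Nat.card_le_card_of_injective f hf).trans
      ((card_sp_le p n).trans (num_gen p n hgen)))
  have hp2 := hp.out.two_le
  by_cases h1 : n = 1
  · subst h1
    intro X
    rw [pow_one]
    exact bound_one hn (R.ρ.comp X.subtype) (R.inj.comp X.subtype_injective) R.B R.nd
      (fun s v w => R.inv s v w)
  by_cases h2 : n = 2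
  · subst h2
    have h4 : p = 2 ∨ p = 3 := by
      have h5 : p < 5 := by
        by_contra h
        exact hgen (Or.inl ⟨rfl, by omega⟩)
      have h6 : p ≠ 4 := by
        rintro rfl
        exact absurd hp.out (by norm_num)
      omega
    rcases h4 with rfl | rfl
    · intro X
      have hX : Group.IsSolvable X := inferInstance
      exact (le_sp42 (f.comp X.subtype) (hf.comp X.subtype_injective)).trans (by norm_num)
    · exact SubB.of_card ((card_le_sp43 f hf).trans (by norm_num))
  have h3 : p = 2 := by
    by_contra h
    exact hgen (Or.inr (Or.inl ⟨by omega, by omega⟩))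
  subst h3
  have h6 : n ≤ 5 := by
    by_contra h
    exact hgen (Or.inr (Or.inr ⟨by omega, le_rfl⟩))
  have h7 : n = 3 ∨ n = 4 ∨ n = 5 := by omega
  rcases h7 with rfl | rfl | rfl
  · exact (R.subB_three hn).mono (by norm_num)
  · exact SubB.of_card (R.four hn)
  · exact SubB.of_card (R.five hn)

end Cfsg.Agent.H553.Sy
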