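import Mathlib
import Cfsg.Agent.H553.SympAll

/-!
# The commutator form on a chief factor above a cyclic centre
-/

set_option autoImplicit false

namespace Cfsg.Agent.H553.CF

open Module SB Subgroup Sy

universe u

/-- A form of `SR.subB` for additive groups. -/
theorem add_bound {p : ℕ} [hp : Fact p.Prime] {W : Type u} [AddCommGroup W] [Module (ZMod p) W]
    [Finite W] [Nontrivial W] {S : Type u} [Group S] [Finite S] [Group.IsSolvable S]
    (φ : S → (W →+ W)) (hφ1 : ∀ x, φ 1 x = x) (hφm : ∀ s t x, φ (s * t) x = φ s (φ t x))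
    (hφ : ∀ s, (∀ x, φ s x = x) → s = 1)
    (hirr : ∀ K : AddSubgroup W, (∀ s, ∀ k ∈ K, φ s k ∈ K) → K = ⊥ ∨ K = ⊤)
    (c : W → W → ZMod p) (hl : ∀ x y z, c (x + y) z = c x z + c y z)
    (hr : ∀ x y z, c x (y + z) = c x y + c x z) (halt : ∀ x, c x x = 0)
    (hnd : ∀ x, (∀ y, c x y = 0) → x = 0) (hinv : ∀ s x y, c (φ s x) (φ s y) = c x y) :
    ∃ n : ℕ, 1 ≤ n ∧ Nat.card W = p ^ (2 * n) ∧ SubB S (3 ^ (p ^ n - 1)) := by
  let ρ : S →* Module.End (ZMod p) W :=
    { toFun := fun s => AddMonoidHom.toZModLinearMap p (φ s)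
      map_one' := by
        refine LinearMap.ext fun x => ?_
        rw [AddMonoidHom.coe_toZModLinearMap, hφ1, Module.End.one_apply]
      map_mul' := fun s t => by
        refine LinearMap.ext fun x => ?_
        rw [Module.End.mul_apply, AddMonoidHom.coe_toZModLinearMap,
          AddMonoidHom.coe_toZModLinearMap, AddMonoidHom.coe_toZModLinearMap, hφm] }
  have hρ : ∀ s x, ρ s x = φ s x := fun s x => by
    change AddMonoidHom.toZModLinearMap p (φ s) x = _
    rw [AddMonoidHom.coe_toZModLinearMap]
  let c₁ : W → (W →ₗ[ZMod p] ZMod p) := fun x =>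
    AddMonoidHom.toZModLinearMap p (AddMonoidHom.mk' (fun y : W => c x y) (fun y z => hr _ _ _))
  have hc₁ : ∀ x y, c₁ x y = c x y := fun x y => by
    change AddMonoidHom.toZModLinearMap p _ y = _
    rw [AddMonoidHom.coe_toZModLinearMap]
    rfl
  let B : LinearMap.BilinForm (ZMod p) W :=
    AddMonoidHom.toZModLinearMap p (AddMonoidHom.mk' c₁ (fun x y => by
      refine LinearMap.ext fun z => ?_
      rw [LinearMap.add_apply, hc₁, hc₁, hc₁]
      exact hl _ _ _))
  have hB1 : ∀ x, B x = c₁ x := fun x => by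
    change AddMonoidHom.toZModLinearMap p _ x = _
    rw [AddMonoidHom.coe_toZModLinearMap]
    rfl
  have hB : ∀ x y, B x y = c x y := fun x y => by
    rw [hB1]
    exact hc₁ x y
  let R : SR p W S :=
    { ρ := ρ
      inj := by
        rw [injective_iff_map_eq_one]
        intro s hs
        apply hφ
        intro x
        rw [← hρ, hs, Module.End.one_apply]
      B := B
      alt := fun v => by rw [hB]; exact halt v
      nd := fun v hv => hnd v (fun w => by rw [← hB]; exact hv w)
      inv := fun s v w => by rw [hB, hB, hρ, hρ]; exact hinv s v w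
      irr := fun U hU => by
        rcases hirr U.toAddSubgroup (fun s k hk => by rw [← hρ]; exact hU s _ hk) with h | h
        · left
          rw [Submodule.eq_bot_iff]
          intro x hx
          have h1 : x ∈ U.toAddSubgroup := hx
          rw [h] at h1
          exact h1
        · right
          rw [Submodule.eq_top_iff']
          intro x
          have h1 : x ∈ U.toAddSubgroup := by rw [h]; trivial
          exact h1 }
  exact R.subB inferInstance

/-- A group theoretic form of `SR.subB`. -/
theorem abs_bound {M : Type u} [CommGroup M] [Finite M] [Nontrivial M] {p : ℕ} [hp : Fact p.Prime]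
    (hexp : ∀ x : M, x ^ p = 1) {S : Type u} [Group S] [Finite S] [Group.IsSolvable S]
    (φ : S →* MulAut M) (hφ : Function.Injective φ)
    (hirr : ∀ K : Subgroup M, (∀ s, ∀ k ∈ K, φ s k ∈ K) → K = ⊥ ∨ K = ⊤)
    (c : M → M → ZMod p) (hl : ∀ x y z, c (x * y) z = c x z + c y z)
    (hr : ∀ x y z, c x (y * z) = c x y + c x z) (halt : ∀ x, c x x = 0)
    (hnd : ∀ x, (∀ y, c x y = 0) → x = 1) (hinv : ∀ s x y, c (φ s x) (φ s y) = c x y) :
    ∃ n : ℕ, 1 ≤ n ∧ Nat.card M = p ^ (2 * n) ∧ SubB S (3 ^ (p ^ n - 1)) := by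
  have hm : Module (ZMod p) (Additive M) :=
    AddCommGroup.zmodModule (fun x : Additive M => congrArg Additive.ofMul (hexp x.toMul))
  exact add_bound (W := Additive M)
    (fun s => MonoidHom.toAdditive (φ s).toMonoidHom)
    (fun x => by
      change Additive.ofMul (φ 1 x.toMul) = x
      rw [map_one]
      rfl)
    (fun s t x => by
      change Additive.ofMul (φ (s * t) x.toMul) = Additive.ofMul (φ s (φ t x.toMul))
      rw [map_mul]
      rfl)
    (fun s h => by
      apply hφ
      rw [map_one]
      ext x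
      exact congrArg Additive.toMul (h (Additive.ofMul x)))
    (fun K hK => by
      rcases hirr (AddSubgroup.toSubgroup' K) (fun s k hk => hK s _ hk) with h | h
      · left
        rw [eq_bot_iff]
        intro x hx
        have h1 : x.toMul ∈ AddSubgroup.toSubgroup' K := hx
        rw [h, Subgroup.mem_bot] at h1
        exact congrArg Additive.ofMul h1
      · right
        rw [eq_top_iff]
        intro x _
        have h1 : x.toMul ∈ AddSubgroup.toSubgroup' K := by rw [h]; trivial
        exact h1)
    (fun x y => c x.toMul y.toMul) (fun x y z => hl _ _ _) (fun x y z => hr _ _ _)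
    (fun x => halt _) (fun x h => congrArg Additive.ofMul (hnd x.toMul fun y => h (Additive.ofMul y)))
    (fun s x y => hinv s _ _)

/-- A linear functional on the elements of order `p` of a cyclic centre. -/
theorem exists_L {G : Type*} [Group G] [Finite G] (hcyc : IsCyclic (center G)) (p : ℕ)
    [hp : Fact p.Prime] : ∃ L : G → ZMod p,
      (∀ g h, g ∈ center G → g ^ p = 1 → h ∈ center G → h ^ p = 1 → L (g * h) = L g + L h) ∧
      (∀ g, g ∈ center G → g ^ p = 1 → L g = 0 → g = 1) := by
  classical
  let Ω : Subgroup (center G) :=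
    { carrier := {z | z ^ p = 1}
      mul_mem' := fun {a b} ha hb => by
        have h1 : Commute a b := Subtype.ext (mem_center_iff.mp b.2 a)
        change (a * b) ^ p = 1
        rw [h1.mul_pow, show a ^ p = 1 from ha, show b ^ p = 1 from hb, one_mul]
      one_mem' := one_pow p
      inv_mem' := fun {a} ha => by
        change a⁻¹ ^ p = 1
        rw [inv_pow, show a ^ p = 1 from ha, inv_one] }
  have hΩ : ∀ z : center G, z ∈ Ω ↔ z ^ p = 1 := fun z => Iff.rfl
  have hΩc : IsCyclic Ω := inferInstance
  have hdvd : Nat.card Ω ∣ p := by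
    rw [← IsCyclic.exponent_eq_card]
    refine Monoid.exponent_dvd_of_forall_pow_eq_one ?_
    intro z
    exact Subtype.ext z.2
  have hmem : ∀ g, g ∈ center G → g ^ p = 1 → ∃ hc : g ∈ center G, (⟨g, hc⟩ : center G) ∈ Ω :=
    fun g hg hgp => ⟨hg, Subtype.ext hgp⟩
  rcases (Nat.dvd_prime hp.out).mp hdvd with h1 | h1
  · have hsub : Subsingleton Ω := (Nat.card_eq_one_iff_unique.mp h1).1
    refine ⟨fun _ => 0, fun _ _ _ _ _ _ => by simp, fun g hg hgp _ => ?_⟩
    obtain ⟨hc, hm⟩ := hmem g hg hgp
    have h2 : (⟨⟨g, hc⟩, hm⟩ : Ω) = 1 := Subsingleton.elim _ _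
    exact congrArg (fun z : Ω => ((z : center G) : G)) h2
  · let e : Ω ≃* Multiplicative (ZMod p) := mulEquivOfPrimeCardEq h1 (by
      rw [Nat.card_congr Multiplicative.toAdd, Nat.card_zmod])
    refine ⟨fun g => if h : ∃ hc : g ∈ center G, (⟨g, hc⟩ : center G) ∈ Ω then
      (e ⟨⟨g, h.choose⟩, h.choose_spec⟩).toAdd else 0, ?_, ?_⟩
    · intro g h hg hgp hh hhp
      have h2 := hmem g hg hgp
      have h3 := hmem h hh hhp
      have h4 : ∃ hc : g * h ∈ center G, (⟨g * h, hc⟩ : center G) ∈ Ω := by
        obtain ⟨a, b⟩ := h2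
        obtain ⟨c, d⟩ := h3
        exact ⟨mul_mem a c, Ω.mul_mem b d⟩
      simp only [dif_pos h2, dif_pos h3, dif_pos h4]
      rw [← toAdd_mul, ← map_mul]
      rfl
    · intro g hg hgp hL
      have h2 := hmem g hg hgp
      simp only [dif_pos h2] at hL
      have h3 : e ⟨⟨g, h2.choose⟩, h2.choose_spec⟩ = 1 := toAdd_eq_zero.mp hL
      have h4 := (map_eq_one_iff e e.injective).mp h3
      exact congrArg (fun z : Ω => ((z : center G) : G)) h4

end Cfsg.Agent.H553.CF
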