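import Cfsg.Agent.S2536
import Cfsg.Prelude.Def_HallClasses

/-!
# No Hall `{s, t}`-subgroups in symmetric and alternating groups, `3 ≤ s < t ≤ m` (helper553)
-/

set_option autoImplicit false

namespace Cfsg.Agent.H553.HallPerm

open Subgroup Cfsg

theorem no_hall_perm (m : ℕ) {s t : ℕ} (hs : s.Prime) (ht : t.Prime) (h3 : 3 ≤ s) (hst : s < t) (htm : t ≤ m)
    (X : Subgroup (Equiv.Perm (Fin m))) (hX : IsPiHall ({s, t} : Set ℕ) X) : False := by
  have h2 : (2 : ℕ) ∉ ({s, t} : Set ℕ) := by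
    rintro (h | h)
    · omega
    · simp only [Set.mem_singleton_iff] at h
      omega
  have h1 := (Cfsg.Agent.S2536.result m ({s, t} : Set ℕ)
    ⟨s, t, hs, ht, hst.ne, by simp, by simp, by omega, htm⟩ ⟨2, Nat.prime_two, by omega, h2⟩).mp ⟨X, hX⟩
  rcases h1 with ⟨_, h⟩ | ⟨_, h⟩
  · exact h2 ((h 2 Nat.prime_two (by omega)).mpr (by omega))
  · exact h2 ((h 2 Nat.prime_two (by omega)).mpr (Or.inl rfl))

/-- `Sym(α)` has no Hall `{s, t}`-subgroup for `3 ≤ s < t ≤ |α|`. -/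
theorem no_hall_perm' (α : Type*) [Finite α] {s t : ℕ} (hs : s.Prime) (ht : t.Prime) (h3 : 3 ≤ s) (hst : s < t)
    (htm : t ≤ Nat.card α) (X : Subgroup (Equiv.Perm α)) (hX : IsPiHall ({s, t} : Set ℕ) X) : False := by
  classical
  have e : Equiv.Perm α ≃* Equiv.Perm (Fin (Nat.card α)) := (Finite.equivFin α).permCongrHom
  refine no_hall_perm _ hs ht h3 hst htm (X.map e.toMonoidHom) ⟨?_, ?_⟩
  · rw [card_map_of_injective e.injective]; exact hX.1
  · rw [show (X.map e.toMonoidHom).index = X.index from index_map_equiv X e]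
    exact hX.2

end Cfsg.Agent.H553.HallPerm
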