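import Cfsg.Agent.H553.OddAlt
import Cfsg.Agent.H553.OddInd
import Cfsg.Agent.H553.ExcFull
import Cfsg.Agent.H556.HallClRows
import Cfsg.Agent.H170.HL.ClRows
import Cfsg.Agent.H565.PairExc
import Cfsg.Agent.H555.Hall.Rows
import Cfsg.Agent.H555.Hall.RuIso
import Cfsg.Agent.H555.Hall.ThRow
import Cfsg.Agent.H555.Hall.HNRow
import Cfsg.Agent.H553.BRow
import Cfsg.Agent.H171.Odd.CoRowsB
import Cfsg.Agent.H171.Odd.CoRows
import Cfsg.Agent.H171.Odd.LyRow
import Cfsg.Agent.H573.Hall.FiTwentyTwo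
import Cfsg.Agent.H573.Hall.FiTwentyThree
import Cfsg.Agent.H573.Hall.FiTwentyFour
import Cfsg.Agent.H573.Hall.Monster
import Cfsg.Agent.H171.Odd.BThree
import Cfsg.Agent.NotCT.Orders
import Cfsg.Prelude.Def_Classification2

/-!
# The assembly of S4350 over the list of simple groups (helper553)
-/

set_option autoImplicit false

open Cfsg Subgroup

namespace Cfsg.Agent.H553.OddHall

universe u

/-- every known simple group has the property of S4350 -/
theorem odd_known {S : Type u} [Group S] [Finite S] [IsSimpleGroup S]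
    (hna : ¬ IsMulCommutative S) (hind : OddInd S) (hS : IsKnownSimple' S) : OddC S := by
  rcases hS with h | h | h | h | h | h | h | h | h | h
  · exfalso
    have : Fact (Nat.card S).Prime := ⟨h⟩
    have : IsCyclic S := isCyclic_of_prime_card (p := Nat.card S) rfl
    exact hna inferInstance
  · exact OddAlt.oddC_alternating h
  · obtain ⟨F, iF, iFt, n, h1⟩ := h
    obtain ⟨p, hp⟩ := CharP.exists F
    exact H556.HallClRows.oddC_psl hna hind (p := p) ⟨F, iF, iFt, hp, n, h1⟩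
  · obtain ⟨F, iF, iFt, n, h1⟩ := h
    obtain ⟨p, hp⟩ := CharP.exists F
    exact H170.HL.Rows.oddC_psp hna hind (p := p) ⟨F, iF, iFt, hp, n, h1⟩
  · obtain ⟨F, iF, iFt, n, h1⟩ := h
    obtain ⟨p, hp⟩ := CharP.exists F
    exact H556.HallClRows.oddC_psu hna hind (p := p) ⟨F, iF, iFt, hp, n, h1⟩
  · obtain ⟨F, iF, iFt, n, h1⟩ := h
    obtain ⟨p, hp⟩ := CharP.exists F
    exact H170.HL.Rows.oddC_pomegaOdd hna hind (p := p) ⟨F, iF, iFt, hp, n, h1⟩
  · obtain ⟨F, iF, iFt, n, h1⟩ := h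
    obtain ⟨p, hp⟩ := CharP.exists F
    exact H170.HL.Rows.oddC_pomegaPlus hna hind (p := p) ⟨F, iF, iFt, hp, n, h1⟩
  · obtain ⟨F, iF, iFt, n, h1⟩ := h
    obtain ⟨p, hp⟩ := CharP.exists F
    exact H170.HL.Rows.oddC_pomegaMinus hna hind (p := p) ⟨F, iF, iFt, hp, n, h1⟩
  · rcases h with h | h | h | h | h | h | h | h | h | h | h
    · exact H565.NM.oddC_isoG2 h
    · exact H572.ExcRow.oddC_isoF4 h
    · exact ExcFull.oddC_isoE6 h
    · exact ExcFull.oddC_isoE7 h
    · exact ExcFull.oddC_isoE8 h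
    · exact ExcFull.oddC_iso2E6 h
    · exact H565.NM.oddC_iso3D4 h
    · exact H565.NM.oddC_isoSuzuki h
    · exact H565.NM.oddC_isoRee h
    · exact H565.NM.oddC_iso2F4 h
    · exact H565.NM.oddC_isoTits h
  · rcases h with h | h | h | h | h | h | h | h | h | h | h | h | h | h | h | h | h | h | h | h | h | h | h | h | h | h
    · exact H555.Hall.oddC_m11 (NotCT.Orders.m11 h)
    · exact H555.Hall.oddC_m12 (NotCT.Orders.m12 h)
    · exact H555.Hall.oddC_m22 (NotCT.Orders.m22 h)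
    · exact H555.Hall.oddC_m23 (NotCT.Orders.m23 h)
    · exact H555.Hall.oddC_m24 (NotCT.Orders.m24 h)
    · exact H555.Hall.oddC_j1 (NotCT.Orders.j1 h)
    · exact H555.Hall.oddC_j2 (NotCT.Orders.j2 h)
    · exact H555.Hall.oddC_j3 (NotCT.Orders.j3 h)
    · exact H555.Hall.oddC_j4 (NotCT.Orders.j4 h)
    · exact H171.Odd.oddC_co1 h hna hind
    · exact H171.Odd.oddC_co2 h hna hind
    · exact H171.Odd.oddC_co3 h hna hind
    · exact H171.Odd.oddC_mcl h hna hind
    · exact H555.Hall.oddC_hs (NotCT.Orders.hs h)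
    · exact H171.Odd.oddC_suz h hna hind
    · exact H555.Hall.oddC_he (NotCT.Orders.he h)
    · exact H555.Hall.oddC_ru h
    · exact H555.Hall.oddC_on (NotCT.Orders.on h)
    · exact H171.Odd.oddC_ly h hna hind
    · exact H573.Hall.odd_fi22 hna hind h
    · exact H573.Hall.odd_fi23 hna hind h
    · exact H573.Hall.odd_fi24 hna hind h
    · exact H555.Hall.HNRow.oddC_hn hna hind h
    · exact H555.Hall.ThRow.oddC_th hna hind h
    · exact BRow.oddC_b_of (fun _ hr => H171.Odd.BThree.inv_b3 hr) hna hind h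
    · exact H573.Hall.odd_m hna hind h

end Cfsg.Agent.H553.OddHall
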