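import Mathlib
import Cfsg.Agent.H553.Recur
import Cfsg.Agent.H553.Weights

/-!
# Solvable linear groups all of whose abelian normal subgroups are scalar

`nb_of_scalar` and the main bound `bound_all`.
-/

set_option autoImplicit false

namespace Cfsg.Agent.H553.Quasi

open Module SB Subgroup CF
open scoped commutatorElement

universe u v

/-- `D(E)` is nilpotent if `C_G(E) ≤ Z(G)` . -/
theorem D_nilpotent {G : Type u} [Group G] (E : Subgroup G)
    (hc : ∀ x : G, (∀ y ∈ E, x * y = y * x) → x ∈ center G) : Group.IsNilpotent (D E) := by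
  have h1 : ⁅E, D E⁆ ≤ center G := by
    rw [Subgroup.commutator_le]
    intro k hk g hg
    exact mem_D.mp hg k hk
  have h2 : ⁅⁅E, D E⁆, D E⁆ = ⊥ := by
    rw [Subgroup.commutator_eq_bot_iff_le_centralizer]
    exact h1.trans (Subgroup.center_le_centralizer _)
  have h3 : ⁅⁅D E, E⁆, D E⁆ = ⊥ := by
    rw [Subgroup.commutator_comm (D E) E]
    exact h2
  have h4 : ⁅⁅D E, D E⁆, E⁆ = ⊥ := commutator_commutator_eq_bot_of_rotate h3 h2
  have h5 : ⁅D E, D E⁆ ≤ center G := by
    rw [Subgroup.commutator_eq_bot_iff_le_centralizer] at h4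
    intro x hx
    exact hc x (fun y hy => (mem_centralizer_iff.mp (h4 hx) y hy).symm)
  apply Group.of_quotient_center_nilpotent
  have h6 : ∀ a b : (D E) ⧸ center (D E), a * b = b * a := by
    intro a b
    obtain ⟨x, rfl⟩ := QuotientGroup.mk'_surjective _ a
    obtain ⟨y, rfl⟩ := QuotientGroup.mk'_surjective _ b
    rw [← commutatorElement_eq_one_iff_mul_comm, ← map_commutatorElement]
    refine (QuotientGroup.eq_one_iff _).2 ?_
    rw [mem_center_iff]
    intro g
    apply Subtype.ext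
    have h7 : ((⁅x, y⁆ : D E) : G) ∈ center G :=
      h5 (Subgroup.commutator_mem_commutator x.2 y.2)
    exact mem_center_iff.mp h7 g
  let _ : CommGroup ((D E) ⧸ center (D E)) :=
    { (inferInstance : Group ((D E) ⧸ center (D E))) with mul_comm := h6 }
  infer_instance

variable {G : Type u} [Group G] {V : Type v} [AddCommGroup V] [Module ℂ V]
  [FiniteDimensional ℂ V]

omit [FiniteDimensional ℂ V] in
/-- The trace of a non-central element of `E` vanishes. -/
theorem trace_eq_zero (ρ : Representation ℂ G V) (hρ : Function.Injective ρ)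
    (hsc : ∀ z ∈ center G, ∃ c : ℂ, ∀ v, ρ z v = c • v) {x y : G}
    (hxy : ⁅y, x⁆ ∈ center G) (hne : ⁅y, x⁆ ≠ 1) : LinearMap.trace ℂ V (ρ x) = 0 := by
  obtain ⟨c, hc⟩ := hsc _ hxy
  have hc1 : c ≠ 1 := by
    rintro rfl
    apply hne
    apply hρ
    rw [map_one]
    ext v
    rw [hc, one_smul]
    rfl
  have h1 : ρ (y * x * y⁻¹) = c • ρ x := by
    have h2 : y * x * y⁻¹ = ⁅y, x⁆ * x := by rw [commutatorElement_def]; group
    rw [h2, map_mul]
    ext v
    rw [Module.End.mul_apply, hc]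
    rfl
  have h3 : LinearMap.trace ℂ V (ρ (y * x * y⁻¹)) = LinearMap.trace ℂ V (ρ x) := by
    rw [map_mul, LinearMap.trace_mul_comm, ← map_mul]
    congr 2
    group
  rw [h1, map_smul, smul_eq_mul] at h3
  have h4 : (c - 1) * LinearMap.trace ℂ V (ρ x) = 0 := by linear_combination h3
  exact (mul_eq_zero.mp h4).resolve_left (sub_ne_zero.mpr hc1)

/-- `|E : Z| ≤ (dim V)²`. -/
theorem e_le [Finite G] (ρ : Representation ℂ G V) (hρ : Function.Injective ρ)
    (hV : 1 ≤ finrank ℂ V)
    (hsc : ∀ z ∈ center G, ∃ c : ℂ, ∀ v, ρ z v = c • v) (E : Subgroup G) (hZE : center G ≤ E)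
    (hEE : ∀ x ∈ E, ∀ y ∈ E, ⁅x, y⁆ ∈ center G)
    (hEc : ∀ x ∈ E, (∀ y ∈ E, x * y = y * x) → x ∈ center G) (e : ℕ)
    (he : Nat.card E = e ^ 2 * Nat.card (center G)) : e ≤ finrank ℂ V := by
  classical
  have hidx : Nat.card (E ⧸ (center G).subgroupOf E) = e ^ 2 := by
    have h1 := card_mul_relIndex hZE
    rw [he, mul_comm] at h1
    exact Nat.eq_of_mul_eq_mul_right Nat.card_pos h1
  have := Fintype.ofFinite (E ⧸ (center G).subgroupOf E)
  let r : E ⧸ (center G).subgroupOf E → G := fun q => ((q.out : E) : G)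
  have hr : ∀ q, r q ∈ E := fun q => (q.out).2
  have htr : ∀ q q', q ≠ q' → LinearMap.trace ℂ V (ρ (r q * (r q')⁻¹)) = 0 := by
    intro q q' hqq
    have hx : r q * (r q')⁻¹ ∈ E := mul_mem (hr q) (inv_mem (hr q'))
    have hxZ : r q * (r q')⁻¹ ∉ center G := by
      intro h
      apply hqq
      rw [← QuotientGroup.out_eq' q, ← QuotientGroup.out_eq' q', QuotientGroup.eq, mem_subgroupOf]
      change (r q)⁻¹ * r q' ∈ center G
      have h1 := inv_mem h
      have h2 : (r q * (r q')⁻¹)⁻¹ = r q' * (r q)⁻¹ := by group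
      rw [h2] at h1
      have h3 := mem_center_iff.mp h1 (r q)
      have h4 : (r q)⁻¹ * r q' = r q' * (r q)⁻¹ := by
        calc (r q)⁻¹ * r q' = (r q)⁻¹ * (r q' * (r q)⁻¹ * r q) := by group
          _ = (r q)⁻¹ * (r q * (r q' * (r q)⁻¹)) := by rw [h3]
          _ = r q' * (r q)⁻¹ := by group
      rw [h4]
      exact h1
    have hex : ∃ y ∈ E, ⁅y, r q * (r q')⁻¹⁆ ≠ 1 := by
      by_contra hcon
      push Not at hcon
      apply hxZ
      refine hEc _ hx (fun y hy => ?_)
      exact (commutatorElement_eq_one_iff_mul_comm.mp (hcon y hy)).symm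
    obtain ⟨y, hy, hne⟩ := hex
    exact trace_eq_zero ρ hρ hsc (hEE y hy _ hx) hne
  have hli : LinearIndependent ℂ (fun q => (ρ (r q) : V →ₗ[ℂ] V)) := by
    rw [Fintype.linearIndependent_iff]
    intro g hg q₀
    have h1 : LinearMap.trace ℂ V ((∑ q, g q • (ρ (r q) : V →ₗ[ℂ] V)) * ρ ((r q₀)⁻¹)) = 0 := by
      rw [hg, zero_mul, map_zero]
    rw [Finset.sum_mul, map_sum, Finset.sum_eq_single q₀] at h1
    · rw [smul_mul_assoc, ← map_mul, mul_inv_cancel, map_one, map_smul, LinearMap.trace_one,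
        smul_eq_mul] at h1
      rcases mul_eq_zero.mp h1 with h2 | h2
      · exact h2
      · exfalso
        have h3 : finrank ℂ V = 0 := by exact_mod_cast h2
        omega
    · intro q _ hq
      rw [smul_mul_assoc, ← map_mul, map_smul, htr q q₀ hq, smul_zero]
    · intro h
      exact absurd (Finset.mem_univ _) h
  have h5 := hli.fintype_card_le_finrank
  rw [← Nat.card_eq_fintype_card, hidx, Module.finrank_linearMap] at h5
  by_contra hlt
  push Not at hlt
  have := Nat.mul_lt_mul'' hlt hlt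
  rw [pow_two] at h5
  omega

/-- **The quasi-primitive case.** -/
theorem nb_of_scalar [Finite G] [Group.IsSolvable G] (ρ : Representation ℂ G V)
    (hρ : Function.Injective ρ) (hV : 1 ≤ finrank ℂ V)
    (hs : ∀ A : Subgroup G, A.Normal → (∀ x ∈ A, ∀ y ∈ A, x * y = y * x) →
      ∀ a ∈ A, ∃ c : ℂ, ∀ v, ρ a v = c • v) : NB G (3 ^ (finrank ℂ V - 1)) := by
  classical
  have hsc : ∀ z ∈ center G, ∃ c : ℂ, ∀ v, ρ z v = c • v :=
    hs (center G) inferInstance (fun x hx y _ => (mem_center_iff.mp hx y).symm)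
  have hab : ∀ A : Subgroup G, A.Normal → (∀ x ∈ A, ∀ y ∈ A, x * y = y * x) → A ≤ center G := by
    intro A hA hAc a ha
    obtain ⟨c, hc⟩ := hs A hA hAc a ha
    rw [mem_center_iff]
    intro g
    apply hρ
    rw [map_mul, map_mul]
    ext v
    rw [Module.End.mul_apply, Module.End.mul_apply, hc, hc, map_smul]
  have hnt : Nontrivial V := Module.nontrivial_of_finrank_pos (R := ℂ) (by omega)
  obtain ⟨v₀, hv₀⟩ := exists_ne (0 : V)
  choose! χ hχ using hsc
  have hcyc : IsCyclic (center G) := by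
    let f : center G →* ℂ :=
      { toFun := fun z => χ z
        map_one' := by
          have h1 := hχ 1 (one_mem _) v₀
          rw [map_one, Module.End.one_apply] at h1
          have h2 : (χ 1 - 1) • v₀ = 0 := by rw [sub_smul, one_smul, ← h1, sub_self]
          have h3 := (smul_eq_zero.mp h2).resolve_right hv₀
          exact sub_eq_zero.mp h3
        map_mul' := fun z w => by
          have h1 := hχ (z * w) (mul_mem z.2 w.2) v₀
          rw [map_mul, Module.End.mul_apply, hχ w w.2, map_smul, hχ z z.2, smul_smul] at h1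
          have h2 : (χ (z * w) - χ z * χ w) • v₀ = 0 := by
            rw [sub_smul, ← h1, mul_comm, sub_self]
          exact sub_eq_zero.mp ((smul_eq_zero.mp h2).resolve_right hv₀) }
    refine isCyclic_of_injective_ringHom f ?_
    rw [injective_iff_map_eq_one]
    intro z hz
    apply Subtype.ext
    apply hρ
    rw [Subgroup.coe_one, map_one]
    ext v
    have h1 : χ z = 1 := hz
    rw [hχ z z.2, h1, one_smul]
    rfl
  obtain ⟨E, hEn, hZE, -, hEE, hEc, e, he, hEcard, hEsub⟩ :=
    T_all hcyc hab _ ⊤ rfl inferInstance le_top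
  have hDn := D_normal hEn
  have h1 : NB G (3 ^ (e - 1)) :=
    ⟨D E, hDn, D_nilpotent E (fun x hx => hEc x trivial hx), hEsub hDn⟩
  refine h1.mono (Nat.pow_le_pow_right (by norm_num) ?_)
  have h2 := e_le ρ hρ hV (fun z hz => ⟨χ z, hχ z hz⟩) E hZE hEE (fun x _ hx => hEc x trivial hx)
    e hEcard
  omega

/-- **The bound in all dimensions.** -/
theorem bound_all (n : ℕ) (hn : 1 ≤ n) : Weights.Bound.{u, v} n := by
  induction n using Nat.strong_induction_on with
  | _ n ih =>
  intro G _ _ _ V _ _ _ ρ hρ hV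
  subst hV
  by_cases h : ∀ A : Subgroup G, A.Normal → (∀ x ∈ A, ∀ y ∈ A, x * y = y * x) →
      ∀ a ∈ A, ∃ c : ℂ, ∀ v, ρ a v = c • v
  · exact nb_of_scalar ρ hρ hn h
  · push Not at h
    obtain ⟨A, hA, hAc, a, haA, ha⟩ := h
    refine Weights.nb_of_not_scalar ρ hρ A hA hAc hn ?_ (fun m hm hmlt => ih m hmlt hm)
    intro hcon
    obtain ⟨c, hc⟩ := hcon a haA
    obtain ⟨v, hv⟩ := ha c
    exact hv (hc v)

end Cfsg.Agent.H553.Quasi
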